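import Groth.Agent.EtQCoh.CechExact
import Groth.Agent.EtQCoh.PushAss
import Groth.Agent.SitePullUnit.DerivedClass

/-!
# Higher direct images of quasi-coherent modules along affine morphisms of spaces vanish
-/

set_option backward.isDefEq.respectTransparency false
set_option backward.isDefEq.respectTransparency.types false
set_option linter.style.haveILetI false

noncomputable section

universe u

open CategoryTheory CategoryTheory.Limits AlgebraicGeometry Opposite AlgSp

namespace Groth.Agent.AlgSpC7.AffinePush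

open Groth.Agent.AlgSpQ4.MV Groth.Agent.AlgSpDec Groth.Agent.EtQCoh

variable {S : Scheme.{u}} {X Y : Sp S} {f : X ⟶ Y} (hf : Representable f)

/-- Direct images along affine morphisms preserve epimorphisms with acyclic kernel. -/
theorem epi_pushEt_map (haff : IsAffineMor f) (Q : ShortComplex (AbEt X)) (hQ : Q.ShortExact)
    (h1 : CartanEt.IsCechAcyclic Q.X₁) : Epi ((pushEt hf AddCommGrpCat.{u + 1}).map Q.g) := by
  refine (Sheaf.isLocallySurjective_iff_epi' AddCommGrpCat.{u + 1} ((pushEt hf AddCommGrpCat.{u + 1}).map Q.g)).1 ?_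
  refine ⟨fun {U} z => ?_⟩
  have hop : ∀ x : ↥U.obj.left.left, ∃ (O : U.obj.left.left.Opens), IsAffineOpen O ∧ x ∈ O := fun x => by
    obtain ⟨O, hO, hxO, -⟩ := exists_isAffineOpen_mem_and_subset (U := (⊤ : U.obj.left.left.Opens)) (x := x) trivial
    exact ⟨O, hO, hxO⟩
  choose O hO hxO using hop
  refine (etTop Y).superset_covering ?_
    (AlgSp.ofArrows_mem_etTop (fun x => etOpen U (O x)) (fun x => etOpenι U (O x))
      fun x => ⟨x, ⟨⟨x, hxO x⟩, rfl⟩⟩)
  rintro V g ⟨_, a, b, hb, rfl⟩
  obtain ⟨x⟩ := hb
  refine Sieve.downward_closed _ ?_ a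
  have : IsAffine (etOpen U (O x)).obj.left.left := hO x
  have := isAffine_bc hf haff (etOpen U (O x))
  exact CartanEt.sections_surjective Q hQ h1 (V := (EtOver.bc hf).obj (etOpen U (O x))) _

/-- The higher direct images of a sheaf without higher Čech cohomology on affine objects vanish. -/
theorem isZero_RpushEt (haff : IsAffineMor f) {G : AbEt X} (hG : CartanEt.IsCechAcyclic G) (q : ℕ) :
    IsZero ((RpushEt hf (q + 1)).obj G) :=
  Groth.Agent.SitePullUnit.isZero_rightDerived_of_class (pushEt hf AddCommGrpCat.{u + 1}) CartanEt.IsCechAcyclic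
    (fun Q hQ h1 hI => CartanEt.isCechAcyclic_X₃ Q hQ h1 (by
      have := hI
      exact CartanEt.isCechAcyclic_of_injective Q.X₂))
    (fun Q hQ h1 _ => epi_pushEt_map hf haff Q hQ h1) hG q

end Groth.Agent.AlgSpC7.AffinePush
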