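import Groth.Agent.AlgSpC7.SheafGlue
import Groth.Agent.AlgSpLib.Points
import Groth.Agent.AlgSpLib.LocP
import Mathlib.CategoryTheory.Limits.Shapes.Pullback.Equifibered
import Mathlib.CategoryTheory.Comma.Over.OverClass

/-!
# Colimits of schemes which remain colimits among algebraic spaces
-/

set_option backward.isDefEq.respectTransparency false
set_option backward.isDefEq.respectTransparency.types false
set_option autoImplicit false
set_option linter.style.haveILetI false

universe w v u

open CategoryTheory CategoryTheory.Limits AlgebraicGeometry AlgSp Opposite Groth.Agent.AlgSpLib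

namespace Groth.Agent.AlgSpC7.ColimCrit

open SheafGlue

variable {S : Scheme.{u}}

/-- A jointly surjective family of etale morphisms generates a covering sieve. -/
theorem mem_J_of_etale_family {T : Over S} {κ : Type u} (A : κ → Over S) (α : ∀ i, A i ⟶ T)
    (het : ∀ i, Etale (α i).left) (hsurj : ∀ t : ↥T.left, ∃ i a, (α i).left a = t) {R : Sieve T}
    (hα : ∀ i, R (α i)) : R ∈ J S T := by
  let σ : AlgSpDec.sigmaOver A ⟶ T :=
    Over.homMk (Sigma.desc fun i => (α i).left) (Sigma.hom_ext _ _ fun i => by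
      rw [← Category.assoc, Sigma.ι_desc, Over.w (α i)]
      exact (Sigma.ι_desc (fun i => (A i).hom) i).symm)
  have hσι : ∀ i, AlgSpDec.sigmaι A i ≫ σ = α i := fun i =>
    Over.OverMorphism.ext (Sigma.ι_desc (fun i => (α i).left) i)
  have : Etale σ.left := IsZariskiLocalAtSource.sigmaDesc (P := @Etale) het
  have : Surjective σ.left := ⟨fun t => by
    obtain ⟨i, w, hw⟩ := hsurj t
    exact ⟨(AlgSpDec.sigmaι A i).left w, by
      rw [← Scheme.Hom.comp_apply]; exact (congrArg (fun q : _ ⟶ T => q.left w) (hσι i)).trans hw⟩⟩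
  refine (J S).transitive (mem_J_of_fppf σ (fppf_of_etale _) (Sieve.generate (Presieve.singleton σ))
    ⟨_, 𝟙 _, σ, Presieve.singleton_self σ, Category.id_comp _⟩) R ?_
  rintro Y _ ⟨_, e, _, ⟨⟩, rfl⟩
  rw [Sieve.pullback_comp]
  refine (J S).pullback_stable e ?_
  refine AlgSpDec.mem_J_of_openCover (sigmaOpenCover fun i => (A i).left) _ fun i => ?_
  let e' : Over.mk ((sigmaOpenCover fun i => (A i).left).f i ≫ (AlgSpDec.sigmaOver A).hom) ⟶ A i :=
    Over.homMk (𝟙 _) (by
      rw [Category.id_comp]; exact (Sigma.ι_desc (fun i => (A i).hom) i).symm)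
  have he : (Over.homMk ((sigmaOpenCover fun i => (A i).left).f i) rfl :
      Over.mk ((sigmaOpenCover fun i => (A i).left).f i ≫ (AlgSpDec.sigmaOver A).hom) ⟶
        AlgSpDec.sigmaOver A) ≫ σ = e' ≫ α i :=
    Over.OverMorphism.ext ((Sigma.ι_desc (fun i => (α i).left) i).trans (Category.id_comp _).symm)
  show R _
  rw [he]
  exact R.downward_closed (hα i) e'

variable {I : Type v} [Category.{w} I]

/-- Maps from a colimit scheme to an algebraic space are determined on the diagram. -/
theorem hom_ext_of_colimit {D : I ⥤ Over S} {c : Cocone D} (hc : IsColimit ((Over.forget S).mapCocone c))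
    {Z : Sp S} (hZ : IsAlgSpace Z) (ψ ψ' : (yon S).obj c.pt ⟶ Z)
    (h : ∀ i, (yon S).map (c.ι.app i) ≫ ψ = (yon S).map (c.ι.app i) ≫ ψ') : ψ = ψ' := by
  have hcO : IsColimit c := isColimitOfReflects (Over.forget S) hc
  let hd : Representable (Limits.diag Z) := hZ.diag
  let g := prod.lift ψ ψ'
  let l : ∀ i, D.obj i ⟶ hd.pullback g := fun i => hd.lift ((yon S).map (c.ι.app i) ≫ ψ) (c.ι.app i) (by
    apply Limits.prod.hom_ext
    · simp [g]
    · simpa [g] using h i)
  let E : Cocone D :=
    { pt := hd.pullback g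
      ι := { app := l, naturality := fun i j φ => by
              refine hd.hom_ext ?_ ?_
              · simp only [Functor.const_obj_map]
                erw [Category.comp_id]
                simp only [Functor.map_comp, Category.assoc, l, Functor.relativelyRepresentable.lift_fst]
                rw [← Functor.map_comp_assoc, c.w]
              · simp [l] } }
  have he : hcO.desc E ≫ hd.snd g = 𝟙 c.pt := hcO.hom_ext fun i => by
    rw [hcO.fac_assoc]; simp [E, l]
  have hw := hd.w g
  have h1 : hd.fst g = (yon S).map (hd.snd g) ≫ ψ := by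
    have := congrArg (· ≫ prod.fst) hw; simpa [g] using this
  have h2 : hd.fst g = (yon S).map (hd.snd g) ≫ ψ' := by
    have := congrArg (· ≫ prod.snd) hw; simpa [g] using this
  calc ψ = (yon S).map (hcO.desc E ≫ hd.snd g) ≫ ψ := by rw [he, CategoryTheory.Functor.map_id, Category.id_comp]
    _ = (yon S).map (hcO.desc E ≫ hd.snd g) ≫ ψ' := by rw [Functor.map_comp, Category.assoc, ← h1, h2, ← Category.assoc]
    _ = ψ' := by rw [he, CategoryTheory.Functor.map_id, Category.id_comp]

variable (D : I ⥤ Over S) (c : Cocone D)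
  (h₂ : ∀ x : ↥c.pt.left, ∃ (i : I) (y : ↥(D.obj i).left), (c.ι.app i).left y = x)
  (h₃ : ∀ (D' : I ⥤ Over S) (α : D' ⟶ D) (c' : Cocone D') (a : c'.pt ⟶ c.pt), Etale a.left →
    (∀ i, IsPullback (c'.ι.app i) (α.app i) a (c.ι.app i)) → Nonempty (IsColimit ((Over.forget S).mapCocone c')))
  (h₄ : ∀ (D' : I ⥤ Over S) (α : D' ⟶ D), NatTrans.Equifibered α → (∀ i, Etale (α.app i).left) →
    (∀ i, IsSeparated (α.app i).left) →
    ∃ (c' : Cocone D') (a : c'.pt ⟶ c.pt), Etale a.left ∧ ∀ i, IsPullback (c'.ι.app i) (α.app i) a (c.ι.app i))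

include h₃ in
/-- Two maps from a scheme etale over the colimit agreeing on the pulled back diagram are equal. -/
theorem hom_ext_etale {Z : Sp S} (hZ : IsAlgSpace Z) {Q : Over S} (a : Q ⟶ c.pt) (ha : Etale a.left)
    (ψ ψ' : (yon S).obj Q ⟶ Z)
    (h : ∀ (i : I) (T : Over S) (t : T ⟶ Q) (d : T ⟶ D.obj i), t ≫ a = d ≫ c.ι.app i →
      (yon S).map t ≫ ψ = (yon S).map t ≫ ψ') : ψ = ψ' := by
  let D' : I ⥤ Over S :=
    { obj := fun i => pullback a (c.ι.app i)
      map := fun {i j} φ => pullback.lift (pullback.fst _ _) (pullback.snd _ _ ≫ D.map φ)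
        (by rw [Category.assoc, c.w, pullback.condition])
      map_id := fun i => pullback.hom_ext (by simp) (by simp)
      map_comp := fun φ φ' => pullback.hom_ext (by simp) (by simp) }
  let α : D' ⟶ D := { app := fun i => pullback.snd _ _, naturality := fun i j φ => by simp [D'] }
  let c' : Cocone D' := { pt := Q, ι := { app := fun i => pullback.fst _ _, naturality := fun i j φ => by simp [D'] } }
  obtain ⟨hc⟩ := h₃ D' α c' a ha fun i => IsPullback.of_hasPullback _ _
  exact hom_ext_of_colimit hc hZ ψ ψ' fun i => h i _ _ _ pullback.condition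

include h₂ h₃ h₄ in
theorem existsUnique_desc {Z : Sp S} (hZ : IsAlgSpace Z) (s : ∀ i, (yon S).obj (D.obj i) ⟶ Z)
    (hs : ∀ ⦃i j : I⦄ (φ : i ⟶ j), (yon S).map (D.map φ) ≫ s j = s i) :
    ∃! m : (yon S).obj c.pt ⟶ Z, ∀ i, (yon S).map (c.ι.app i) ≫ m = s i := by
  obtain ⟨U, p, hp, hps⟩ := hZ.atlas
  -- for each affine open of the atlas, a scheme etale over the colimit with a map to `Z`
  have key : ∀ A : U.left.affineOpens, ∃ (Q : Over S) (a : Q ⟶ c.pt) (ψ : (yon S).obj Q ⟶ Z), Etale a.left ∧
      (∀ (i : I) (T : Over S) (t : T ⟶ Q) (d : T ⟶ D.obj i), t ≫ a = d ≫ c.ι.app i →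
        (yon S).map t ≫ ψ = (yon S).map d ≫ s i) ∧
      (∀ (i : I) (y : ↥(D.obj i).left) (u : ↥U.left), u ∈ A.1 → Points.ofPt p u = Points.ofPt (s i) y →
        ∃ q, a.left q = (c.ι.app i).left y) := by
    intro A
    let UA : Over S := Over.mk (A.1.ι ≫ U.hom)
    let jA : UA ⟶ U := Over.homMk A.1.ι rfl
    let pA : (yon S).obj UA ⟶ Z := (yon S).map jA ≫ p
    have hpA : RepWith @Etale pA := repWith_comp ((repWith_yon_map_iff _ _).2 (show Etale A.1.ι by infer_instance)) hp
    haveI : IsAffine UA.left := A.2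
    haveI : IsSeparated UA.hom := inferInstance
    let hr : Representable pA := hpA.rep
    have nat : ∀ {i j : I} (φ : i ⟶ j), hr.fst (s i) ≫ pA = (yon S).map (hr.snd (s i) ≫ D.map φ) ≫ s j := by
      intro i j φ
      rw [Functor.map_comp, Category.assoc, hs φ, hr.w]
    let D' : I ⥤ Over S :=
      { obj := fun i => hr.pullback (s i)
        map := fun {i j} φ => hr.lift (hr.fst (s i)) (hr.snd (s i) ≫ D.map φ) (nat φ)
        map_id := fun i => hr.hom_ext (by simp) (by simp)
        map_comp := fun φ φ' => hr.hom_ext (by simp) (by simp) }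
    let α : D' ⟶ D := { app := fun i => hr.snd (s i), naturality := fun i j φ => by simp [D'] }
    have heq : NatTrans.Equifibered α := fun i j φ => by
      refine IsPullback.of_map_of_faithful (yon S) ?_
      refine IsPullback.of_right (h₁₂ := hr.fst (s j)) ?_ (by
        show (yon S).map (D'.map φ) ≫ (yon S).map (α.app j) = _
        rw [← Functor.map_comp, α.naturality, Functor.map_comp]) (hr.isPullback (s j))
      rw [show (yon S).map (D.map φ) ≫ s j = s i from hs φ,
        show (yon S).map (D'.map φ) ≫ hr.fst (s j) = hr.fst (s i) from hr.lift_fst _ _ _]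
      exact hr.isPullback (s i)
    have het : ∀ i, Etale (α.app i).left := fun i => hpA.property_snd (s i)
    have hsep : ∀ i, IsSeparated (α.app i).left := fun i => by
      let m : hr.pullback (s i) ⟶ UA ⨯ D.obj i := prod.lift (hr.fst' (s i)) (hr.snd (s i))
      haveI : Mono m := ⟨fun {T} u v huv => hr.hom_ext' (by simpa [m] using congrArg (· ≫ prod.fst) huv)
        (by simpa [m] using congrArg (· ≫ prod.snd) huv)⟩
      haveI : Mono m.left := (Over.forget S).map_mono m
      have hm : m.left ≫ (prod.snd : UA ⨯ D.obj i ⟶ D.obj i).left = (α.app i).left := by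
        rw [← Over.comp_left, prod.lift_snd]
      rw [← hm]
      haveI : IsSeparated (prod.snd : UA ⨯ D.obj i ⟶ D.obj i).left := by
        have := (Over.prodLeftIsoPullback UA (D.obj i))
        rw [← Over.prodLeftIsoPullback_hom_snd]
        infer_instance
      infer_instance
    obtain ⟨c', a, ha, hsq⟩ := h₄ D' α heq het hsep
    obtain ⟨hc'⟩ := h₃ D' α c' a ha hsq
    have hcO : IsColimit c' := isColimitOfReflects (Over.forget S) hc'
    let eU : Cocone D' :=
      { pt := UA
        ι :=
          { app := fun i => hr.fst' (s i)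
            naturality := fun i j φ => by
              refine (yon S).map_injective ?_
              simp [D'] } }
    let u : c'.pt ⟶ UA := hcO.desc eU
    have hu : ∀ i, c'.ι.app i ≫ u = hr.fst' (s i) := fun i => hcO.fac _ i
    refine ⟨c'.pt, a, (yon S).map u ≫ pA, ha, fun i T t d htd => ?_, fun i y v hvA hv => ?_⟩
    · let l := (hsq i).lift t d htd
      rw [← (hsq i).lift_fst t d htd, ← Functor.map_comp_assoc, Category.assoc, hu, Functor.map_comp, Category.assoc,
        Functor.relativelyRepresentable.map_fst', hr.w, ← Functor.map_comp_assoc]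
      exact congrArg (fun x => (yon S).map x ≫ s i) ((hsq i).lift_snd t d htd)
    · have hv' : Points.ofPt pA ⟨v, hvA⟩ = Points.ofPt (s i) y := (ofPt_comp jA p ⟨v, hvA⟩).trans hv
      obtain ⟨w, -, hw⟩ := exists_ofPt_of_eq (hr.isPullback' (s i)) hv'
      refine ⟨(c'.ι.app i).left w, ?_⟩
      have := congrArg (fun x : _ ⟶ c.pt => x.left w) (hsq i).w
      exact this.trans (congrArg (c.ι.app i).left hw)
  choose Q a ψ ha hψ hsurj using key
  have hcov : ∀ x : ↥c.pt.left, ∃ A q, (a A).left q = x := fun x => by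
    obtain ⟨i, y, rfl⟩ := h₂ x
    obtain ⟨v, hv⟩ := surjective_ofPt hps (Points.ofPt (s i) y)
    obtain ⟨O, hO, hvO, -⟩ := exists_isAffineOpen_mem_and_subset (U := (⊤ : U.left.Opens)) (x := v) trivial
    exact ⟨⟨O, hO⟩, hsurj ⟨O, hO⟩ i y v hvO hv⟩
  let Rel : ∀ T : Over S, ((yon S).obj T ⟶ (yon S).obj c.pt) → ((yon S).obj T ⟶ Z) → Prop :=
    fun T g z => ∃ (A : U.left.affineOpens) (h : T ⟶ Q A), (yon S).map (h ≫ a A) = g ∧ (yon S).map h ≫ ψ A = z
  have hnat : ∀ {T T' : Over S} (φ : T' ⟶ T) g z, Rel T g z →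
      Rel T' ((yon S).map φ ≫ g) ((yon S).map φ ≫ z) := by
    rintro T T' φ g z ⟨A, h, rfl, rfl⟩
    exact ⟨A, φ ≫ h, by simp, by simp⟩
  have hfun : ∀ {T : Over S} g z z', Rel T g z → Rel T g z' → z = z' := by
    rintro T g _ _ ⟨A, h, rfl, rfl⟩ ⟨B, h', hh, rfl⟩
    have hh' : h ≫ a A = h' ≫ a B := ((yon S).map_injective hh).symm
    haveI := ha A
    haveI := ha B
    haveI : Etale (pullback.fst (a A) (a B) ≫ a A).left := by
      haveI : Etale (pullback.fst (a A) (a B)).left :=
        MorphismProperty.of_isPullback (P := @Etale) ((IsPullback.of_hasPullback (a A) (a B)).map (Over.forget S)).flip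
          (ha B)
      rw [Over.comp_left]
      infer_instance
    have e := hom_ext_etale D c h₃ hZ (pullback.fst (a A) (a B) ≫ a A) inferInstance
      ((yon S).map (pullback.fst _ _) ≫ ψ A) ((yon S).map (pullback.snd _ _) ≫ ψ B) fun i W t d htd => by
        rw [← Functor.map_comp_assoc, ← Functor.map_comp_assoc, hψ A i W _ d (by rw [Category.assoc]; exact htd),
          hψ B i W _ d (by rw [Category.assoc, ← pullback.condition]; exact htd)]
    have := congrArg ((yon S).map (pullback.lift h h' hh') ≫ ·) e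
    simpa only [← Functor.map_comp_assoc, pullback.lift_fst, pullback.lift_snd] using this
  obtain ⟨m, hm, -⟩ := existsUnique_hom Rel hnat hfun fun {T} g => by
    obtain ⟨g, rfl⟩ := (yon S).map_surjective g
    let Rs : Sieve T :=
      { arrows := fun T' φ => ∃ z, Rel T' ((yon S).map φ ≫ (yon S).map g) z
        downward_closed := fun {Y Y'} φ ⟨z, hz⟩ χ => ⟨(yon S).map χ ≫ z, by
          rw [Functor.map_comp, Category.assoc]; exact hnat χ _ _ hz⟩ }
    refine ⟨Rs, mem_J_of_etale_family (fun A => pullback g (a A)) (fun A => pullback.fst g (a A))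
      (fun A => MorphismProperty.of_isPullback (P := @Etale) ((IsPullback.of_hasPullback g (a A)).map (Over.forget S)).flip (ha A))
      (fun t => ?_) (fun A => ⟨_, A, pullback.snd g (a A), by rw [← pullback.condition, Functor.map_comp], rfl⟩),
      fun T' φ hφ => hφ⟩
    obtain ⟨A, q, hq⟩ := hcov (g.left t)
    obtain ⟨w, hw, -⟩ := Scheme.exists_preimage_of_isPullback ((IsPullback.of_hasPullback g (a A)).map (Over.forget S)) t q hq.symm
    exact ⟨A, w, hw⟩
  have hmD : ∀ i, (yon S).map (c.ι.app i) ≫ m = s i := fun i => by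
    let R : Sieve (D.obj i) :=
      { arrows := fun T φ => (yon S).map φ ≫ (yon S).map (c.ι.app i) ≫ m = (yon S).map φ ≫ s i
        downward_closed := fun {Y Y'} φ h χ => by rw [Functor.map_comp, Category.assoc, Category.assoc, h] }
    refine hom_ext_of_covering _ _ (mem_J_of_etale_family (R := R) (fun A => pullback (c.ι.app i) (a A))
      (fun A => pullback.fst (c.ι.app i) (a A))
      (fun A => MorphismProperty.of_isPullback (P := @Etale)
        ((IsPullback.of_hasPullback (c.ι.app i) (a A)).map (Over.forget S)).flip (ha A))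
      (fun t => ?_) (fun A => ?_)) fun T φ hφ => hφ
    · obtain ⟨A, q, hq⟩ := hcov ((c.ι.app i).left t)
      obtain ⟨w, hw, -⟩ := Scheme.exists_preimage_of_isPullback
        ((IsPullback.of_hasPullback (c.ι.app i) (a A)).map (Over.forget S)) t q hq.symm
      exact ⟨A, w, hw⟩
    · show (yon S).map _ ≫ _ ≫ m = _
      rw [← Functor.map_comp_assoc, hm _ _ _ ⟨A, pullback.snd _ _, by rw [pullback.condition], rfl⟩]
      exact hψ A i _ _ _ pullback.condition.symm
  refine ⟨m, hmD, fun m' hm' => hom_ext_etale D c h₃ hZ (𝟙 c.pt) inferInstance m' m fun i T t d htd => ?_⟩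
  rw [Category.comp_id] at htd
  rw [htd, Functor.map_comp, Category.assoc, Category.assoc, hm', hmD]

end Groth.Agent.AlgSpC7.ColimCrit
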