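import Groth.Agent.AlgSpC7.ColimCrit
import Groth.Agent.AlgSpLib.EtaleSmoothLocal
import Groth.Agent.AlgSpPts.Sep
import Groth.Agent.AlgSpPts.Descent
import Groth.Agent.AlgSpDec.LqfScheme

/-!
# Colimits of spaces separated over the base are colimits among all algebraic spaces
-/

set_option backward.isDefEq.respectTransparency false
set_option backward.isDefEq.respectTransparency.types false
set_option autoImplicit false
set_option linter.style.haveILetI false

universe w v u

open CategoryTheory CategoryTheory.Limits AlgebraicGeometry AlgSp Opposite Groth.Agent.AlgSpLib Groth.Agent.AlgSpPts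

namespace Groth.Agent.AlgSpC7.ColimSep

open SheafGlue

variable {S : Scheme.{u}}

/-- Every morphism out of a scheme separated over the base scheme is separated. -/
theorem isSeparatedMor_of_source {W : Over S} [IsSeparated W.hom] {G : Sp S} (f : (yon S).obj W ⟶ G) :
    IsSeparatedMor f := by
  let t := (yon S).map (Over.mkIdTerminal.from W)
  let t' := (isTerminalYon S).from G
  have ht : IsSeparatedMor t := by
    rw [isSeparatedMor_yon_map_iff, show (Over.mkIdTerminal.from W).left = W.hom from
      (Category.comp_id _).symm.trans (Over.w (Over.mkIdTerminal.from W))]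
    infer_instance
  let m : (yon S).obj W ⟶ pullback t t' := pullback.lift (𝟙 _) f ((isTerminalYon S).hom_ext _ _)
  haveI : Mono m := ⟨fun u v h => by simpa [m] using congrArg (· ≫ pullback.fst t t') h⟩
  have h : IsSeparatedMor (m ≫ pullback.snd t t') :=
    isSeparatedMor_comp (AlgSpDec.isSeparatedMor_of_mono m)
      (isSeparatedMor_of_isPullback (IsPullback.of_hasPullback t t') ht)
  rwa [pullback.lift_snd] at h

variable {B : AlgSp.Space S} (P : ObjectProperty (Over B)) (hP : ∀ T : Over B, P T ↔ IsSeparatedMor T.hom.hom)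
  {I : Type v} [Category.{w} I] (D : I ⥤ P.FullSubcategory) (c : Cocone D)
  (h₃ : ∀ x : Points c.pt.obj.left.obj, ∃ (i : I) (y : Points (D.obj i).obj.left.obj),
    Points.map (c.ι.app i).hom.left.hom y = x)
  (h₄ : ∀ (D' : I ⥤ P.FullSubcategory) (α : D' ⟶ D) (c' : Cocone D') (a : c'.pt ⟶ c.pt),
    IsEtaleMor a.hom.left.hom → IsSeparatedMor a.hom.left.hom →
    (∀ i, IsPullback (c'.ι.app i).hom.left.hom (α.app i).hom.left.hom a.hom.left.hom (c.ι.app i).hom.left.hom) →
      Nonempty (IsColimit c'))
  (h₅ : ∀ (D' : I ⥤ P.FullSubcategory) (α : D' ⟶ D),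
    (∀ ⦃i j : I⦄ (g : i ⟶ j), IsPullback (D'.map g).hom.left.hom (α.app i).hom.left.hom (α.app j).hom.left.hom
      (D.map g).hom.left.hom) →
    (∀ i, IsEtaleMor (α.app i).hom.left.hom) → (∀ i, IsSeparatedMor (α.app i).hom.left.hom) →
      ∃ (c' : Cocone D') (a : c'.pt ⟶ c.pt), IsEtaleMor a.hom.left.hom ∧ IsSeparatedMor a.hom.left.hom ∧
        ∀ i, IsPullback (c'.ι.app i).hom.left.hom (α.app i).hom.left.hom a.hom.left.hom (c.ι.app i).hom.left.hom)

/-- An object over `B` from a map of sheaves. -/
abbrev mkB {X : Sp S} (hX : IsAlgSpace X) (h : X ⟶ B.obj) : Over B :=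
  Over.mk (Y := (⟨X, hX⟩ : AlgSp.Space S)) (InducedCategory.homMk h)

variable {P}

/-- The underlying map of sheaves of a morphism in the full subcategory. -/
abbrev und {X Y : P.FullSubcategory} (f : X ⟶ Y) : X.obj.left.obj ⟶ Y.obj.left.obj := f.hom.left.hom

theorem und_comp {X Y Z : P.FullSubcategory} (f : X ⟶ Y) (g : Y ⟶ Z) : und (f ≫ g) = und f ≫ und g := rfl

theorem und_w {X Y : P.FullSubcategory} (f : X ⟶ Y) : und f ≫ Y.obj.hom.hom = X.obj.hom.hom :=
  congrArg InducedCategory.Hom.hom (Over.w f.hom)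

theorem und_ext {X Y : P.FullSubcategory} {f g : X ⟶ Y} (h : und f = und g) : f = g :=
  InducedCategory.hom_ext (Over.OverMorphism.ext (InducedCategory.hom_ext h))

/-- A morphism of the full subcategory from a map of sheaves over `B`. -/
abbrev mkHom {X Y : P.FullSubcategory} (f : X.obj.left.obj ⟶ Y.obj.left.obj)
    (h : f ≫ Y.obj.hom.hom = X.obj.hom.hom) : X ⟶ Y :=
  InducedCategory.homMk (Over.homMk (InducedCategory.homMk f) (InducedCategory.hom_ext h))

/-- The pullback of a diagram along a map to the target of a compatible family. -/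
noncomputable abbrev pullD {Q₀ G : Sp S} (a : Q₀ ⟶ G) (g : ∀ i, (D.obj i).obj.left.obj ⟶ G)
    (hg : ∀ {i j : I} (φ : i ⟶ j), und (D.map φ) ≫ g j = g i) (hA : ∀ i, IsAlgSpace (pullback a (g i)))
    (hPD : ∀ i, P (mkB (hA i) (pullback.snd a (g i) ≫ (D.obj i).obj.hom.hom))) : I ⥤ P.FullSubcategory where
  obj i := ⟨_, hPD i⟩
  map {i j} φ := mkHom (X := ⟨_, hPD i⟩) (Y := ⟨_, hPD j⟩)
    (pullback.lift (pullback.fst _ _) (pullback.snd _ _ ≫ und (D.map φ))
      (by rw [Category.assoc, hg, pullback.condition]))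
    ((pullback.lift_snd_assoc _ _ _ _).trans ((Category.assoc _ _ _).trans (congrArg (_ ≫ ·) (und_w (D.map φ)))))
  map_id i := und_ext (pullback.hom_ext ((pullback.lift_fst _ _ _).trans (Category.id_comp _).symm)
    ((pullback.lift_snd _ _ _).trans (((congrArg (_ ≫ ·) (congrArg und (D.map_id i))).trans (Category.comp_id _)).trans
      (Category.id_comp _).symm)))
  map_comp φ φ' := und_ext (pullback.hom_ext
    ((pullback.lift_fst _ _ _).trans (((congrArg (_ ≫ ·) (pullback.lift_fst _ _ _)).trans
      (pullback.lift_fst _ _ _)).symm.trans (Category.assoc _ _ _).symm))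
    ((pullback.lift_snd _ _ _).trans ((congrArg (_ ≫ ·) (congrArg und (D.map_comp φ φ'))).trans
      (((congrArg (_ ≫ ·) (pullback.lift_snd _ _ _)).trans ((Category.assoc _ _ _).symm.trans
        ((congrArg (· ≫ _) (pullback.lift_snd _ _ _)).trans (Category.assoc _ _ _)))).symm.trans
          (Category.assoc _ _ _).symm))))

include hP h₄ in
/-- Maps from an object etale and separated over the colimit are determined on the pulled back diagram. -/
theorem hom_ext_etale {Z : Sp S} (hZ : IsAlgSpace Z) {Q : P.FullSubcategory} (a : Q ⟶ c.pt)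
    (ha : IsEtaleMor (und a)) (has : IsSeparatedMor (und a)) (ψ ψ' : Q.obj.left.obj ⟶ Z)
    (h : ∀ (i : I) (T : Sp S) (t : T ⟶ Q.obj.left.obj) (d : T ⟶ (D.obj i).obj.left.obj),
      t ≫ und a = d ≫ und (c.ι.app i) → t ≫ ψ = t ≫ ψ') : ψ = ψ' := by
  let Qi : I → Sp S := fun i => pullback (und a) (und (c.ι.app i))
  have hQ : ∀ i, IsAlgSpace (Qi i) := fun i =>
    isAlgSpace_pullback Q.obj.left.property (D.obj i).obj.left.property c.pt.obj.left.property _ _
  have hQs : ∀ i, P (mkB (hQ i) (pullback.snd (und a) (und (c.ι.app i)) ≫ (D.obj i).obj.hom.hom)) := fun i =>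
    (hP _).2 (isSeparatedMor_comp (isSeparatedMor_of_isPullback (IsPullback.of_hasPullback _ _) has)
      ((hP _).1 (D.obj i).property))
  let Do : I → P.FullSubcategory := fun i => ⟨_, hQs i⟩
  have hcw : ∀ {i j : I} (φ : i ⟶ j), und (D.map φ) ≫ und (c.ι.app j) = und (c.ι.app i) := fun φ => by
    rw [← und_comp, c.w]
  let D' : I ⥤ P.FullSubcategory := pullD D (und a) (fun i => und (c.ι.app i)) hcw hQ hQs
  let α : D' ⟶ D :=
    { app := fun i => mkHom (X := Do i) (Y := D.obj i) (pullback.snd _ _) rfl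
      naturality := fun i j φ => und_ext (pullback.lift_snd _ _ _) }
  let c' : Cocone D' :=
    { pt := Q
      ι := { app := fun i => mkHom (X := Do i) (Y := Q) (pullback.fst _ _)
                (by
                  show pullback.fst _ _ ≫ _ = pullback.snd _ _ ≫ _
                  rw [← und_w a, ← und_w (c.ι.app i), pullback.condition_assoc]
                  rfl)
             naturality := fun i j φ => und_ext ((pullback.lift_fst _ _ _).trans (Category.comp_id _).symm) } }
  obtain ⟨hc⟩ := h₄ D' α c' a ha has fun i => IsPullback.of_hasPullback _ _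
  -- the equaliser of `ψ` and `ψ'`
  let g := prod.lift ψ ψ'
  let E := pullback g (Limits.diag Z)
  have hE : IsAlgSpace E :=
    isAlgSpace_pullback Q.obj.left.property hZ (isAlgSpace_prod hZ hZ) _ _
  haveI : Mono (pullback.fst g (Limits.diag Z)) := inferInstance
  let EP : P.FullSubcategory := ⟨mkB hE (pullback.fst g (Limits.diag Z) ≫ Q.obj.hom.hom),
    (hP _).2 (isSeparatedMor_comp (AlgSpDec.isSeparatedMor_of_mono _) ((hP _).1 Q.property))⟩
  have hl : ∀ i, pullback.fst (und a) (und (c.ι.app i)) ≫ g =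
      (pullback.fst (und a) (und (c.ι.app i)) ≫ ψ) ≫ Limits.diag Z := fun i => by
    apply Limits.prod.hom_ext
    · simp [g]
    · simpa [g] using (h i _ _ _ pullback.condition).symm
  let ce : Cocone D' :=
    { pt := EP
      ι :=
        { app := fun i => mkHom (X := Do i) (Y := EP) (pullback.lift (pullback.fst _ _) _ (hl i)) (by
            show pullback.lift _ _ _ ≫ pullback.fst _ _ ≫ _ = _
            rw [pullback.lift_fst_assoc]
            exact und_w (c'.ι.app i))
          naturality := fun i j φ => und_ext (by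
            rw [und_comp, und_comp]
            refine pullback.hom_ext ?_ ?_
            · rw [Category.assoc, Category.assoc]
              refine (congrArg _ (pullback.lift_fst _ _ _)).trans ((pullback.lift_fst _ _ _).trans ?_)
              exact ((congrArg _ (Category.id_comp _)).trans (pullback.lift_fst _ _ _)).symm
            · rw [Category.assoc, Category.assoc]
              refine (congrArg _ (pullback.lift_snd _ _ _)).trans ?_
              refine Eq.trans ?_ ((congrArg _ (Category.id_comp _)).trans (pullback.lift_snd _ _ _)).symm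
              exact (Category.assoc _ _ _).symm.trans (congrArg (· ≫ ψ) (pullback.lift_fst _ _ _))) } }
  let eq : EP ⟶ Q := mkHom (pullback.fst g (Limits.diag Z)) rfl
  have he : hc.desc ce ≫ eq = 𝟙 Q := hc.hom_ext fun i => by
    rw [hc.fac_assoc]
    exact (und_ext (pullback.lift_fst _ _ _)).trans (Category.comp_id _).symm
  have he' : und (hc.desc ce) ≫ pullback.fst g (Limits.diag Z) = 𝟙 _ := congrArg und he
  have h1 : pullback.fst g (Limits.diag Z) ≫ ψ = pullback.snd g (Limits.diag Z) := by
    simpa [g] using congrArg (· ≫ prod.fst) (pullback.condition (f := g) (g := Limits.diag Z))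
  have h2 : pullback.fst g (Limits.diag Z) ≫ ψ' = pullback.snd g (Limits.diag Z) := by
    simpa [g] using congrArg (· ≫ prod.snd) (pullback.condition (f := g) (g := Limits.diag Z))
  have := congrArg (und (hc.desc ce) ≫ ·) (h1.trans h2.symm)
  rwa [reassoc_of% he', reassoc_of% he'] at this

include hP h₃ h₄ h₅ in
theorem existsUnique_desc (s : Cocone (D ⋙ P.ι)) :
    ∃! m : c.pt.obj ⟶ s.pt, ∀ i, (c.ι.app i).hom ≫ m = s.ι.app i := by
  let Z : Sp S := s.pt.left.obj
  have hZ : IsAlgSpace Z := s.pt.left.property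
  let φs : ∀ i, (D.obj i).obj.left.obj ⟶ Z := fun i => (s.ι.app i).left.hom
  have hs : ∀ {i j : I} (φ : i ⟶ j), und (D.map φ) ≫ φs j = φs i := fun φ =>
    congrArg (fun x => x.left.hom) (s.w φ)
  obtain ⟨U, p, hp, hps⟩ := hZ.atlas
  -- for each affine open of the atlas, an object etale and separated over the colimit with a map to `Z`
  have key : ∀ A : U.left.affineOpens, ∃ (Q : P.FullSubcategory) (a : Q ⟶ c.pt) (ψ : Q.obj.left.obj ⟶ Z),
      IsEtaleMor (und a) ∧ IsSeparatedMor (und a) ∧
      (∀ (i : I) (T : Sp S) (t : T ⟶ Q.obj.left.obj) (d : T ⟶ (D.obj i).obj.left.obj),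
        t ≫ und a = d ≫ und (c.ι.app i) → t ≫ ψ = d ≫ φs i) ∧
      (∀ (i : I) (y : Points (D.obj i).obj.left.obj) (u : ↥U.left), u ∈ A.1 →
        Points.ofPt p u = Points.map (φs i) y →
        ∃ q, Points.map (und a) q = Points.map (und (c.ι.app i)) y) := by
    intro A
    let UA : Over S := Over.mk (A.1.ι ≫ U.hom)
    let jA : UA ⟶ U := Over.homMk A.1.ι rfl
    let pA : (yon S).obj UA ⟶ Z := (yon S).map jA ≫ p
    have hpA : RepWith @Etale pA := repWith_comp ((repWith_yon_map_iff _ _).2 (show Etale A.1.ι by infer_instance)) hp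
    haveI : IsAffine UA.left := A.2
    haveI : IsSeparated UA.hom := inferInstance
    let Di : I → Sp S := fun i => pullback pA (φs i)
    have hD : ∀ i, IsAlgSpace (Di i) := fun i =>
      isAlgSpace_pullback (IsAlgSpace.yon_obj _) (D.obj i).obj.left.property hZ _ _
    have hsnd : ∀ i, IsSeparatedMor (pullback.snd pA (φs i)) := fun i =>
      isSeparatedMor_of_isPullback (IsPullback.of_hasPullback _ _) (isSeparatedMor_of_source pA)
    let Do : I → P.FullSubcategory := fun i => ⟨mkB (hD i) (pullback.snd pA (φs i) ≫ (D.obj i).obj.hom.hom),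
      (hP _).2 (isSeparatedMor_comp (hsnd i) ((hP _).1 (D.obj i).property))⟩
    let D' : I ⥤ P.FullSubcategory := pullD D pA φs hs hD fun i => (Do i).property
    let α : D' ⟶ D :=
      { app := fun i => mkHom (X := Do i) (Y := D.obj i) (pullback.snd _ _) rfl
        naturality := fun i j φ => und_ext (pullback.lift_snd _ _ _) }
    have hcart : ∀ ⦃i j : I⦄ (g : i ⟶ j), IsPullback (D'.map g).hom.left.hom (α.app i).hom.left.hom
        (α.app j).hom.left.hom (D.map g).hom.left.hom := fun i j g => by
      refine IsPullback.of_right (h₁₂ := pullback.fst pA (φs j)) ?_ (pullback.lift_snd _ _ _)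
        (IsPullback.of_hasPullback pA (φs j))
      have e1 : (D'.map g).hom.left.hom ≫ pullback.fst pA (φs j) = pullback.fst pA (φs i) := pullback.lift_fst _ _ _
      rw [e1, show (D.map g).hom.left.hom ≫ φs j = φs i from hs g]
      exact IsPullback.of_hasPullback _ _
    obtain ⟨c', a, ha, has, hsq⟩ := h₅ D' α hcart
      (fun i => isEtaleMor_of_repWith (repWith_of_isPullback (IsPullback.of_hasPullback pA (φs i)) hpA)) hsnd
    obtain ⟨hc'⟩ := h₄ D' α c' a ha has hsq
    let UP : P.FullSubcategory := ⟨mkB (IsAlgSpace.yon_obj UA) (pA ≫ s.pt.hom.hom),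
      (hP _).2 (isSeparatedMor_of_source (pA ≫ s.pt.hom.hom))⟩
    have hφB : ∀ i, φs i ≫ s.pt.hom.hom = (D.obj i).obj.hom.hom := fun i =>
      congrArg InducedCategory.Hom.hom (Over.w (s.ι.app i))
    let eU : Cocone D' :=
      { pt := UP
        ι :=
          { app := fun i => mkHom (X := Do i) (Y := UP) (pullback.fst pA (φs i)) (by
              show pullback.fst _ _ ≫ pA ≫ _ = pullback.snd _ _ ≫ _
              rw [← hφB, pullback.condition_assoc])
            naturality := fun i j φ => und_ext ((pullback.lift_fst _ _ _).trans (Category.comp_id _).symm) } }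
    let u : c'.pt ⟶ UP := hc'.desc eU
    have hu : ∀ i, und (c'.ι.app i) ≫ und u = pullback.fst pA (φs i) := fun i => by
      rw [← und_comp, hc'.fac]
      rfl
    refine ⟨c'.pt, a, und u ≫ pA, ha, has, fun i T t d htd => ?_, fun i y v hvA hv => ?_⟩
    · rw [← (hsq i).lift_fst t d htd, Category.assoc, reassoc_of% (hu i), pullback.condition, ← Category.assoc]
      exact congrArg (· ≫ φs i) ((hsq i).lift_snd t d htd)
    · have hv' : Points.ofPt pA ⟨v, hvA⟩ = Points.map (φs i) y := (ofPt_comp jA p ⟨v, hvA⟩).trans hv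
      obtain ⟨w, -, hw⟩ := exists_point_of_isPullback (IsPullback.of_hasPullback pA (φs i))
        (x := Points.ofPt (𝟙 _) ⟨v, hvA⟩) (y := y) (by rw [Points.map_ofPt, Category.id_comp]; exact hv')
      refine ⟨Points.map (und (c'.ι.app i)) w, ?_⟩
      rw [← Points.map_comp, show und (c'.ι.app i) ≫ und a = (α.app i).hom.left.hom ≫ und (c.ι.app i) from (hsq i).w,
        Points.map_comp]
      exact congrArg _ hw
  choose Q a ψ ha has hψ hsurj using key
  have hcov : ∀ x : Points c.pt.obj.left.obj, ∃ A q, Points.map (und (a A)) q = x := fun x => by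
    obtain ⟨i, y, rfl⟩ := h₃ x
    obtain ⟨v, hv⟩ := surjective_ofPt hps (Points.map (φs i) y)
    obtain ⟨O, hO, hvO, -⟩ := exists_isAffineOpen_mem_and_subset (U := (⊤ : U.left.Opens)) (x := v) trivial
    exact ⟨⟨O, hO⟩, hsurj ⟨O, hO⟩ i y v hvO hv⟩
  let cp := c.pt.obj.left.obj
  let Rel : ∀ T : Over S, ((yon S).obj T ⟶ cp) → ((yon S).obj T ⟶ Z) → Prop :=
    fun T g z => ∃ (A : U.left.affineOpens) (h : (yon S).obj T ⟶ (Q A).obj.left.obj), h ≫ und (a A) = g ∧ h ≫ ψ A = z
  have hnat : ∀ {T T' : Over S} (φ : T' ⟶ T) g z, Rel T g z →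
      Rel T' ((yon S).map φ ≫ g) ((yon S).map φ ≫ z) := by
    rintro T T' φ g z ⟨A, h, rfl, rfl⟩
    exact ⟨A, (yon S).map φ ≫ h, Category.assoc _ _ _, Category.assoc _ _ _⟩
  have hfun : ∀ {T : Over S} g z z', Rel T g z → Rel T g z' → z = z' := by
    rintro T g _ _ ⟨A, h, rfl, rfl⟩ ⟨A', h', hh, rfl⟩
    let R := pullback (und (a A)) (und (a A'))
    have hR : IsAlgSpace R :=
      isAlgSpace_pullback (Q A).obj.left.property (Q A').obj.left.property c.pt.obj.left.property _ _
    have hfs : IsSeparatedMor (pullback.fst (und (a A)) (und (a A'))) :=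
      isSeparatedMor_of_isPullback (IsPullback.of_hasPullback _ _).flip (has A')
    let RP : P.FullSubcategory := ⟨mkB hR (pullback.fst _ _ ≫ (Q A).obj.hom.hom),
      (hP _).2 (isSeparatedMor_comp hfs ((hP _).1 (Q A).property))⟩
    let aR : RP ⟶ c.pt := mkHom (pullback.fst _ _ ≫ und (a A)) (by rw [Category.assoc, und_w]; rfl)
    have e := hom_ext_etale hP D c h₄ hZ aR
      (isEtaleMor_comp hR (Q A).obj.left.property c.pt.obj.left.property
        (isEtaleMor_of_isPullback (IsPullback.of_hasPullback _ _).flip (Q A').obj.left.property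
          c.pt.obj.left.property (Q A).obj.left.property (ha A')) (ha A))
      (isSeparatedMor_comp hfs (has A)) (pullback.fst _ _ ≫ ψ A) (pullback.snd _ _ ≫ ψ A') fun i W t d htd => by
        replace htd : t ≫ pullback.fst _ _ ≫ und (a A) = d ≫ und (c.ι.app i) := htd
        rw [← Category.assoc, ← Category.assoc, hψ A i W _ d ((Category.assoc _ _ _).trans htd),
          hψ A' i W _ d (by rw [Category.assoc, ← pullback.condition]; exact htd)]
    have := congrArg (pullback.lift h h' hh.symm ≫ ·) e
    simpa only [pullback.lift_fst_assoc, pullback.lift_snd_assoc] using this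
  have hcovT : ∀ {T : Over S} (g : (yon S).obj T ⟶ cp) {R : Sieve T},
      (∀ (A : U.left.affineOpens) (T' : Over S) (φ : T' ⟶ T) (h : (yon S).obj T' ⟶ (Q A).obj.left.obj),
        h ≫ und (a A) = (yon S).map φ ≫ g → R φ) → R ∈ J S T := fun {T} g R hR => by
    have hW : ∀ A, ∃ (V : Over S) (v : (yon S).obj V ⟶ pullback g (und (a A))) (β : V ⟶ T),
        RepWith @Surjective v ∧ Etale β.left ∧ v ≫ pullback.fst _ _ = (yon S).map β := fun A => by
      obtain ⟨V, v, hv, hvs⟩ :=
        (isAlgSpace_pullback (IsAlgSpace.yon_obj T) (Q A).obj.left.property c.pt.obj.left.property g (und (a A))).atlas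
      obtain ⟨β, hβ⟩ := (yon S).map_surjective (v ≫ pullback.fst g (und (a A)))
      refine ⟨V, v, β, hvs, ?_, hβ.symm⟩
      have := isEtaleMor_of_isPullback (IsPullback.of_hasPullback g (und (a A))).flip (Q A).obj.left.property
        c.pt.obj.left.property (IsAlgSpace.yon_obj T) (ha A) v hv
      rw [← hβ] at this
      exact (repWith_yon_map_iff (P := @Etale) β).1 this
    choose V v β hvs hβ hvβ using hW
    refine ColimCrit.mem_J_of_etale_family V β hβ (fun t => ?_)
      (fun A => hR A _ _ (v A ≫ pullback.snd _ _) (by rw [Category.assoc, ← pullback.condition, reassoc_of% (hvβ A)]))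
    obtain ⟨A, q, hq⟩ := hcov (Points.ofPt g t)
    obtain ⟨w, hw, -⟩ := exists_point_of_isPullback (IsPullback.of_hasPullback g (und (a A)))
      (x := Points.ofPt (𝟙 _) t) (y := q) (by rw [Points.map_ofPt, Category.id_comp]; exact hq.symm)
    obtain ⟨r, rfl⟩ := surjective_ofPt (hvs A) w
    rw [Points.map_ofPt, hvβ, ← Category.comp_id ((yon S).map (β A)), ofPt_comp] at hw
    exact ⟨A, r, (Points.schemeHomeo T).injective hw⟩
  obtain ⟨m, hm, -⟩ := existsUnique_hom Rel hnat hfun fun {T} g =>
    ⟨{ arrows := fun T' φ => ∃ z, Rel T' ((yon S).map φ ≫ g) z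
       downward_closed := fun {Y Y'} φ ⟨z, hz⟩ χ => ⟨(yon S).map χ ≫ z, by
         rw [Functor.map_comp, Category.assoc]; exact hnat χ _ _ hz⟩ },
      hcovT g (fun A T' φ h hh => ⟨h ≫ ψ A, A, h, hh, rfl⟩), fun T' φ hφ => hφ⟩
  have hmD : ∀ i, und (c.ι.app i) ≫ m = φs i := fun i => hom_ext_yon fun T d => by
    let R : Sieve T :=
      { arrows := fun T' φ => (yon S).map φ ≫ d ≫ und (c.ι.app i) ≫ m = (yon S).map φ ≫ d ≫ φs i
        downward_closed := fun {Y Y'} φ h χ => by rw [Functor.map_comp, Category.assoc, Category.assoc, h] }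
    refine hom_ext_of_covering _ _ (hcovT (d ≫ und (c.ι.app i)) (R := R) fun A T' φ h hh => ?_) fun T' φ hφ => hφ
    show (yon S).map φ ≫ d ≫ und (c.ι.app i) ≫ m = _
    have e := hm T' ((yon S).map φ ≫ d ≫ und (c.ι.app i)) _ ⟨A, h, hh, rfl⟩
    simp only [Category.assoc] at e
    rw [e, hψ A i _ h ((yon S).map φ ≫ d) (by rw [hh, Category.assoc]), Category.assoc]
  -- uniqueness of maps out of the colimit
  have hext : ∀ {G : Sp S}, IsAlgSpace G → ∀ m₁ m₂ : cp ⟶ G,
      (∀ i, und (c.ι.app i) ≫ m₁ = und (c.ι.app i) ≫ m₂) → m₁ = m₂ := fun hG m₁ m₂ h =>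
    hom_ext_etale hP D c h₄ hG (𝟙 c.pt) (isEtaleMor_of_isIso (𝟙 _)) (AlgSpDec.isSeparatedMor_of_mono (𝟙 _))
      m₁ m₂ fun i T t d htd => by
      rw [show und (𝟙 c.pt) = 𝟙 _ from rfl, Category.comp_id] at htd
      rw [htd, Category.assoc, Category.assoc, h]
  have hB : m ≫ s.pt.hom.hom = c.pt.obj.hom.hom := hext B.property _ _ fun i => by
    rw [← Category.assoc, hmD]
    exact (congrArg InducedCategory.Hom.hom (Over.w (s.ι.app i))).trans (und_w (c.ι.app i)).symm
  refine ⟨Over.homMk (InducedCategory.homMk m) (InducedCategory.hom_ext hB),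
    fun i => Over.OverMorphism.ext (InducedCategory.hom_ext (hmD i)), fun m' hm' => ?_⟩
  refine Over.OverMorphism.ext (InducedCategory.hom_ext (hext hZ _ _ fun i => ?_))
  exact (congrArg (fun x => x.left.hom) (hm' i)).trans (hmD i).symm

end Groth.Agent.AlgSpC7.ColimSep
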