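import Groth.Agent.AlgSpC7.ConnExt
import Groth.Agent.AlgSpPts.Geom
import Groth.Agent.AlgSpDec.AffineCheck
import Mathlib.RingTheory.Etale.StandardEtale
import Mathlib.FieldTheory.SeparableClosure
import Mathlib.FieldTheory.PrimitiveElement

/-!
# Connectedness of geometric fibres is detected on etale neighbourhoods
-/

set_option backward.isDefEq.respectTransparency false
set_option backward.isDefEq.respectTransparency.types false
set_option autoImplicit false
set_option linter.style.haveILetI false

universe u

open CategoryTheory CategoryTheory.Limits AlgebraicGeometry AlgSp Groth.Agent.AlgSpLib Groth.Agent.AlgSpPts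
open Polynomial

namespace Groth.Agent.AlgSpC7.ConnEtale

open ConnExt

/-- A separable element over the field generated by the image of `A` is hit by an etale `A`-algebra. -/
theorem exists_etale_algebra {A K : Type u} [CommRing A] [Field K] (φ : A →+* K)
    (α : K) (hα : IsSeparable (Subfield.closure (Set.range φ)) α) :
    ∃ (B : Type u) (_ : CommRing B) (i : A →+* B) (χ : B →+* K),
      Etale (Spec.map (CommRingCat.ofHom i)) ∧ χ.comp i = φ ∧ α ∈ Set.range χ := by
  classical
  let k := Subfield.closure (Set.range φ)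
  let p : K[X] := (minpoly k α).map (algebraMap k K)
  have hfrac : ∀ i, ∃ a s : A, φ s ≠ 0 ∧ p.coeff i = φ a / φ s := fun i => by
    have h : p.coeff i ∈ k := by
      rw [coeff_map]
      exact ((minpoly k α).coeff i).2
    obtain ⟨y, hy, z, hz, h⟩ := Subfield.mem_closure_iff.1 h
    rw [← RingHom.coe_range, Subring.closure_eq] at hy hz
    obtain ⟨a, rfl⟩ := hy
    obtain ⟨s, rfl⟩ := hz
    by_cases hs : φ s = 0
    · exact ⟨0, 1, by simp, by rw [← h, hs]; simp⟩
    · exact ⟨a, s, hs, h.symm⟩
  choose a s hs hc using hfrac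
  let t : A := ∏ i ∈ Finset.range (p.natDegree + 1), s i
  have ht : IsUnit (φ t) := by
    rw [map_prod]
    exact IsUnit.prod_iff.2 fun i _ => (hs i).isUnit
  let B₀ := Localization.Away t
  let φ₀ : B₀ →+* K := IsLocalization.Away.lift t ht
  have hφ₀ : ∀ x, φ₀ (algebraMap A B₀ x) = φ x := IsLocalization.Away.lift_eq t ht
  have hlift : p ∈ lifts φ₀ := by
    refine (lifts_iff_coeff_lifts p).2 fun i => ?_
    by_cases hi : i ≤ p.natDegree
    · have hu : IsUnit (algebraMap A B₀ (s i)) :=
        isUnit_of_dvd_unit (map_dvd _ (Finset.dvd_prod_of_mem s (Finset.mem_range.2 (Nat.lt_succ_of_le hi))))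
          (IsLocalization.Away.algebraMap_isUnit t)
      refine ⟨algebraMap A B₀ (a i) * (↑hu.unit⁻¹ : B₀), ?_⟩
      rw [map_mul, hφ₀, map_units_inv, IsUnit.unit_spec, hφ₀, hc i, div_eq_mul_inv]
    · exact ⟨0, by rw [map_zero, coeff_eq_zero_of_natDegree_lt (not_le.1 hi)]⟩
  have hint : IsIntegral k α := hα.isIntegral
  obtain ⟨G, hG, -, hGm⟩ := lifts_and_degree_eq_and_monic hlift ((minpoly.monic hint).map _)
  let P : StandardEtalePair B₀ := ⟨G, hGm, derivative G, 1, 0, 1, by simp⟩
  letI : Algebra B₀ K := φ₀.toAlgebra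
  have hp : eval α p = 0 := by
    rw [eval_map, ← aeval_def]
    exact minpoly.aeval k α
  have hm : P.HasMap α := by
    refine ⟨?_, isUnit_iff_ne_zero.2 ?_⟩
    · show aeval α G = 0
      rw [aeval_def, ← eval_map]
      rwa [show G.map (algebraMap B₀ K) = p from hG]
    · show aeval α (derivative G) ≠ 0
      rw [aeval_def, ← eval_map, ← derivative_map, show G.map (algebraMap B₀ K) = p from hG]
      exact (Polynomial.Separable.map hα (f := algebraMap k K)).eval₂_derivative_ne_zero (RingHom.id K) hp
  haveI : Etale (Spec.map (CommRingCat.ofHom (algebraMap A B₀))) :=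
    haveI : IsOpenImmersion (Spec.map (CommRingCat.ofHom (algebraMap A B₀))) := IsOpenImmersion.of_isLocalization t
    inferInstance
  haveI : Etale (Spec.map (CommRingCat.ofHom (algebraMap B₀ P.Ring))) :=
    (HasRingHomProperty.Spec_iff (P := @Etale)).2 (RingHom.etale_algebraMap.2 inferInstance)
  refine ⟨P.Ring, inferInstance, (algebraMap B₀ P.Ring).comp (algebraMap A B₀), (P.lift α hm).toRingHom,
    ?_, RingHom.ext fun x => ?_, P.X, P.lift_X α hm⟩
  · rw [CommRingCat.ofHom_comp, Spec.map_comp]
    infer_instance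
  · exact ((P.lift α hm).commutes _).trans (hφ₀ x)

variable {S : Scheme.{u}} {X Y : AlgSp.Space S} (f : X ⟶ Y)

set_option maxHeartbeats 1600000 in
/-- If the fibres over all points of etale neighbourhoods are connected, so is the geometric fibre. -/
theorem connectedSpace_of_etale_nbhds (yb : FieldPt Y.obj) [IsAlgClosed yb.K]
    {Q : Sp S} {fst : Q ⟶ X.obj} {snd : Q ⟶ (yon S).obj yb.pt} (h : IsPullback fst snd f.hom yb.toHom)
    (H : ∀ (V : Over S) (a : (yon S).obj V ⟶ Y.obj), RepWith @Etale a →
      ∀ (v : ↥V.left) (c : yb.pt ⟶ V), (yon S).map c ≫ a = yb.toHom → c.left (IsLocalRing.closedPoint yb.K) = v →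
        ∀ (Xv : Sp S) (fst' : Xv ⟶ X.obj)
          (snd' : Xv ⟶ (yon S).obj (Over.mk (V.left.fromSpecResidueField v ≫ V.hom))),
          IsPullback fst' snd' f.hom ((yon S).map (Over.homMk (V.left.fromSpecResidueField v) rfl :
            Over.mk (V.left.fromSpecResidueField v ≫ V.hom) ⟶ V) ≫ a) → ConnectedSpace (Points Xv)) :
    ConnectedSpace (Points Q) := by
  classical
  obtain ⟨U, p, hp, hps⟩ := Y.property.atlas
  haveI : IsAffine yb.pt.left := inferInstanceAs (IsAffine (Spec _))
  obtain ⟨V', b, Z', π, v', hV', hb, -, hπ, hπs, hπv⟩ := AlgSpDec.exists_affine_chart_lift hp hps yb.toHom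
  obtain ⟨z, -⟩ := hπs.surj (IsLocalRing.closedPoint yb.K)
  obtain ⟨sec, hsec, -⟩ := exists_section_of_etale π z
  let c₀ : yb.pt ⟶ V' := sec ≫ v'
  have hc₀ : (yon S).map c₀ ≫ b = yb.toHom := by
    rw [Functor.map_comp, Category.assoc, ← hπv, ← Functor.map_comp_assoc, hsec]
    exact Category.id_comp _
  -- the affine neighbourhood and the field generated by its functions
  let A : Type u := Γ(V'.left, ⊤)
  let e : V'.left ≅ Spec (CommRingCat.of A) := V'.left.isoSpec
  obtain ⟨φ', hφ'⟩ := Spec.map_surjective (c₀.left ≫ e.hom)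
  let φ : A →+* yb.K := φ'.hom
  let k := Subfield.closure (Set.range φ)
  let ψ : A →+* k := φ.codRestrict k fun x => Subfield.subset_closure ⟨x, rfl⟩
  let sk : Spec (CommRingCat.of k) ⟶ S := Spec.map (CommRingCat.ofHom ψ) ≫ e.inv ≫ V'.hom
  let jk : Over.mk sk ⟶ V' := Over.homMk (Spec.map (CommRingCat.ofHom ψ) ≫ e.inv) (Category.assoc _ _ _)
  let rk : (yon S).obj (Over.mk sk) ⟶ Y.obj := (yon S).map jk ≫ b
  let P := pullback f.hom rk
  let q : P ⟶ (yon S).obj (Over.mk sk) := pullback.snd _ _
  let ks : IntermediateField k yb.K := separableClosure k yb.K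
  haveI : IsSepClosed ks := (separableClosure.isSepClosure k yb.K).sep_closed
  -- connectedness over the finite separable levels
  have key : ∀ L : IntermediateField k ks, FiniteDimensional k L →
      ConnectedSpace (Points (pullback q ((yon S).map (specStr sk L)))) := fun L hL => by
    let j : L →ₐ[k] yb.K := ks.val.comp L.val
    obtain ⟨α, hα⟩ := Field.exists_primitive_element k L
    have hαs : IsSeparable k (j α) := mem_separableClosure_iff.1 (α : ks).2
    obtain ⟨B, _, i, χ, hi, hχ, hαr⟩ := exists_etale_algebra φ (j α) hαs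
    let iB : Spec (CommRingCat.of B) ⟶ V'.left := Spec.map (CommRingCat.ofHom i) ≫ e.inv
    haveI : Etale iB := inferInstanceAs (Etale (Spec.map (CommRingCat.ofHom i) ≫ e.inv))
    let V : Over S := Over.mk (iB ≫ V'.hom)
    let a : (yon S).obj V ⟶ Y.obj := (yon S).map (Over.homMk iB rfl : V ⟶ V') ≫ b
    have ha : RepWith @Etale a := repWith_comp ((repWith_yon_map_iff _ _).2 (show Etale iB by infer_instance)) hb
    have hcw : Spec.map (CommRingCat.ofHom χ) ≫ iB = c₀.left := by
      rw [← Category.assoc, ← Spec.map_comp, ← CommRingCat.ofHom_comp, hχ, Iso.comp_inv_eq]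
      exact hφ'
    let c : yb.pt ⟶ V := Over.homMk (Spec.map (CommRingCat.ofHom χ)) (by
      show Spec.map _ ≫ iB ≫ V'.hom = yb.str
      rw [← Category.assoc, hcw]
      exact Over.w c₀)
    have hc : (yon S).map c ≫ a = yb.toHom := by
      rw [← hc₀, ← Category.assoc, ← Functor.map_comp]
      exact congrArg (fun t => (yon S).map t ≫ b) (Over.OverMorphism.ext hcw)
    let v : ↥V.left := c.left (IsLocalRing.closedPoint yb.K)
    let θ : V.left.residueField v →+* yb.K := (Scheme.descResidueField (Scheme.stalkClosedPointTo c.left)).hom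
    obtain ⟨ρ, hρ⟩ := Spec.map_surjective (R := CommRingCat.of B) (V.left.fromSpecResidueField v)
    have hθ : θ.comp ρ.hom = χ := by
      have e₁ : Spec.map (Scheme.descResidueField (Scheme.stalkClosedPointTo c.left)) ≫
          V.left.fromSpecResidueField v = c.left :=
        Scheme.descResidueField_stalkClosedPointTo_fromSpecResidueField yb.K V.left c.left
      rw [← hρ] at e₁
      exact congrArg CommRingCat.Hom.hom (Spec.map_injective ((Spec.map_comp ρ _).trans e₁))
    have hrange : ∀ y : L, j y ∈ θ.fieldRange := by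
      let M : IntermediateField k yb.K := Subfield.toIntermediateField θ.fieldRange fun x => by
        refine (Subfield.closure_le.2 ?_) x.2
        rintro _ ⟨x, rfl⟩
        exact ⟨ρ.hom (i x), by rw [← RingHom.congr_fun hχ x, ← hθ]; rfl⟩
      have hαM : j α ∈ M := by
        obtain ⟨w, hw⟩ := hαr
        exact ⟨ρ.hom w, by rw [← hw, ← hθ]; rfl⟩
      intro y
      have hy : y ∈ IntermediateField.adjoin k {α} := hα.symm ▸ IntermediateField.mem_top
      show j y ∈ M
      induction hy using IntermediateField.adjoin_induction with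
      | mem x hx => rw [Set.mem_singleton_iff.1 hx]; exact hαM
      | algebraMap x => rw [AlgHom.commutes]; exact M.algebraMap_mem x
      | add x z _ _ hx hz => rw [map_add]; exact add_mem hx hz
      | inv x _ hx => rw [map_inv₀]; exact inv_mem hx
      | mul x z _ _ hx hz => rw [map_mul]; exact mul_mem hx hz
    let ι : L →+* V.left.residueField v :=
      (RingEquiv.ofBijective θ.rangeRestrictField θ.rangeRestrictField_bijective).symm.toRingHom.comp
        (j.toRingHom.codRestrict θ.fieldRange hrange)
    have hι : ∀ y, θ (ι y) = j y := fun y =>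
      congrArg Subtype.val ((RingEquiv.ofBijective θ.rangeRestrictField θ.rangeRestrictField_bijective).apply_symm_apply
        ⟨j y, hrange y⟩)
    have hιw : Spec.map (CommRingCat.ofHom ι) ≫ Spec.map (CommRingCat.ofHom (algebraMap k L)) ≫
        Spec.map (CommRingCat.ofHom ψ) ≫ e.inv = V.left.fromSpecResidueField v ≫ iB := by
      rw [← hρ]
      simp only [iB, ← Category.assoc]
      congr 1
      simp only [← Spec.map_comp]
      congr 1
      ext x
      refine θ.injective ?_
      show θ (ι (algebraMap k L (ψ x))) = θ (ρ.hom (i x))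
      rw [hι, AlgHom.commutes, ← RingHom.comp_apply θ, hθ, ← RingHom.comp_apply χ, hχ]
      rfl
    let w : Over.mk (V.left.fromSpecResidueField v ≫ V.hom) ⟶ specO sk L :=
      Over.homMk (Spec.map (CommRingCat.ofHom ι)) (by
        show Spec.map _ ≫ Spec.map _ ≫ Spec.map _ ≫ e.inv ≫ V'.hom =
          V.left.fromSpecResidueField v ≫ iB ≫ V'.hom
        simp only [← Category.assoc] at hιw ⊢
        rw [hιw])
    let PL := pullback q ((yon S).map (specStr sk L))
    have sL : IsPullback (pullback.fst q ((yon S).map (specStr sk L)) ≫ pullback.fst f.hom rk)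
        (pullback.snd q ((yon S).map (specStr sk L))) f.hom ((yon S).map (specStr sk L) ≫ rk) :=
      (IsPullback.of_hasPullback _ _).paste_horiz (IsPullback.of_hasPullback _ _)
    let Qv := pullback (pullback.snd q ((yon S).map (specStr sk L))) ((yon S).map w)
    have sQ := IsPullback.of_hasPullback (pullback.snd q ((yon S).map (specStr sk L))) ((yon S).map w)
    have hbig := sQ.paste_horiz sL
    rw [show (yon S).map w ≫ (yon S).map (specStr sk L) ≫ rk = (yon S).map (Over.homMk (V.left.fromSpecResidueField v) rfl :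
        Over.mk (V.left.fromSpecResidueField v ≫ V.hom) ⟶ V) ≫ a from by
      simp only [a, rk, ← Category.assoc, ← Functor.map_comp]
      exact congrArg (fun t => (yon S).map t ≫ b) (Over.OverMorphism.ext (by
        show (Spec.map _ ≫ Spec.map _) ≫ Spec.map _ ≫ e.inv = _
        rw [Category.assoc]
        exact hιw))] at hbig
    haveI := H V a ha v c hc rfl _ _ _ hbig
    exact connectedSpace_of_bc (k := L) sQ
  haveI : Algebra.IsAlgebraic k ks := separableClosure.isAlgebraic k yb.K
  haveI := key ⊥ inferInstance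
  haveI : Nonempty (Points P) :=
    ⟨Points.map (pullback.fst q ((yon S).map (specStr sk (⊥ : IntermediateField k ks)))) (Classical.arbitrary _)⟩
  let Pks := pullback q ((yon S).map (specStr sk ks))
  haveI : ConnectedSpace (Points Pks) :=
    { toPreconnectedSpace := preconnectedSpace_of_finite_levels sk q fun L hL => (key L hL).toPreconnectedSpace
      toNonempty := (surjective_field_bc (IsPullback.of_hasPullback q ((yon S).map (specStr sk ks)))
        (Classical.arbitrary _)).nonempty }
  have hcom : Spec.map (CommRingCat.ofHom (algebraMap ks yb.K)) ≫ Spec.map (CommRingCat.ofHom (algebraMap k ks)) ≫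
      Spec.map (CommRingCat.ofHom ψ) ≫ e.inv = c₀.left := by
    simp only [← Category.assoc, ← Spec.map_comp, ← CommRingCat.ofHom_comp]
    rw [Iso.comp_inv_eq, ← hφ']
    rfl
  let w : yb.pt ⟶ specO sk ks := Over.homMk (Spec.map (CommRingCat.ofHom (algebraMap ks yb.K))) (by
    show Spec.map _ ≫ Spec.map _ ≫ Spec.map _ ≫ e.inv ≫ V'.hom = yb.str
    rw [reassoc_of% hcom]
    exact Over.w c₀)
  have sKs : IsPullback (pullback.fst q ((yon S).map (specStr sk ks)) ≫ pullback.fst f.hom rk)
      (pullback.snd q ((yon S).map (specStr sk ks))) f.hom ((yon S).map (specStr sk ks) ≫ rk) :=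
    (IsPullback.of_hasPullback _ _).paste_horiz (IsPullback.of_hasPullback _ _)
  have hw : (yon S).map w ≫ (yon S).map (specStr sk ks) ≫ rk = yb.toHom := by
    simp only [rk, ← Category.assoc, ← Functor.map_comp]
    refine (congrArg (fun t => (yon S).map t ≫ b) (Over.OverMorphism.ext ?_)).trans hc₀
    show (Spec.map _ ≫ Spec.map _) ≫ Spec.map _ ≫ e.inv = _
    rw [Category.assoc]
    exact hcom
  let m := sKs.lift fst (snd ≫ (yon S).map w) (by rw [h.w, Category.assoc, hw])
  have sm : IsPullback m snd (pullback.snd q ((yon S).map (specStr sk ks))) ((yon S).map w) := by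
    refine IsPullback.of_right ?_ (sKs.lift_snd _ _ _) sKs
    rw [sKs.lift_fst, hw]
    exact h
  exact connectedSpace_bc (k := ks) sm

end Groth.Agent.AlgSpC7.ConnEtale
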