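import Groth.Agent.AlgSpLib.LocalBaseTop
import Groth.Agent.AlgSpPts.Univ
import Groth.Agent.VarGeom.OpenMap
import Groth.Agent.GeomConn5.Count
import Mathlib.AlgebraicGeometry.Geometrically.Connected

/-!
# Connectedness of algebraic spaces over fields under field extensions
-/

set_option backward.isDefEq.respectTransparency false
set_option backward.isDefEq.respectTransparency.types false
set_option autoImplicit false
set_option linter.style.haveILetI false

universe u

open CategoryTheory CategoryTheory.Limits AlgebraicGeometry AlgSp Groth.Agent.AlgSpLib Groth.Agent.AlgSpPts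
open scoped TensorProduct

namespace Groth.Agent.AlgSpC7.ConnExt

variable {S : Scheme.{u}}

theorem isConnected_fibre {F G : Sp S} {f : F ⟶ G} (hf : RepWith @GeometricallyConnected f) (x : Points G) :
    _root_.IsConnected (Points.map f ⁻¹' {x}) := by
  obtain ⟨T, g, t, _, rfl⟩ := exists_ofPt_eq x
  haveI : GeometricallyConnected (hf.rep.snd g).left := hf.property_snd g
  have sq := hf.rep.isPullback g
  have he : Points.map f ⁻¹' {Points.ofPt g t} =
      Points.ofPt (hf.rep.fst g) '' ((hf.rep.snd g).left ⁻¹' {t}) := by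
    refine Set.Subset.antisymm (fun w hw => ?_) ?_
    · obtain ⟨z, hz₁, hz₂⟩ := exists_point_of_isPullback sq (x := w) (y := Points.ofPt (𝟙 _) t)
        (by rw [Points.map_ofPt, Category.id_comp]; exact hw)
      obtain ⟨v, rfl⟩ := (Points.schemeHomeo _).surjective z
      replace hz₁ : Points.map (hf.rep.fst g) (Points.ofPt (𝟙 _) v) = w := hz₁
      replace hz₂ : Points.map ((yon S).map (hf.rep.snd g)) (Points.ofPt (𝟙 _) v) = Points.ofPt (𝟙 _) t := hz₂
      rw [Points.map_ofPt, Category.id_comp] at hz₁ hz₂
      rw [← Category.comp_id ((yon S).map _), ofPt_comp] at hz₂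
      exact ⟨v, (Points.schemeHomeo T).injective hz₂, hz₁⟩
    · rintro _ ⟨v, hv, rfl⟩
      show Points.map f (Points.ofPt (hf.rep.fst g) v) = Points.ofPt g t
      rw [Points.map_ofPt, hf.rep.w g, ofPt_comp, hv]
  rw [he]
  exact ((hf.rep.snd g).left.isConnected_preimage_singleton t).image _ (Points.continuous_ofPt _).continuousOn

theorem isCoinducing_map {F G : Sp S} {f : F ⟶ G} (hu : RepWith @UniversallyOpen f)
    (hs : Function.Surjective (Points.map f)) : Topology.IsCoinducing (Points.map f) :=
  ((isOpenMap_map hu).isQuotientMap (Points.continuous_map f) hs).isCoinducing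

variable {σ τ : Over S} {P P' : Sp S} {q : P ⟶ (yon S).obj σ} {g : P' ⟶ P} {q' : P' ⟶ (yon S).obj τ}
  {z : τ ⟶ σ}

theorem repWith_g (sq : IsPullback g q' q ((yon S).map z)) (R : MorphismProperty Scheme.{u})
    [R.IsStableUnderBaseChange] (hR : R z.left) : RepWith R g :=
  repWith_of_isPullback sq.flip ((repWith_yon_map_iff R z).2 hR)

theorem surjective_map_g (sq : IsPullback g q' q ((yon S).map z)) (hs : Surjective z.left) :
    Function.Surjective (Points.map g) := by
  intro x
  obtain ⟨t, ht⟩ := (Points.schemeHomeo σ).surjective (Points.map q x)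
  obtain ⟨t', rfl⟩ := hs.surj t
  obtain ⟨w, hw, -⟩ := exists_point_of_isPullback sq (x := x) (y := Points.ofPt (𝟙 _) t') (by
    rw [← ht, Points.map_ofPt, Category.id_comp, ← Category.comp_id ((yon S).map z), ofPt_comp]; rfl)
  exact ⟨w, hw⟩

theorem surjective_of_field {k K : Type u} [Field k] [Field K]
    (f : Spec (CommRingCat.of K) ⟶ Spec (CommRingCat.of k)) : Surjective f :=
  ⟨fun _ => ⟨IsLocalRing.closedPoint K, Subsingleton.elim (α := PrimeSpectrum k) _ _⟩⟩

section Field

variable {k K : Type u} [Field k] [Field K] {sk : Spec (CommRingCat.of k) ⟶ S} {sK : Spec (CommRingCat.of K) ⟶ S}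
  {w : Over.mk sK ⟶ Over.mk sk} {p : P ⟶ (yon S).obj (Over.mk sk)} {p' : P' ⟶ (yon S).obj (Over.mk sK)}

theorem geometricallyConnected_of_sepClosed [IsSepClosed k]
    (f : Spec (CommRingCat.of K) ⟶ Spec (CommRingCat.of k)) : GeometricallyConnected f := by
  obtain ⟨φ, rfl⟩ := Spec.map_surjective f
  letI : Algebra k K := φ.hom.toAlgebra
  refine GeomConn5.geometricallyConnected_spec_field k K fun a ha => ?_
  obtain ⟨r, hr⟩ := IsSepClosed.algebraMap_surjective k (separableClosure k K) ⟨a, mem_separableClosure_iff.2 ha⟩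
  exact ⟨r, congrArg Subtype.val hr⟩

theorem surjective_field_bc (sq : IsPullback g p' p ((yon S).map w)) : Function.Surjective (Points.map g) :=
  surjective_map_g sq (surjective_of_field w.left)

/-- Over a separably closed field the connected components do not change under field extensions. -/
theorem connectedComponents_bc [IsSepClosed k] (sq : IsPullback g p' p ((yon S).map w)) :
    Nonempty (_root_.ConnectedComponents (Points P') ≃ₜ _root_.ConnectedComponents (Points P)) :=
  ⟨(isCoinducing_map (repWith_g sq _ (VarGeom.universallyOpen_of_field w.left))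
    (surjective_field_bc sq)).connectedComponentsHomeomorph
      (isConnected_fibre (repWith_g sq _ (geometricallyConnected_of_sepClosed w.left)))⟩

theorem connectedSpace_bc [IsSepClosed k] (sq : IsPullback g p' p ((yon S).map w))
    [ConnectedSpace (Points P)] : ConnectedSpace (Points P') := by
  refine connectedSpace_iff_univ.2 ?_
  exact (isCoinducing_map (repWith_g sq _ (VarGeom.universallyOpen_of_field w.left))
    (surjective_field_bc sq)).isConnected_preimage_of_isClosed
      (isConnected_fibre (repWith_g sq _ (geometricallyConnected_of_sepClosed w.left)))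
      isClosed_univ isConnected_univ

theorem connectedSpace_of_bc (sq : IsPullback g p' p ((yon S).map w)) [ConnectedSpace (Points P')] :
    ConnectedSpace (Points P) :=
  (surjective_field_bc sq).connectedSpace (Points.continuous_map g)

end Field

section Separable

variable {k K : Type u} [Field k] [Field K] [Algebra k K] (sk : Spec (CommRingCat.of k) ⟶ S)

/-- The spectrum of a `k`-algebra as a scheme over `S`. -/
noncomputable abbrev specO (A : Type u) [CommRing A] [Algebra k A] : Over S :=
  Over.mk (Spec.map (CommRingCat.ofHom (algebraMap k A)) ≫ sk)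

/-- The map of spectra of an algebra homomorphism. -/
noncomputable abbrev specHom {A B : Type u} [CommRing A] [Algebra k A] [CommRing B] [Algebra k B]
    (φ : A →ₐ[k] B) : specO sk B ⟶ specO sk A :=
  Over.homMk (Spec.map (CommRingCat.ofHom φ.toRingHom)) (by
    show Spec.map _ ≫ Spec.map _ ≫ sk = Spec.map _ ≫ sk
    rw [← Category.assoc, ← Spec.map_comp, ← CommRingCat.ofHom_comp,
      show φ.toRingHom.comp (algebraMap k A) = algebraMap k B from φ.comp_algebraMap])

/-- The structure map to the base field. -/
noncomputable abbrev specStr (A : Type u) [CommRing A] [Algebra k A] : specO sk A ⟶ Over.mk sk :=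
  Over.homMk (Spec.map (CommRingCat.ofHom (algebraMap k A))) rfl

theorem specHom_str {A B : Type u} [CommRing A] [Algebra k A] [CommRing B] [Algebra k B]
    (φ : A →ₐ[k] B) : specHom sk φ ≫ specStr sk A = specStr sk B :=
  Over.OverMorphism.ext (by
    show Spec.map _ ≫ Spec.map _ = Spec.map _
    rw [← Spec.map_comp, ← CommRingCat.ofHom_comp,
      show φ.toRingHom.comp (algebraMap k A) = algebraMap k B from φ.comp_algebraMap])

theorem isPullback_specO (A B : Type u) [CommRing A] [Algebra k A] [CommRing B] [Algebra k B] :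
    IsPullback (specHom sk (Algebra.TensorProduct.includeLeft : A →ₐ[k] A ⊗[k] B))
      (specHom sk (Algebra.TensorProduct.includeRight : B →ₐ[k] A ⊗[k] B)) (specStr sk A) (specStr sk B) :=
  IsPullback.of_map_of_faithful (Over.forget S)
    (isPullback_SpecMap_of_isPushout _ _ _ _ (CommRingCat.isPushout_tensorProduct k A B))

theorem exists_finite_level {κ : Type u} [Field κ] [Algebra k κ] [Algebra.IsIntegral k K] (e : κ ⊗[k] K) :
    ∃ (L : IntermediateField k K) (_ : FiniteDimensional k L) (e' : κ ⊗[k] L),
      Algebra.TensorProduct.map (AlgHom.id k κ) L.val e' = e := by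
  classical
  obtain ⟨s, hs⟩ := TensorProduct.exists_finset e
  let t : Set K := ↑(s.image Prod.snd)
  let L : IntermediateField k K := IntermediateField.adjoin k t
  haveI : Finite t := Finset.finite_toSet _
  haveI : FiniteDimensional k L :=
    IntermediateField.finiteDimensional_adjoin fun x _ => Algebra.IsIntegral.isIntegral x
  refine ⟨L, inferInstance, ∑ i ∈ s.attach, i.1.1 ⊗ₜ[k]
    (⟨i.1.2, IntermediateField.subset_adjoin k t (Finset.mem_image_of_mem _ i.2)⟩ : L), ?_⟩
  rw [map_sum, hs]
  exact (Finset.sum_congr rfl fun i _ => by simp).trans (Finset.sum_attach s fun i => i.1 ⊗ₜ[k] i.2)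

/-- A space connected over every finite subextension is connected over a separable algebraic extension. -/
theorem preconnectedSpace_of_finite_levels [Algebra.IsAlgebraic k K] (q : P ⟶ (yon S).obj (Over.mk sk))
    (H : ∀ L : IntermediateField k K, FiniteDimensional k L →
      PreconnectedSpace (Points (pullback q ((yon S).map (specStr sk L))))) :
    PreconnectedSpace (Points (pullback q ((yon S).map (specStr sk K)))) := by
  haveI : Algebra.IsIntegral k K := Algebra.IsAlgebraic.isIntegral
  set PK := pullback q ((yon S).map (specStr sk K))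
  let gK : PK ⟶ P := pullback.fst _ _
  refine preconnectedSpace_iff_clopen.2 fun T hT => ?_
  by_contra hne
  push Not at hne
  obtain ⟨t₀, ht₀⟩ := hne.1
  obtain ⟨t₁, ht₁⟩ := Set.nonempty_compl.2 hne.2
  -- images of clopen sets in the levels are clopen
  have clop : ∀ {Q Q' : Sp S} {A B : Over S} {m : Q' ⟶ Q} {a : Q ⟶ (yon S).obj A} {b : Q' ⟶ (yon S).obj B}
      {z : B ⟶ A}, IsPullback m b a ((yon S).map z) → UniversallyOpen z.left → UniversallyClosed z.left →
      ∀ s : Set (Points Q'), IsClopen s → IsClopen (Points.map m '' s) := fun sq h1 h2 s hs =>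
    ⟨isClosedMap_map (repWith_g sq _ h2) _ hs.1, isOpenMap_map (repWith_g sq _ h1) _ hs.2⟩
  have hclK : UniversallyClosed (specStr sk K).left := by
    haveI : IsIntegralHom (specStr sk K).left :=
      IsIntegralHom.SpecMap_iff.2 (algebraMap_isIntegral_iff.2 inferInstance)
    infer_instance
  haveI hP : PreconnectedSpace (Points P) := by
    haveI := H ⊥ inferInstance
    refine ⟨?_⟩
    rw [← (surjective_field_bc (IsPullback.of_hasPullback q ((yon S).map (specStr sk (⊥ : IntermediateField k K))))).range_eq,
      ← Set.image_univ]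
    exact isPreconnected_univ.image _ (Points.continuous_map _).continuousOn
  obtain ⟨t₁', ht₁', hx⟩ : ∃ t₁' ∈ Tᶜ, Points.map gK t₁' = Points.map gK t₀ := by
    have hc := clop (IsPullback.of_hasPullback q ((yon S).map (specStr sk K)))
      (VarGeom.universallyOpen_of_field (specStr sk K).left) hclK _ hT.compl
    have := (preconnectedSpace_iff_clopen.1 hP _ hc).resolve_left (Set.nonempty_iff_ne_empty.1 ⟨_, t₁, ht₁, rfl⟩)
    exact this.ge (Set.mem_univ (Points.map gK t₀))
  obtain ⟨x, hxp⟩ := Points.mk_surjective (Points.map gK t₀)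
  obtain ⟨j, hj⟩ := (yon S).map_surjective (x.toHom ≫ q)
  obtain ⟨ι, hι⟩ := Spec.map_surjective j.left
  letI : Algebra k x.K := ι.hom.toAlgebra
  have hxstr : x.str = Spec.map (CommRingCat.ofHom (algebraMap k x.K)) ≫ sk := by
    rw [show CommRingCat.ofHom (algebraMap k x.K) = ι from rfl, hι]
    exact (Over.w j).symm
  let ex : specO sk x.K ⟶ x.pt := Over.homMk (𝟙 _) (by show 𝟙 _ ≫ x.str = _; rw [Category.id_comp, hxstr]; rfl)
  let r : (yon S).obj (specO sk x.K) ⟶ P := (yon S).map ex ≫ x.toHom
  have hr : r ≫ q = (yon S).map (specStr sk x.K) := by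
    rw [Category.assoc, ← hj, ← Functor.map_comp]
    refine congrArg (yon S).map (Over.OverMorphism.ext ?_)
    show 𝟙 _ ≫ j.left = Spec.map ι
    rw [Category.id_comp, hι]
  have hrx : ∀ c, Points.ofPt r c = Points.map gK t₀ := fun c => by
    rw [ofPt_comp, ← hxp, mk_eq_ofPt]
    exact congrArg _ (Subsingleton.elim (α := PrimeSpectrum x.K) _ _)
  -- the fibres over `x`
  let pr : ∀ (B : Type u) [CommRing B] [Algebra k B], specO sk (x.K ⊗[k] B) ⟶ specO sk x.K :=
    fun B _ _ => specHom sk Algebra.TensorProduct.includeLeft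
  let m : ∀ (B : Type u) [CommRing B] [Algebra k B],
      (yon S).obj (specO sk (x.K ⊗[k] B)) ⟶ pullback q ((yon S).map (specStr sk B)) := fun B _ _ =>
    pullback.lift ((yon S).map (pr B) ≫ r) ((yon S).map (specHom sk Algebra.TensorProduct.includeRight))
      (by rw [Category.assoc, hr, ← Functor.map_comp, ← Functor.map_comp, (isPullback_specO sk x.K B).w])
  have sqm : ∀ (B : Type u) [CommRing B] [Algebra k B],
      IsPullback (m B) ((yon S).map (pr B)) (pullback.fst q ((yon S).map (specStr sk B))) r := fun B _ _ =>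
    (IsPullback.of_bot (h₁₁ := (yon S).map (pr B)) (v₁₁ := m B)
      (by
        rw [hr, show m B ≫ pullback.snd q ((yon S).map (specStr sk B)) = _ from pullback.lift_snd _ _ _]
        exact (isPullback_specO sk x.K B).map (yon S))
      (pullback.lift_fst _ _ _).symm (IsPullback.of_hasPullback q ((yon S).map (specStr sk B)))).flip
  obtain ⟨e, -, -, -, he⟩ := PrimeSpectrum.isClopen_iff_mul_add.1
    (show IsClopen (Points.ofPt (m K) ⁻¹' T : Set (PrimeSpectrum (x.K ⊗[k] K))) from
      hT.preimage (Points.continuous_ofPt _))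
  obtain ⟨L, hL, e', he'⟩ := exists_finite_level e
  set PL := pullback q ((yon S).map (specStr sk L))
  let tL : PK ⟶ PL := pullback.lift gK (pullback.snd _ _ ≫ (yon S).map (specHom sk L.val))
    (by rw [Category.assoc, ← Functor.map_comp, specHom_str]; exact pullback.condition)
  have sqL : IsPullback tL (pullback.snd q ((yon S).map (specStr sk K))) (pullback.snd q ((yon S).map (specStr sk L)))
      ((yon S).map (specHom sk L.val)) := by
    refine IsPullback.of_right ?_ (pullback.lift_snd _ _ _) (IsPullback.of_hasPullback q ((yon S).map (specStr sk L)))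
    rw [pullback.lift_fst, ← Functor.map_comp, specHom_str]
    exact IsPullback.of_hasPullback q ((yon S).map (specStr sk K))
  let eL : x.K ⊗[k] L →ₐ[k] x.K ⊗[k] K := Algebra.TensorProduct.map (AlgHom.id k x.K) L.val
  let wL : specO sk (x.K ⊗[k] K) ⟶ specO sk (x.K ⊗[k] L) := specHom sk eL
  have hwpr : wL ≫ pr L = pr K := Over.OverMorphism.ext (by
    show Spec.map _ ≫ Spec.map _ = Spec.map _
    rw [← Spec.map_comp, ← CommRingCat.ofHom_comp]
    congr 2)
  have hwsnd : wL ≫ specHom sk (Algebra.TensorProduct.includeRight : L →ₐ[k] x.K ⊗[k] L) =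
      specHom sk (Algebra.TensorProduct.includeRight : K →ₐ[k] x.K ⊗[k] K) ≫ specHom sk L.val :=
    Over.OverMorphism.ext (by
      show Spec.map _ ≫ Spec.map _ = Spec.map _ ≫ Spec.map _
      rw [← Spec.map_comp, ← CommRingCat.ofHom_comp, ← Spec.map_comp, ← CommRingCat.ofHom_comp]
      congr 2)
  have hmt : m K ≫ tL = (yon S).map wL ≫ m L := pullback.hom_ext
    (by rw [Category.assoc, pullback.lift_fst, pullback.lift_fst, Category.assoc, pullback.lift_fst]
        simp only [r, ← hwpr, Functor.map_comp, Category.assoc])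
    (by rw [Category.assoc, pullback.lift_snd, pullback.lift_snd_assoc, Category.assoc, pullback.lift_snd,
      ← Functor.map_comp, ← Functor.map_comp, hwsnd])
  have sqw : IsPullback (m K) ((yon S).map wL) tL (m L) :=
    IsPullback.of_bot (h₂₁ := m L) (v₂₁ := (yon S).map (pr L))
      (by
        rw [← Functor.map_comp, hwpr, show tL ≫ pullback.fst q ((yon S).map (specStr sk L)) = gK from
          pullback.lift_fst _ _ _]
        exact sqm K)
      hmt (sqm L)
  have hclL : UniversallyClosed (specHom sk L.val).left := by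
    haveI : IsIntegralHom (specHom sk L.val).left := IsIntegralHom.SpecMap_iff.2
      (algebraMap_isIntegral_iff.2 (Algebra.IsIntegral.tower_top k))
    infer_instance
  have hopL := VarGeom.universallyOpen_of_field (specHom sk L.val).left
  let A := Points.map tL '' T
  let B := Points.map tL '' Tᶜ
  have hA : IsClopen A := clop sqL hopL hclL T hT
  have hB : IsClopen B := clop sqL hopL hclL _ hT.compl
  haveI := H L hL
  haveI : UniversallyClosed (specStr sk L).left := by
    haveI : IsIntegralHom (specStr sk L).left :=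
      IsIntegralHom.SpecMap_iff.2 (algebraMap_isIntegral_iff.2 inferInstance)
    infer_instance
  -- `A` and `B` do not meet over `x`
  have key : ∀ b ∈ A ∩ B, Points.map (pullback.fst q ((yon S).map (specStr sk L))) b ≠ Points.map gK t₀ := by
    rintro b ⟨⟨a, ha, rfl⟩, c, hc, hcb⟩ hb
    have c₀ : ↥(specO sk x.K).left := IsLocalRing.closedPoint x.K
    obtain ⟨z, hz, -⟩ := exists_point_of_isPullback (sqm L) (x := Points.map tL a)
      (y := Points.ofPt (𝟙 _) c₀) (by rw [Points.map_ofPt, Category.id_comp, hrx, hb])
    have pick : ∀ a' : Points PK, Points.map tL a' = Points.map tL a →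
        ∃ w, Points.ofPt (m K) w = a' ∧ Points.ofPt ((yon S).map wL) w = z := fun a' ha' => by
      obtain ⟨w, hw₁, hw₂⟩ := exists_point_of_isPullback sqw (x := a') (y := z) (ha'.trans hz.symm)
      obtain ⟨w, rfl⟩ := (Points.schemeHomeo _).surjective w
      replace hw₁ : Points.map (m K) (Points.ofPt (𝟙 _) w) = a' := hw₁
      replace hw₂ : Points.map ((yon S).map wL) (Points.ofPt (𝟙 _) w) = z := hw₂
      rw [Points.map_ofPt, Category.id_comp] at hw₁ hw₂
      exact ⟨w, hw₁, hw₂⟩
    obtain ⟨w, hw, hwz⟩ := pick a rfl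
    obtain ⟨w', hw', hwz'⟩ := pick c hcb
    rw [← Category.comp_id ((yon S).map wL), ofPt_comp] at hwz hwz'
    have hwe : wL.left w = wL.left w' := (Points.schemeHomeo _).injective (hwz.trans hwz'.symm)
    have hmem : ∀ v, Points.ofPt (m K) v ∈ T ↔ e' ∉ (wL.left v).asIdeal := fun v => by
      refine (Set.ext_iff.1 he v).trans ?_
      show e ∉ v.asIdeal ↔ eL e' ∉ v.asIdeal
      rw [show eL e' = e from he']
    exact hc (hw' ▸ (hmem w').2 (hwe ▸ (hmem w).1 (hw.symm ▸ ha)))
  have hAB : A ∩ B = ∅ := by
    have hc := clop (IsPullback.of_hasPullback q ((yon S).map (specStr sk L)))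
      (VarGeom.universallyOpen_of_field (specStr sk L).left) inferInstance _ (hA.inter hB)
    rcases preconnectedSpace_iff_clopen.1 hP _ hc with h | h
    · exact Set.image_eq_empty.1 h
    · obtain ⟨b, hb, hbx⟩ := h.ge (Set.mem_univ (Points.map gK t₀))
      exact absurd hbx (key b hb)
  rcases preconnectedSpace_iff_clopen.1 inferInstance A hA with h | h
  · exact (h ▸ (⟨t₀, ht₀, rfl⟩ : Points.map tL t₀ ∈ A) : Points.map tL t₀ ∈ (∅ : Set (Points PL)))
  · exact Set.eq_empty_iff_forall_notMem.1 hAB _ ⟨h ▸ Set.mem_univ _, ⟨t₁', ht₁', rfl⟩⟩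

end Separable

end Groth.Agent.AlgSpC7.ConnExt
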