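import Groth.Agent.AlgSpC7.SheafGlue
import Groth.Agent.AlgSpLib.Points
import Groth.Agent.AlgSpDec.RedInduced
import Groth.Agent.EtFound.TopInv
import Groth.Prelude.Def_AlgSpSub

/-!
# Elementary distinguished squares are pushouts
-/

set_option backward.isDefEq.respectTransparency false
set_option backward.isDefEq.respectTransparency.types false
set_option autoImplicit false
set_option linter.style.haveILetI false

universe u

open CategoryTheory CategoryTheory.Limits AlgebraicGeometry AlgSp Opposite Groth.Agent.AlgSpLib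

namespace Groth.Agent.AlgSpC7.ElemSq

open SheafGlue

variable {S : Scheme.{u}} {U V W P : Sp S} {j : U ⟶ W} {f : V ⟶ W} {p : P ⟶ U} {q : P ⟶ V}
  {Z : Sp S} {a : U ⟶ Z} {b : V ⟶ Z}

/-- Two sections of `V` with the same image in `W`, lying outside `U` at a point, agree at that point. -/
theorem eq_at_point (hsq : IsElemDistSq j f) {k : Type u} [Field k] {str : Spec (CommRingCat.of k) ⟶ S}
    (x y : (yon S).obj (Over.mk str) ⟶ V) (h : x ≫ f = y ≫ f)
    (hout : Points.ofPt (x ≫ f) (IsLocalRing.closedPoint k) ∉ Set.range (Points.map j)) : x = y := by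
  obtain ⟨-, -, T, P₀, i, p₁, p₂, ⟨hi, hir, -⟩, hP₀, hiso⟩ := hsq
  obtain ⟨τ, hτ⟩ := hir.ge hout
  let Q := hi.rep.pullback (x ≫ f)
  haveI : IsClosedImmersion (hi.rep.snd (x ≫ f)).left := hi.property_snd _
  haveI : IsReduced (Over.mk str).left := inferInstanceAs (IsReduced (Spec _))
  obtain ⟨l, hl⟩ := AlgSpDec.exists_factor_closed (hi.rep.snd (x ≫ f)).left (𝟙 (Over.mk str).left) (by
    rintro s -
    obtain ⟨z, -, hz⟩ := exists_point_of_isPullback (hi.rep.isPullback (x ≫ f)) (x := τ)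
      (y := Points.ofPt (𝟙 _) (IsLocalRing.closedPoint k)) (by rw [Points.map_ofPt, Category.id_comp]; exact hτ)
    obtain ⟨w, rfl⟩ := (Points.schemeHomeo _).surjective z
    exact ⟨w, Subsingleton.elim (α := PrimeSpectrum k) _ _⟩)
  let l' : Over.mk str ⟶ Q := Over.homMk l (by
    rw [← Over.w (hi.rep.snd (x ≫ f)), ← Category.assoc]
    exact (congrArg (· ≫ str) hl).trans (Category.id_comp _))
  let t : (yon S).obj (Over.mk str) ⟶ T := (yon S).map l' ≫ hi.rep.fst (x ≫ f)
  have ht : t ≫ i = x ≫ f := by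
    rw [Category.assoc, hi.rep.w, ← Category.assoc, ← Functor.map_comp,
      show l' ≫ hi.rep.snd (x ≫ f) = 𝟙 _ from Over.OverMorphism.ext hl, CategoryTheory.Functor.map_id, Category.id_comp]
  have e : hP₀.lift t x ht = hP₀.lift t y (ht.trans h) := by
    rw [← cancel_mono p₁, hP₀.lift_fst, hP₀.lift_fst]
  have := congrArg (· ≫ p₂) e
  simpa only [hP₀.lift_snd] using this

/-- The sieve of morphisms equalising two sections. -/
def eqSieve {T : Over S} {F : Sp S} (z z' : (yon S).obj T ⟶ F) : Sieve T where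
  arrows := fun _ φ => (yon S).map φ ≫ z = (yon S).map φ ≫ z'
  downward_closed {_ _} φ h ψ := by rw [Functor.map_comp, Category.assoc, Category.assoc, h]

/-- The relation defining the glued morphism. -/
def Rel (j : U ⟶ W) (f : V ⟶ W) (a : U ⟶ Z) (b : V ⟶ Z) (T : Over S) (g : (yon S).obj T ⟶ W)
    (z : (yon S).obj T ⟶ Z) : Prop :=
  (∃ u, u ≫ j = g ∧ u ≫ a = z) ∨ ∃ v, v ≫ f = g ∧ v ≫ b = z

variable (hV : IsAlgSpace V) (hsq : IsElemDistSq j f) (hP : IsPullback p q j f) (hab : p ≫ a = q ≫ b)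

include hV hsq hP hab in
theorem compat_VV {T : Over S} (x y : (yon S).obj T ⟶ V) (h : x ≫ f = y ≫ f) : x ≫ b = y ≫ b := by
  obtain ⟨V₀, c, hc, hcs⟩ := hV.atlas
  -- reduce to sections of the atlas
  haveI : Etale (hc.rep.snd x).left := hc.property_snd x
  haveI : Surjective (hc.rep.snd x).left := hcs.2 x _ _ (hc.rep.isPullback x)
  refine hom_ext_of_fppf (hc.rep.snd x) (fppf_of_etale _) _ _ ?_
  let y₁ := (yon S).map (hc.rep.snd x) ≫ y
  haveI : Etale (hc.rep.snd y₁).left := hc.property_snd y₁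
  haveI : Surjective (hc.rep.snd y₁).left := hcs.2 y₁ _ _ (hc.rep.isPullback y₁)
  refine hom_ext_of_fppf (hc.rep.snd y₁) (fppf_of_etale _) _ _ ?_
  let T₂ := hc.rep.pullback y₁
  let x₀ : T₂ ⟶ V₀ := hc.rep.snd y₁ ≫ hc.rep.fst' x
  let y₀ : T₂ ⟶ V₀ := hc.rep.fst' y₁
  have hx₀ : (yon S).map (hc.rep.snd y₁) ≫ (yon S).map (hc.rep.snd x) ≫ x = (yon S).map x₀ ≫ c := by
    rw [← hc.rep.w x, Functor.map_comp, Functor.relativelyRepresentable.map_fst', Category.assoc]
  have hy₀ : (yon S).map (hc.rep.snd y₁) ≫ (yon S).map (hc.rep.snd x) ≫ y = (yon S).map y₀ ≫ c := by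
    show (yon S).map (hc.rep.snd y₁) ≫ y₁ = _
    rw [← hc.rep.w y₁, Functor.relativelyRepresentable.map_fst']
  rw [← Category.assoc ((yon S).map (hc.rep.snd x)), ← Category.assoc ((yon S).map (hc.rep.snd y₁)), hx₀,
    ← Category.assoc ((yon S).map (hc.rep.snd x)), ← Category.assoc ((yon S).map (hc.rep.snd y₁)), hy₀]
  have h₀ : ((yon S).map x₀ ≫ c) ≫ f = ((yon S).map y₀ ≫ c) ≫ f := by
    rw [← hx₀, ← hy₀]; simp only [Category.assoc, h]
  -- the locus where the two sections of the atlas agree in `V` is open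
  have hE : RepWith @Etale (c ≫ f) := hsq.2.1 c hc
  let R := hE.rep.pullback (c ≫ f)
  let r₁ : R ⟶ V₀ := hE.rep.fst' (c ≫ f)
  let r₂ : R ⟶ V₀ := hE.rep.snd (c ≫ f)
  let R' := hc.rep.pullback c
  let s₁ : R' ⟶ V₀ := hc.rep.fst' c
  let s₂ : R' ⟶ V₀ := hc.rep.snd c
  have sqR := hE.rep.isPullback' (c ≫ f)
  have sqR' := hc.rep.isPullback' c
  obtain ⟨ι, hι⟩ := (yon S).map_surjective
    (sqR.lift ((yon S).map s₁) ((yon S).map s₂) (by rw [← Category.assoc, ← Category.assoc, sqR'.w]))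
  have hι₁ : ι ≫ r₁ = s₁ := (yon S).map_injective (by rw [Functor.map_comp, hι]; exact sqR.lift_fst _ _ _)
  have hι₂ : ι ≫ r₂ = s₂ := (yon S).map_injective (by rw [Functor.map_comp, hι]; exact sqR.lift_snd _ _ _)
  haveI : Mono ι := ⟨fun {A} u v huv => (yon S).map_injective (sqR'.hom_ext
    (by rw [← Functor.map_comp, ← Functor.map_comp]; exact congrArg (yon S).map (show u ≫ s₁ = v ≫ s₁ by rw [← hι₁, reassoc_of% huv]))
    (by rw [← Functor.map_comp, ← Functor.map_comp]; exact congrArg (yon S).map (show u ≫ s₂ = v ≫ s₂ by rw [← hι₂, reassoc_of% huv])))⟩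
  haveI : Etale r₂.left := hE.property_snd _
  haveI : Etale s₂.left := hc.property_snd _
  haveI : Etale (ι.left ≫ r₂.left) := by rw [← Over.comp_left, hι₂]; infer_instance
  haveI : Etale ι.left := Etale.of_comp ι.left r₂.left
  haveI : Mono ι.left := (Over.forget S).map_mono ι
  haveI : IsOpenImmersion ι.left := IsOpenImmersion.of_flat_of_mono ι.left
  obtain ⟨g, hg⟩ := (yon S).map_surjective
    (sqR.lift ((yon S).map x₀) ((yon S).map y₀) (by rw [← Category.assoc, ← Category.assoc]; exact h₀))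
  have hg₁ : g ≫ r₁ = x₀ := (yon S).map_injective (by rw [Functor.map_comp, hg]; exact sqR.lift_fst _ _ _)
  have hg₂ : g ≫ r₂ = y₀ := (yon S).map_injective (by rw [Functor.map_comp, hg]; exact sqR.lift_snd _ _ _)
  let O := g.left ⁻¹ᵁ ι.left.opensRange
  let O' : Over S := Over.mk (O.ι ≫ T₂.hom)
  let β : O' ⟶ T₂ := Over.homMk O.ι rfl
  let lft : O.toScheme ⟶ R'.left := IsOpenImmersion.lift ι.left (O.ι ≫ g.left) (by
    rintro _ ⟨w, rfl⟩
    exact w.2)
  let lft' : O' ⟶ R' := Over.homMk lft (by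
    rw [← Over.w ι, ← Category.assoc]
    show (lft ≫ ι.left) ≫ R.hom = O.ι ≫ T₂.hom
    rw [IsOpenImmersion.lift_fac, Category.assoc, Over.w g])
  have hlft : lft' ≫ ι = β ≫ g := Over.OverMorphism.ext (IsOpenImmersion.lift_fac _ _ _)
  have hβ : (yon S).map β ≫ (yon S).map x₀ ≫ c = (yon S).map β ≫ (yon S).map y₀ ≫ c := by
    rw [← hg₁, ← hg₂, ← Functor.map_comp_assoc, ← Functor.map_comp_assoc, ← reassoc_of% hlft,
      ← reassoc_of% hlft, hι₁, hι₂, Functor.map_comp, Functor.map_comp, Category.assoc, Category.assoc, sqR'.w]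
  -- the part over `U`
  let gT : (yon S).obj T₂ ⟶ W := ((yon S).map x₀ ≫ c) ≫ f
  let α := hsq.1.rep.snd gT
  haveI : IsOpenImmersion α.left := hsq.1.property_snd gT
  haveI : Etale α.left := inferInstance
  haveI : Etale β.left := inferInstanceAs (Etale O.ι)
  refine hom_ext_of_covering _ _ (mem_J_of_etale_pair α β (R := eqSieve _ _) ?_ ?_ ?_) fun T' φ hφ => hφ
  · intro t
    by_cases ht : Points.ofPt gT t ∈ Set.range (Points.map j)
    · left
      obtain ⟨u, hu⟩ := ht
      obtain ⟨z, -, hz⟩ := exists_point_of_isPullback (hsq.1.rep.isPullback gT) (x := u)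
        (y := Points.ofPt (𝟙 _) t) (by rw [Points.map_ofPt, Category.id_comp]; exact hu)
      obtain ⟨w, rfl⟩ := (Points.schemeHomeo _).surjective z
      replace hz : Points.map ((yon S).map α) (Points.ofPt (𝟙 _) w) = Points.ofPt (𝟙 _) t := hz
      rw [Points.map_ofPt, Category.id_comp, ← Category.comp_id ((yon S).map α), ofPt_comp] at hz
      exact ⟨w, (Points.schemeHomeo T₂).injective hz⟩
    · right
      let sp : Over.mk (T₂.left.fromSpecResidueField t ≫ T₂.hom) ⟶ T₂ :=
        Over.homMk (T₂.left.fromSpecResidueField t) rfl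
      have he := eq_at_point hsq (k := T₂.left.residueField t) (str := T₂.left.fromSpecResidueField t ≫ T₂.hom)
        ((yon S).map sp ≫ (yon S).map x₀ ≫ c) ((yon S).map sp ≫ (yon S).map y₀ ≫ c)
        (by simp only [Category.assoc] at h₀ ⊢; rw [h₀])
        (by
          rw [show ((yon S).map sp ≫ (yon S).map x₀ ≫ c) ≫ f = (yon S).map sp ≫ gT from by
            simp only [gT, Category.assoc], ofPt_comp]
          rw [show sp.left (IsLocalRing.closedPoint (T₂.left.residueField t)) = t from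
            Scheme.fromSpecResidueField_apply _ _]
          exact ht)
      obtain ⟨r, hr⟩ := (yon S).map_surjective (sqR'.lift ((yon S).map (sp ≫ x₀)) ((yon S).map (sp ≫ y₀))
        (by rw [Functor.map_comp, Functor.map_comp, Category.assoc, Category.assoc]; exact he))
      have hrι : r ≫ ι = sp ≫ g := (yon S).map_injective (sqR.hom_ext
        (by
          rw [← Functor.map_comp, ← Functor.map_comp, Category.assoc, Category.assoc, hι₁, hg₁]
          refine (Functor.map_comp _ _ _).trans ?_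
          rw [hr]
          exact sqR'.lift_fst _ _ _)
        (by
          rw [← Functor.map_comp, ← Functor.map_comp, Category.assoc, Category.assoc, hι₂, hg₂]
          refine (Functor.map_comp _ _ _).trans ?_
          rw [hr]
          exact sqR'.lift_snd _ _ _))
      refine ⟨⟨t, ?_⟩, rfl⟩
      refine ⟨r.left (IsLocalRing.closedPoint (T₂.left.residueField t)), ?_⟩
      rw [← Scheme.Hom.comp_apply, ← Over.comp_left, hrι, Over.comp_left, Scheme.Hom.comp_apply]
      exact congrArg g.left (Scheme.fromSpecResidueField_apply _ _)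
  · show (yon S).map α ≫ _ = (yon S).map α ≫ _
    -- over `U` both sections factor through `P`
    have hu : hsq.1.rep.fst gT ≫ j = ((yon S).map α ≫ (yon S).map x₀ ≫ c) ≫ f := by
      rw [hsq.1.rep.w]; simp only [gT, α, Category.assoc]
    have hu' : hsq.1.rep.fst gT ≫ j = ((yon S).map α ≫ (yon S).map y₀ ≫ c) ≫ f := by
      rw [hu]; simp only [Category.assoc] at h₀ ⊢; rw [h₀]
    have e₁ := congrArg (hP.lift _ _ hu ≫ ·) hab
    have e₂ := congrArg (hP.lift _ _ hu' ≫ ·) hab
    simp only [hP.lift_fst_assoc, hP.lift_snd_assoc, Category.assoc] at e₁ e₂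
    simp only [Category.assoc]
    rw [← e₁, ← e₂]
  · show (yon S).map β ≫ _ = (yon S).map β ≫ _
    exact (reassoc_of% hβ) b

include hV hsq hP hab in
theorem rel_functional {T : Over S} (g : (yon S).obj T ⟶ W) (z z' : (yon S).obj T ⟶ Z)
    (h : Rel j f a b T g z) (h' : Rel j f a b T g z') : z = z' := by
  haveI : Mono j := AlgSpDec.mono_of_openImmersion hsq.1
  have key : ∀ u v, u ≫ j = v ≫ f → u ≫ a = (v : (yon S).obj T ⟶ V) ≫ b := fun u v e => by
    have := congrArg (hP.lift u v e ≫ ·) hab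
    simpa only [hP.lift_fst_assoc, hP.lift_snd_assoc] using this
  rcases h with ⟨u, hu, rfl⟩ | ⟨v, hv, rfl⟩ <;> rcases h' with ⟨u', hu', rfl⟩ | ⟨v', hv', rfl⟩
  · rw [(cancel_mono j).1 (hu.trans hu'.symm)]
  · exact key u v' (hu.trans hv'.symm)
  · exact (key u' v (hu'.trans hv.symm)).symm
  · exact compat_VV hV hsq hP hab v v' (hv.trans hv'.symm)

include hV hsq hP hab in
theorem existsUnique_desc : ∃! m : W ⟶ Z, j ≫ m = a ∧ f ≫ m = b := by
  obtain ⟨V₀, c, hc, hcs⟩ := hV.atlas
  have hE : RepWith @Etale (c ≫ f) := hsq.2.1 c hc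
  obtain ⟨m, hm, huniq⟩ := existsUnique_hom (Rel j f a b)
    (fun φ g z h => h.elim
      (fun ⟨u, hu, hz⟩ => Or.inl ⟨(yon S).map φ ≫ u, by rw [Category.assoc, hu], by rw [Category.assoc, hz]⟩)
      (fun ⟨v, hv, hz⟩ => Or.inr ⟨(yon S).map φ ≫ v, by rw [Category.assoc, hv], by rw [Category.assoc, hz]⟩))
    (rel_functional hV hsq hP hab)
    (fun {T} g => by
      let α := hsq.1.rep.snd g
      let β := hE.rep.snd g
      haveI : IsOpenImmersion α.left := hsq.1.property_snd g
      haveI : Etale α.left := inferInstance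
      haveI : Etale β.left := hE.property_snd g
      let Rs : Sieve T :=
        { arrows := fun T' φ => ∃ z, Rel j f a b T' ((yon S).map φ ≫ g) z
          downward_closed := fun {Y Y'} φ ⟨z, hz⟩ ψ => ⟨(yon S).map ψ ≫ z, by
            rw [Functor.map_comp, Category.assoc]
            exact hz.elim
              (fun ⟨u, hu, hz⟩ => Or.inl ⟨(yon S).map ψ ≫ u, by rw [Category.assoc, hu], by rw [Category.assoc, hz]⟩)
              (fun ⟨v, hv, hz⟩ => Or.inr ⟨(yon S).map ψ ≫ v, by rw [Category.assoc, hv], by rw [Category.assoc, hz]⟩)⟩ }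
      refine ⟨Rs, mem_J_of_etale_pair α β ?_ ⟨_, Or.inl ⟨hsq.1.rep.fst g, hsq.1.rep.w g, rfl⟩⟩
        ⟨_, Or.inr ⟨hE.rep.fst g ≫ c, (Category.assoc _ _ _).trans (hE.rep.w g), rfl⟩⟩, fun T' φ hφ => hφ⟩
      intro t
      by_cases ht : Points.ofPt g t ∈ Set.range (Points.map j)
      · left
        obtain ⟨u, hu⟩ := ht
        obtain ⟨z, -, hz⟩ := exists_point_of_isPullback (hsq.1.rep.isPullback g) (x := u)
          (y := Points.ofPt (𝟙 _) t) (by rw [Points.map_ofPt, Category.id_comp]; exact hu)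
        obtain ⟨w, rfl⟩ := (Points.schemeHomeo _).surjective z
        replace hz : Points.map ((yon S).map α) (Points.ofPt (𝟙 _) w) = Points.ofPt (𝟙 _) t := hz
        rw [Points.map_ofPt, Category.id_comp, ← Category.comp_id ((yon S).map α), ofPt_comp] at hz
        exact ⟨w, (Points.schemeHomeo T).injective hz⟩
      · right
        obtain ⟨-, -, T₀, P₀, i, p₁, p₂, ⟨-, hir, -⟩, hP₀, hiso⟩ := hsq
        obtain ⟨τ, hτ⟩ : Points.ofPt g t ∈ Set.range (Points.map i) := by rw [hir]; exact ht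
        obtain ⟨v₀, hv₀⟩ := surjective_ofPt hcs (Points.map p₂ (Points.map (inv p₁) τ))
        have hv : Points.ofPt (c ≫ f) v₀ = Points.ofPt g t := by
          rw [← Points.map_ofPt, hv₀, ← Points.map_comp, ← hP₀.w, Points.map_comp, ← Points.map_comp (inv p₁),
            IsIso.inv_hom_id, Points.map_id, hτ]
        obtain ⟨w, -, hw⟩ := exists_ofPt_of_eq (hE.rep.isPullback' g) hv
        exact ⟨w, hw⟩)
  refine ⟨m, ⟨?_, ?_⟩, fun m' ⟨h1, h2⟩ => huniq m' fun T g z hz => ?_⟩
  · refine hom_ext_yon fun T u => ?_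
    exact (Category.assoc _ _ _).symm.trans (hm _ _ _ (Or.inl ⟨u, rfl, rfl⟩))
  · refine hom_ext_yon fun T v => ?_
    exact (Category.assoc _ _ _).symm.trans (hm _ _ _ (Or.inr ⟨v, rfl, rfl⟩))
  · rcases hz with ⟨u, rfl, rfl⟩ | ⟨v, rfl, rfl⟩
    · rw [Category.assoc, h1]
    · rw [Category.assoc, h2]

end Groth.Agent.AlgSpC7.ElemSq
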