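import Groth.Agent.AlgSpDec.RelDimSp
import Groth.Agent.AlgSpDec.FieldFibre
import Groth.Agent.FibDim.BaseField
import Groth.Agent.Triage.FibMaxFlat
import Groth.Agent.AlgSpLib.LocalBaseTop
import Groth.Agent.AlgSpPts.Misc

/-!
# The fibre dimension function of a morphism of algebraic spaces

`rdim f x` is the relative dimension of `f` at `x`, `fdim f y` the supremum over the points above `y`.
-/

set_option backward.isDefEq.respectTransparency false
set_option backward.isDefEq.respectTransparency.types false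
set_option autoImplicit false
set_option linter.style.haveILetI false

universe u

open CategoryTheory CategoryTheory.Limits AlgebraicGeometry AlgSp Groth.Agent.AlgSpLib Groth.Agent.AlgSpPts

namespace Groth.Agent.AlgSpC7.FibreDimSp

/-! ### Scheme lemmas -/

theorem fibreDimAt_ne_bot {X Y : Scheme.{u}} (f : X ⟶ Y) [LocallyOfFiniteType f] (x : X) :
    FlatMor.fibreDimAt f x ≠ ⊥ := by
  obtain ⟨z, -, -, he, -⟩ := FibDim.exists_fibreDimAt_eq f x
  rw [he]
  exact WithBot.coe_ne_bot

theorem fibreDimAt_lt_top {X Y : Scheme.{u}} (f : X ⟶ Y) [LocallyOfFiniteType f] (x : X) :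
    ∃ n : ℕ, FlatMor.fibreDimAt f x = (n : WithBot ℕ∞) := by
  obtain ⟨z, -, -, he, -⟩ := FibDim.exists_fibreDimAt_eq f x
  exact ⟨_, he⟩

theorem topologicalKrullDim_eq_iSup_fibreDimAt {X Y : Scheme.{u}} (f : X ⟶ Y) [LocallyOfFiniteType f]
    [Subsingleton Y] : topologicalKrullDim ↥X = ⨆ x : X, FlatMor.fibreDimAt f x := by
  rw [FibDim.topologicalKrullDim_eq_iSup_rd f]
  refine le_antisymm (iSup_le fun x => le_iSup_of_le x (FibDim.fibreDimAt_ge_rd f (specializes_refl x)))
    (iSup_le fun x => ?_)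
  obtain ⟨z, -, -, he, -⟩ := FibDim.exists_fibreDimAt_eq f x
  rw [he]
  exact le_iSup_of_le z le_rfl

/-- For a flat lfp morphism the points of the base with a fibre of dimension `> d` form an open set. -/
theorem isOpen_image_lt {X Y : Scheme.{u}} (f : X ⟶ Y) [Flat f] [LocallyOfFinitePresentation f]
    (d : WithBot ℕ∞) : IsOpen (f '' {x | d < FlatMor.fibreDimAt f x}) := by
  rw [isOpen_iff_forall_mem_open]
  rintro y ⟨x, hx, rfl⟩
  obtain ⟨z, -, hfz, hmax, he⟩ := FibDim.exists_fibMax_generization f x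
  obtain ⟨U, hzU, hU⟩ := Triage.FibMaxFlat.exists_nhd_fibreDimAt_eq f hmax
  refine ⟨f '' (U : Set X), ?_, f.isOpenMap _ U.isOpen, z, hzU, hfz⟩
  rintro _ ⟨w, hw, rfl⟩
  refine ⟨w, ?_, rfl⟩
  simp only [Set.mem_ofPred_eq] at hx ⊢
  rw [hU w hw, ← he]
  exact hx

variable {S : Scheme.{u}} {F G : Sp S}

/-! ### The relative dimension at a point -/

/-- The relative dimension of `f` at `x`. -/
noncomputable def rdim (f : F ⟶ G) (x : Points F) : WithBot ℕ∞ :=
  ⨆ (d : WithBot ℕ∞) (_ : HasAtMor (fun _ _ h u => FlatMor.fibreDimAt h u = d) f x), d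

/-- The supremum of the relative dimensions at the points over `y`. -/
noncomputable def fdim (f : F ⟶ G) (y : Points G) : WithBot ℕ∞ :=
  ⨆ (x : Points F) (_ : Points.map f x = y), rdim f x

variable {f : F ⟶ G}

theorem rdim_ofPt (hf : LocP @LocallyOfFiniteType f) {U V : Over S} {a : (yon S).obj U ⟶ F}
    {b : (yon S).obj V ⟶ G} {h : U ⟶ V} (ha : RepWith @Etale a) (hb : RepWith @Etale b)
    (w : a ≫ f = (yon S).map h ≫ b) (u : ↥U.left) :
    rdim f (Points.ofPt a u) = FlatMor.fibreDimAt h.left u := by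
  refine le_antisymm (iSup₂_le fun d hd => ?_)
    (le_iSup₂_of_le (FlatMor.fibreDimAt h.left u) ⟨U, V, a, b, h, u, ha, hb, w, rfl, rfl⟩ le_rfl)
  exact ((AlgSpDec.FieldFibre.hasAtMor_iff hf ha hb w u d).1 hd).ge

theorem hasAtMor_iff_rdim (hF : IsAlgSpace F) (hG : IsAlgSpace G) (hf : LocP @LocallyOfFiniteType f)
    (Q : WithBot ℕ∞ → Prop) (x : Points F) :
    HasAtMor (fun _ _ h u => Q (FlatMor.fibreDimAt h u)) f x ↔ Q (rdim f x) := by
  constructor
  · rintro ⟨U, V, a, b, h, u, ha, hb, w, rfl, hu⟩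
    rwa [rdim_ofPt hf ha hb w]
  · intro hQ
    obtain ⟨U, V, a, b, h, ha, ha', hb, -, w⟩ := exists_chart hF hG f
    obtain ⟨u, rfl⟩ := surjective_ofPt ha' x
    rw [rdim_ofPt hf ha hb w] at hQ
    exact ⟨U, V, a, b, h, u, ha, hb, w, rfl, hQ⟩

theorem rdim_ne_bot (hF : IsAlgSpace F) (hG : IsAlgSpace G) (hf : LocP @LocallyOfFiniteType f)
    (x : Points F) : rdim f x ≠ ⊥ := by
  obtain ⟨U, V, a, b, h, ha, ha', hb, -, w⟩ := exists_chart hF hG f
  obtain ⟨u, rfl⟩ := surjective_ofPt ha' x
  haveI : LocallyOfFiniteType h.left := hf a b h ha hb w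
  rw [rdim_ofPt hf ha hb w]
  exact fibreDimAt_ne_bot _ _

theorem rdim_finite (hF : IsAlgSpace F) (hG : IsAlgSpace G) (hf : LocP @LocallyOfFiniteType f)
    (x : Points F) : ∃ n : ℕ, rdim f x = (n : WithBot ℕ∞) := by
  obtain ⟨U, V, a, b, h, ha, ha', hb, -, w⟩ := exists_chart hF hG f
  obtain ⟨u, rfl⟩ := surjective_ofPt ha' x
  haveI : LocallyOfFiniteType h.left := hf a b h ha hb w
  rw [rdim_ofPt hf ha hb w]
  exact fibreDimAt_lt_top _ _

theorem rdim_baseChange {F' G' : Sp S} {g : G' ⟶ G} {fst : F' ⟶ F} {snd : F' ⟶ G'}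
    (sq : IsPullback fst snd f g) (hF : IsAlgSpace F) (hG : IsAlgSpace G) (hG' : IsAlgSpace G')
    (hf : LocP @LocallyOfFiniteType f) (x' : Points F') : rdim snd x' = rdim f (Points.map fst x') := by
  have hd := AlgSpDec.RelDimSp.baseChange sq hF hG hG' hf x' _
    ((hasAtMor_iff_rdim hF hG hf (fun e => e = rdim f (Points.map fst x')) _).2 rfl)
  exact (hasAtMor_iff_rdim (isAlgSpace_of_isPullback sq hF hG' hG) hG'
    (locP_of_isPullback sq hF hG hG' hf) (fun e => e = rdim f (Points.map fst x')) x').1 hd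

theorem isClosed_lt_rdim (hF : IsAlgSpace F) (hG : IsAlgSpace G) (hf : LocP @LocallyOfFiniteType f) (n : ℕ) :
    IsClosed {x : Points F | (n : WithBot ℕ∞) < rdim f x} := by
  rw [← isOpen_compl_iff]
  convert AlgSpDec.RelDimSp.isOpen_le hf n using 1
  ext x
  simp only [Set.mem_compl_iff, Set.mem_ofPred_eq, not_lt]
  exact (hasAtMor_iff_rdim hF hG hf (fun e => e ≤ (n : WithBot ℕ∞)) x).symm

/-! ### The dimension of a fibre -/

/-- The dimension of a space locally of finite type over a one point scheme. -/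
theorem dim_eq_iSup {P : Sp S} {T : Over S} [Subsingleton ↥T.left] {q : P ⟶ (yon S).obj T}
    (hP : IsAlgSpace P) (hq : LocP @LocallyOfFiniteType q) : AlgSp.dim P = ⨆ z : Points P, rdim q z := by
  refine le_antisymm (iSup₂_le fun U a => iSup_le fun ha => ?_) (iSup_le fun z => ?_)
  · obtain ⟨h, hh⟩ := (yon S).map_surjective (a ≫ q)
    have w : a ≫ q = (yon S).map h ≫ 𝟙 _ := by rw [Category.comp_id, hh]
    haveI : LocallyOfFiniteType h.left := hq a _ h ha (repWith_id _ _) w
    rw [topologicalKrullDim_eq_iSup_fibreDimAt h.left]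
    exact iSup_le fun u => le_iSup_of_le (Points.ofPt a u) (rdim_ofPt hq ha (repWith_id _ _) w u).ge
  · obtain ⟨U, a, ha, ha'⟩ := hP.atlas
    obtain ⟨u, rfl⟩ := surjective_ofPt ha' z
    obtain ⟨h, hh⟩ := (yon S).map_surjective (a ≫ q)
    have w : a ≫ q = (yon S).map h ≫ 𝟙 _ := by rw [Category.comp_id, hh]
    haveI : LocallyOfFiniteType h.left := hq a _ h ha (repWith_id _ _) w
    rw [rdim_ofPt hq ha (repWith_id _ _) w u]
    refine le_trans ?_ (le_iSup₂_of_le U a (le_iSup_of_le ha le_rfl))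
    rw [topologicalKrullDim_eq_iSup_fibreDimAt h.left]
    exact le_iSup_of_le u le_rfl

theorem map_fst_fibre {k : FieldPt G} {P : Sp S} {fst : P ⟶ F} {snd : P ⟶ (yon S).obj k.pt}
    (sq : IsPullback fst snd f k.toHom) (z : Points P) :
    Points.map f (Points.map fst z) = Points.mk k := by
  haveI : Subsingleton ↥k.pt.left := inferInstanceAs (Subsingleton (PrimeSpectrum k.K))
  obtain ⟨t, ht⟩ := (Points.schemeHomeo k.pt).surjective (Points.map snd z)
  rw [← Points.map_comp, sq.w, Points.map_comp, ← ht, mk_eq_ofPt]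
  change Points.map k.toHom (Points.ofPt (𝟙 _) t) = _
  rw [Points.map_ofPt, Category.id_comp]
  exact congrArg (Points.ofPt k.toHom) (Subsingleton.elim (α := ↥k.pt.left) _ _)

theorem exists_fibre_point {k : FieldPt G} {P : Sp S} {fst : P ⟶ F} {snd : P ⟶ (yon S).obj k.pt}
    (sq : IsPullback fst snd f k.toHom) {x : Points F} (hx : Points.map f x = Points.mk k) :
    ∃ z : Points P, Points.map fst z = x := by
  let t : ↥k.pt.left := IsLocalRing.closedPoint k.K
  obtain ⟨z, hz, -⟩ := exists_point_of_isPullback sq (y := Points.ofPt (𝟙 _) t)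
    (hx.trans (by rw [Points.map_ofPt, Category.id_comp, mk_eq_ofPt]))
  exact ⟨z, hz⟩

theorem dim_fibre_eq (hF : IsAlgSpace F) (hG : IsAlgSpace G) (hf : LocP @LocallyOfFiniteType f)
    {k : FieldPt G} {P : Sp S} {fst : P ⟶ F} {snd : P ⟶ (yon S).obj k.pt}
    (sq : IsPullback fst snd f k.toHom) : AlgSp.dim P = fdim f (Points.mk k) := by
  haveI : Subsingleton ↥k.pt.left := inferInstanceAs (Subsingleton (PrimeSpectrum k.K))
  have hK : IsAlgSpace ((yon S).obj k.pt) := IsAlgSpace.yon_obj _
  rw [dim_eq_iSup (isAlgSpace_of_isPullback sq hF hK hG) (locP_of_isPullback sq hF hG hK hf)]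
  refine le_antisymm (iSup_le fun z => ?_) (iSup₂_le fun x hx => ?_)
  · rw [rdim_baseChange sq hF hG hK hf]
    exact le_iSup₂_of_le (Points.map fst z) (map_fst_fibre sq z) le_rfl
  · obtain ⟨z, rfl⟩ := exists_fibre_point sq hx
    exact le_iSup_of_le z (rdim_baseChange sq hF hG hK hf z).ge

/-- The set in the statements about the fibre dimension function. -/
theorem setOf_fibre_eq (hF : IsAlgSpace F) (hG : IsAlgSpace G) (hf : LocP @LocallyOfFiniteType f)
    (Q : WithBot ℕ∞ → Prop) :
    {y : Points G | ∀ (k : FieldPt G), Points.mk k = y →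
      ∀ (Xk : Sp S) (fst : Xk ⟶ F) (snd : Xk ⟶ (yon S).obj k.pt),
        IsPullback fst snd f k.toHom → Q (AlgSp.dim Xk)} = {y : Points G | Q (fdim f y)} := by
  ext y
  simp only [Set.mem_ofPred_eq]
  constructor
  · intro H
    obtain ⟨k, rfl⟩ := Points.mk_surjective y
    rw [← dim_fibre_eq hF hG hf (IsPullback.of_hasPullback f k.toHom)]
    exact H k rfl _ _ _ (IsPullback.of_hasPullback f k.toHom)
  · rintro hQ k rfl Xk fst snd sq
    rw [dim_fibre_eq hF hG hf sq]
    exact hQ

theorem fdim_eq_bot_iff (hF : IsAlgSpace F) (hG : IsAlgSpace G) (hf : LocP @LocallyOfFiniteType f)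
    (y : Points G) : fdim f y = ⊥ ↔ y ∉ Set.range (Points.map f) := by
  simp only [fdim, iSup_eq_bot, Set.mem_range, not_exists]
  exact ⟨fun H x hx => rdim_ne_bot hF hG hf x (H x hx), fun H x hx => absurd hx (H x)⟩

theorem fdim_le_iff {y : Points G} {d : WithBot ℕ∞} :
    fdim f y ≤ d ↔ ∀ x, Points.map f x = y → rdim f x ≤ d := by
  simp only [fdim, iSup_le_iff]

theorem lt_fdim_iff {y : Points G} {d : WithBot ℕ∞} :
    d < fdim f y ↔ ∃ x, Points.map f x = y ∧ d < rdim f x := by
  simp only [fdim, lt_iSup_iff, exists_prop]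

theorem setOf_lt_fdim (d : WithBot ℕ∞) :
    {y : Points G | d < fdim f y} = Points.map f '' {x | d < rdim f x} := by
  ext y
  simp only [Set.mem_ofPred_eq, lt_fdim_iff, Set.mem_image]
  exact exists_congr fun x => and_comm

/-! ### Semicontinuity -/

theorem isOpen_lt_fdim (hF : IsAlgSpace F) (hG : IsAlgSpace G) (hfl : LocP @Flat f)
    (hfp : LocP @LocallyOfFinitePresentation f) (d : WithBot ℕ∞) :
    IsOpen {y : Points G | d < fdim f y} := by
  have hf : LocP @LocallyOfFiniteType f := fun U V a b h ha hb w => by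
    haveI : LocallyOfFinitePresentation h.left := hfp a b h ha hb w
    infer_instance
  obtain ⟨U, V, a, b, h, ha, ha', hb, -, w⟩ := exists_chart hF hG f
  haveI : Flat h.left := hfl a b h ha hb w
  haveI : LocallyOfFinitePresentation h.left := hfp a b h ha hb w
  have he : {y : Points G | d < fdim f y} =
      Points.ofPt b '' (h.left '' {u | d < FlatMor.fibreDimAt h.left u}) := by
    rw [setOf_lt_fdim]
    ext y
    simp only [Set.mem_image, Set.mem_ofPred_eq]
    constructor
    · rintro ⟨x, hx, rfl⟩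
      obtain ⟨u, rfl⟩ := surjective_ofPt ha' x
      rw [rdim_ofPt hf ha hb w] at hx
      exact ⟨_, ⟨u, hx, rfl⟩, by rw [Points.map_ofPt, w, ofPt_comp]⟩
    · rintro ⟨_, ⟨u, hu, rfl⟩, rfl⟩
      exact ⟨Points.ofPt a u, by rwa [rdim_ofPt hf ha hb w], by rw [Points.map_ofPt, w, ofPt_comp]⟩
  rw [he]
  exact isOpenMap_ofPt hb _ (isOpen_image_lt h.left d)

theorem isClosedMap_map_of_univClosed (hG : IsAlgSpace G) (hf : IsUnivClosedMor f) :
    IsClosedMap (Points.map f) :=
  hf hG (𝟙 G) (𝟙 F) f (IsPullback.of_horiz_isIso ⟨by rw [Category.id_comp, Category.comp_id]⟩)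

theorem isClosed_lt_fdim (hF : IsAlgSpace F) (hG : IsAlgSpace G) (hf : LocP @LocallyOfFiniteType f)
    (huc : IsUnivClosedMor f) {d : WithBot ℕ∞} (hd : d = ⊥ ∨ ∃ n : ℕ, d = n) :
    IsClosed {y : Points G | d < fdim f y} := by
  rw [setOf_lt_fdim]
  refine isClosedMap_map_of_univClosed hG huc _ ?_
  rcases hd with rfl | ⟨n, rfl⟩
  · convert isClosed_univ
    exact Set.eq_univ_of_forall fun x => bot_lt_iff_ne_bot.2 (rdim_ne_bot hF hG hf x)
  · exact isClosed_lt_rdim hF hG hf n

theorem isOpen_fdim_lt (hF : IsAlgSpace F) (hG : IsAlgSpace G) (hf : LocP @LocallyOfFiniteType f)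
    (huc : IsUnivClosedMor f) (d : WithBot ℕ∞) : IsOpen {y : Points G | fdim f y < d} := by
  have key : ∀ e : WithBot ℕ∞, (e = ⊥ ∨ ∃ n : ℕ, e = n) → IsOpen {y : Points G | fdim f y ≤ e} := by
    intro e he
    rw [← isClosed_compl_iff]
    convert isClosed_lt_fdim hF hG hf huc he using 1
    ext y
    simp
  induction d with
  | bot => simp
  | coe d =>
    induction d using ENat.recTopCoe with
    | top =>
      have he : {y : Points G | fdim f y < ((⊤ : ℕ∞) : WithBot ℕ∞)} =
          ⋃ n : ℕ, {y : Points G | fdim f y ≤ (n : WithBot ℕ∞)} := by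
        ext y
        simp only [Set.mem_ofPred_eq, Set.mem_iUnion]
        constructor
        · intro h
          induction hfd : fdim f y with
          | bot => exact ⟨0, bot_le⟩
          | coe e =>
            induction e using ENat.recTopCoe with
            | top => rw [hfd] at h; exact absurd h (lt_irrefl _)
            | coe n => exact ⟨n, le_refl _⟩
        · rintro ⟨n, hn⟩
          exact lt_of_le_of_lt hn (WithBot.coe_lt_coe.2 (WithTop.coe_lt_top n))
      rw [he]
      exact isOpen_iUnion fun n => key _ (Or.inr ⟨n, rfl⟩)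
    | coe n =>
      have he : ∀ e : WithBot ℕ∞, e < ((n : ℕ∞) : WithBot ℕ∞) ↔
          (∃ m < n, e ≤ ((m : ℕ∞) : WithBot ℕ∞)) ∨ e ≤ ⊥ := by
        intro e
        induction e with
        | bot => simp [WithBot.bot_lt_coe]
        | coe e =>
          induction e using ENat.recTopCoe with
          | top =>
            simp only [WithBot.coe_lt_coe, WithBot.coe_le_coe, le_bot_iff, WithBot.coe_ne_bot, or_false]
            simp
          | coe m =>
            simp only [WithBot.coe_lt_coe, WithBot.coe_le_coe, Nat.cast_lt, Nat.cast_le, le_bot_iff,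
              WithBot.coe_ne_bot, or_false]
            exact ⟨fun h => ⟨m, h, le_rfl⟩, fun ⟨j, h1, h2⟩ => lt_of_le_of_lt h2 h1⟩
      rw [show {y : Points G | fdim f y < ((n : ℕ∞) : WithBot ℕ∞)} =
          (⋃ m ∈ Set.Iio n, {y : Points G | fdim f y ≤ ((m : ℕ∞) : WithBot ℕ∞)}) ∪
            {y : Points G | fdim f y ≤ ⊥} from Set.ext fun y => by simpa using he (fdim f y)]
      exact (isOpen_biUnion fun m _ => key _ (Or.inr ⟨m, rfl⟩)).union (key _ (Or.inl rfl))

theorem fdim_lt_top (hF : IsAlgSpace F) (hG : IsAlgSpace G) (hf : LocP @LocallyOfFiniteType f)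
    (hqc : IsQuasiCompactMor f) (y : Points G) : fdim f y < ((⊤ : ℕ∞) : WithBot ℕ∞) := by
  obtain ⟨k, rfl⟩ := Points.mk_surjective y
  haveI : CompactSpace ↥k.pt.left := inferInstanceAs (CompactSpace (PrimeSpectrum k.K))
  have sq := IsPullback.of_hasPullback f k.toHom
  haveI := compactSpace_points (hqc (IsAlgSpace.yon_obj _) (isQuasiCompactSp_yon k.pt) _ _ _ sq)
  obtain ⟨t, ht⟩ := isCompact_univ.elim_finite_subcover
    (fun n : ℕ => Points.map (pullback.fst f k.toHom) ⁻¹' {x | (n : WithBot ℕ∞) < rdim f x}ᶜ)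
    (fun n => (isClosed_lt_rdim hF hG hf n).isOpen_compl.preimage (Points.continuous_map _))
    (fun z _ => by
      obtain ⟨n, hn⟩ := rdim_finite hF hG hf (Points.map (pullback.fst f k.toHom) z)
      exact Set.mem_iUnion.2 ⟨n, by simp [hn]⟩)
  refine lt_of_le_of_lt (fdim_le_iff.2 fun x hx => ?_)
    (WithBot.coe_lt_coe.2 (WithTop.coe_lt_top (t.sup id)))
  obtain ⟨z, rfl⟩ := exists_fibre_point sq hx
  obtain ⟨n, hnt, hn⟩ : ∃ n ∈ t, rdim f (Points.map (pullback.fst f k.toHom) z) ≤ (n : WithBot ℕ∞) := by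
    simpa using ht (Set.mem_univ z)
  refine hn.trans ?_
  exact WithBot.coe_le_coe.2 (Nat.cast_le.2 (Finset.le_sup (f := id) hnt))

theorem isOpen_fdim_eq (hF : IsAlgSpace F) (hG : IsAlgSpace G) (hf : LocP @LocallyOfFiniteType f)
    (hfl : LocP @Flat f) (hfp : LocP @LocallyOfFinitePresentation f) (hqc : IsQuasiCompactMor f)
    (huc : IsUnivClosedMor f) (d : WithBot ℕ∞) : IsOpen {y : Points G | fdim f y = d} := by
  induction d with
  | bot =>
    convert (isClosed_lt_fdim hF hG hf huc (Or.inl rfl)).isOpen_compl using 1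
    ext y
    simp
  | coe d =>
    induction d using ENat.recTopCoe with
    | top =>
      convert isOpen_empty
      exact Set.eq_empty_of_forall_notMem fun y hy => (fdim_lt_top hF hG hf hqc y).ne hy
    | coe n =>
      -- `= n` means `< n + 1` and above the predecessor of `n`
      obtain ⟨p, hp⟩ : ∃ p : WithBot ℕ∞, ∀ e : WithBot ℕ∞, p < e ↔ ((n : ℕ∞) : WithBot ℕ∞) ≤ e := by
        cases n with
        | zero =>
          refine ⟨⊥, fun e => ?_⟩
          induction e with
          | bot => simp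
          | coe e => simp [WithBot.bot_lt_coe]
        | succ m =>
          refine ⟨((m : ℕ∞) : WithBot ℕ∞), fun e => ?_⟩
          induction e with
          | bot => simp
          | coe e =>
            rw [WithBot.coe_lt_coe, WithBot.coe_le_coe, Nat.cast_succ, ENat.add_one_le_iff (ENat.natCast_ne_top m)]
      have he : {y : Points G | fdim f y = ((n : ℕ∞) : WithBot ℕ∞)} =
          {y | p < fdim f y} ∩ {y | fdim f y < (((n + 1 : ℕ) : ℕ∞) : WithBot ℕ∞)} := by
        ext y
        simp only [Set.mem_ofPred_eq, Set.mem_inter_iff, hp]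
        induction fdim f y with
        | bot => simp
        | coe e =>
          induction e using ENat.recTopCoe with
          | top =>
            simp only [WithBot.coe_inj, WithBot.coe_le_coe, WithBot.coe_lt_coe]
            exact ⟨fun h => absurd h (ENat.top_ne_coe n), fun h => absurd h.2 (by simp)⟩
          | coe m =>
            simp only [WithBot.coe_inj, WithBot.coe_le_coe, WithBot.coe_lt_coe, Nat.cast_inj, Nat.cast_le,
              Nat.cast_lt]
            omega
      rw [he]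
      exact (isOpen_lt_fdim hF hG hfl hfp p).inter (isOpen_fdim_lt hF hG hf huc _)

end Groth.Agent.AlgSpC7.FibreDimSp
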