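import Groth.Agent.AlgSpLib.FpqcDescent
import Groth.Agent.AlgSpLib.Covers
import Groth.Agent.AlgSpLib.FlatAt
import Groth.Agent.AlgSpDec.LimDescent
import Mathlib.RingTheory.Flat.Localization

/-!
# The fpqc covering attached to a formal glueing situation
-/

set_option backward.isDefEq.respectTransparency false
set_option backward.isDefEq.respectTransparency.types false
set_option autoImplicit false
set_option linter.style.haveILetI false

universe u

open CategoryTheory CategoryTheory.Limits AlgebraicGeometry AlgSp Groth.Agent.AlgSpLib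

namespace Groth.Agent.AlgSpC7.GlueCover

/-- If an algebra is flat at every prime containing an ideal, its localisation near that ideal is flat. -/
theorem flat_localization_near {A B : Type u} [CommRing A] [CommRing B] [Algebra A B] (J : Ideal B)
    (H : ∀ (q : Ideal B) [q.IsPrime], J ≤ q → Module.Flat A (Localization.AtPrime q))
    (L : Type u) [CommRing L] [Algebra B L] [Algebra A L] [IsScalarTower A B L]
    (M : Submonoid B) (hM : ∀ b, b ∈ M ↔ b - 1 ∈ J) [IsLocalization M L] : Module.Flat A L := by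
  refine @Module.flat_of_isLocalized_maximal A L _ _ _ L _ _ _ _
    (fun P _ => Localization.AtPrime P) _ _ _ _ (fun P _ => (IsScalarTower.toAlgHom L L (Localization.AtPrime P)).toLinearMap) _ ?_
  intro P _
  let q : Ideal B := P.under B
  have hJq : J ≤ q := by
    intro x hx
    by_contra hxq
    have hu : algebraMap B L x ∉ P := hxq
    obtain ⟨y, m, hm, hy⟩ := (Ideal.IsMaximal.exists_inv (I := P) inferInstance) hu
    obtain ⟨⟨b, s⟩, hb⟩ := IsLocalization.surj M y
    -- `1 - y x ∈ P`, so `s - b x` lies in `q`, and it is a unit in `L`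
    have hmem : algebraMap B L ((s : B) - b * x) ∈ P := by
      have : algebraMap B L ((s : B) - b * x) = algebraMap B L s * m := by
        rw [map_sub, map_mul, ← hb, show m = 1 - y * algebraMap B L x by rw [← hy]; ring]
        ring
      rw [this]
      exact P.mul_mem_left _ hm
    have hs : (s : B) - b * x ∈ M := (hM _).2 (by
      rw [sub_right_comm]
      exact J.sub_mem ((hM _).1 s.2) (J.mul_mem_left b hx))
    exact Ideal.IsPrime.ne_top inferInstance (Ideal.eq_top_of_isUnit_mem _ hmem (IsLocalization.map_units L ⟨_, hs⟩))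
  haveI := H q hJq
  haveI : IsLocalization.AtPrime (Localization.AtPrime P) q :=
    IsLocalization.isLocalization_isLocalization_atPrime_isLocalization M (Localization.AtPrime P) P
  exact Module.Flat.of_linearEquiv
    (IsLocalization.algEquiv q.primeCompl (Localization.AtPrime P) (Localization.AtPrime q) |>.restrictScalars A).toLinearEquiv

variable {S : Scheme.{u}}

theorem flat_comp_stalk {A B : CommRingCat.{u}} (φ : A ⟶ B) (q : PrimeSpectrum B)
    (h : ((Spec.map φ).stalkMap q).hom.Flat) :
    letI := φ.hom.toAlgebra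
    Module.Flat A (Localization.AtPrime q.asIdeal) := by
  letI := φ.hom.toAlgebra
  let p := q.asIdeal.comap φ.hom
  have h1 : (Localization.localRingHom p q.asIdeal φ.hom rfl).Flat :=
    ((MorphismProperty.arrow_mk_iso_iff (RingHom.toMorphismProperty fun f => f.Flat)
      (Scheme.arrowStalkMapSpecIso φ q)).1 h :)
  have h2 := RingHom.Flat.comp
    (RingHom.flat_algebraMap_iff.2 (IsLocalization.flat (Localization.AtPrime p) p.primeCompl)) h1
  have h3 : (Localization.localRingHom p q.asIdeal φ.hom rfl).comp (algebraMap A (Localization.AtPrime p)) =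
      algebraMap A (Localization.AtPrime q.asIdeal) := by
    ext a
    exact Localization.localRingHom_to_map _ _ _ rfl a
  rw [h3] at h2
  exact RingHom.flat_algebraMap_iff.1 h2

variable {X Y Z FZ U : AlgSp.Space S} (f : Y ⟶ X) (hqc : IsQuasiCompactMor f.hom) (i : Z ⟶ X)
  (hi : RepWith @IsClosedImmersion i.hom) (hifp : LocP @LocallyOfFinitePresentation i.hom)
  (iY : FZ ⟶ Y) (fZ : FZ ⟶ Z) (hFZ : IsPullback iY.hom fZ.hom f.hom i.hom) [IsIso fZ]
  (hflat : ∀ y ∈ Set.range (Points.map iY.hom), IsFlatAtMor f.hom y) (j : U ⟶ X)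
  (hj : RepWith @IsOpenImmersion j.hom)
  (hU : Set.range (Points.map j.hom) = (Set.range (Points.map i.hom))ᶜ)

include hqc hi hifp hFZ hflat hj hU in
/-- Over an affine scheme etale over `X` there are finitely many flat affine schemes, jointly surjective, each
mapping to `U` or to `Y`. -/
theorem exists_family {A : Over S} [IsAffine A.left] (pA : (yon S).obj A ⟶ X.obj) (hpA : RepWith @Etale pA) :
    ∃ (n : ℕ) (G : Fin n → Over S) (c : ∀ k, G k ⟶ A), (∀ k, IsAffine (G k).left) ∧ (∀ k, Flat (c k).left) ∧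
      (∀ z : ↥A.left, ∃ k w, (c k).left w = z) ∧
      ∀ k, (∃ l : (yon S).obj (G k) ⟶ U.obj, l ≫ j.hom = (yon S).map (c k) ≫ pA) ∨
        ∃ l : (yon S).obj (G k) ⟶ Y.obj, l ≫ f.hom = (yon S).map (c k) ≫ pA := by
  classical
  -- the closed subscheme `Z_A` of `A` and generators of its ideal
  let ZA := hi.rep.pullback pA
  let cZ : ZA ⟶ A := hi.rep.snd pA
  haveI : IsClosedImmersion cZ.left := hi.property_snd pA
  have hZrange : Set.range cZ.left = Points.ofPt pA ⁻¹' Set.range (Points.map i.hom) := by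
    refine Set.Subset.antisymm ?_ ?_
    · rintro _ ⟨w, rfl⟩
      exact ⟨Points.ofPt (hi.rep.fst pA) w, by rw [Points.map_ofPt, hi.rep.w, ofPt_comp]⟩
    · rintro x ⟨y, hy⟩
      obtain ⟨z, -, hz⟩ := exists_point_of_isPullback (hi.rep.isPullback pA) (x := y) (y := Points.ofPt (𝟙 _) x)
        (by rw [Points.map_ofPt, Category.id_comp]; exact hy)
      obtain ⟨w, rfl⟩ := (Points.schemeHomeo _).surjective z
      replace hz : Points.map ((yon S).map cZ) (Points.ofPt (𝟙 _) w) = Points.ofPt (𝟙 _) x := hz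
      rw [Points.map_ofPt, Category.id_comp, ← Category.comp_id ((yon S).map cZ), ofPt_comp] at hz
      exact ⟨w, (Points.schemeHomeo _).injective hz⟩
  haveI : LocallyOfFinitePresentation cZ.left :=
    locP_of_isPullback (hi.rep.isPullback pA) Z.property X.property (IsAlgSpace.yon_obj A) hifp
      (𝟙 _) (𝟙 _) cZ (repWith_of_isIso _ _) (repWith_of_isIso _ _) (by simp [cZ])
  obtain ⟨I, hI, hIz⟩ : ∃ I : Ideal Γ(A.left, ⊤), I.FG ∧
      Set.range cZ.left = A.left.isoSpec.hom ⁻¹' PrimeSpectrum.zeroLocus (I : Set Γ(A.left, ⊤)) := by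
    haveI : IsAffine ZA.left := isAffine_of_isAffineHom cZ.left
    let φ := cZ.left.appTop
    have hsurj : Function.Surjective φ.hom := (IsClosedImmersion.isAffine_surjective_of_isAffine cZ.left).2
    have hfp : φ.hom.FinitePresentation :=
      (HasRingHomProperty.iff_of_isAffine (P := @LocallyOfFinitePresentation)).1 inferInstance
    refine ⟨RingHom.ker φ.hom, ?_, ?_⟩
    · letI := φ.hom.toAlgebra
      haveI : Algebra.FinitePresentation Γ(A.left, ⊤) Γ(ZA.left, ⊤) := hfp
      exact Algebra.FinitePresentation.ker_fG_of_surjective (Algebra.ofId Γ(A.left, ⊤) Γ(ZA.left, ⊤)) hsurj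
    rw [← range_comap_of_surjective _ _ hsurj]
    ext x
    constructor
    · rintro ⟨w, rfl⟩
      refine ⟨ZA.left.isoSpec.hom w, ?_⟩
      show Spec.map φ _ = _
      exact congrArg (fun t : ZA.left ⟶ Spec Γ(A.left, ⊤) => t w) (Scheme.isoSpec_hom_naturality cZ.left)
    · rintro ⟨w, hw⟩
      refine ⟨ZA.left.isoSpec.inv w, A.left.isoSpec.hom.homeomorph.injective ?_⟩
      show A.left.isoSpec.hom (cZ.left _) = A.left.isoSpec.hom x
      have e : (ZA.left.isoSpec.inv ≫ cZ.left) ≫ A.left.isoSpec.hom = Spec.map φ := by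
        rw [← Scheme.isoSpec_inv_naturality, Category.assoc, Iso.inv_hom_id, Category.comp_id]
      exact (congrArg (fun t : Spec Γ(ZA.left, ⊤) ⟶ Spec Γ(A.left, ⊤) => t w) e).trans hw
  obtain ⟨gs, hgs⟩ := hI
  -- the affine scheme near the preimage of `Z`
  have hQ : IsQuasiCompactSp (pullback f.hom pA) :=
    hqc (IsAlgSpace.yon_obj A) (isQuasiCompactSp_yon A) pA _ _ (IsPullback.of_hasPullback f.hom pA)
  obtain ⟨W, aW, hW, haW, haWs⟩ := AlgSpDec.exists_affine_atlas hQ
  haveI := hW
  obtain ⟨hW', hhW⟩ := (yon S).map_surjective (aW ≫ pullback.snd f.hom pA)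
  let C : Set ↥W.left := hW'.left ⁻¹' Set.range cZ.left
  have hC : IsClosed C := cZ.left.isClosedEmbedding.isClosed_range.preimage hW'.left.continuous
  let J : Ideal Γ(W.left, ⊤) := PrimeSpectrum.vanishingIdeal (W.left.isoSpec.hom '' C)
  let M : Submonoid Γ(W.left, ⊤) :=
    { carrier := {b | b - 1 ∈ J}
      one_mem' := show (1 : Γ(W.left, ⊤)) - 1 ∈ J by rw [sub_self]; exact J.zero_mem
      mul_mem' := fun {a b} ha hb => show a * b - 1 ∈ J by
        rw [show a * b - 1 = a * (b - 1) + (a - 1) by ring]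
        exact J.add_mem (J.mul_mem_left a hb) ha }
  let cL : Spec (CommRingCat.of (Localization M)) ⟶ W.left :=
    Spec.map (CommRingCat.ofHom (algebraMap Γ(W.left, ⊤) (Localization M))) ≫ W.left.isoSpec.inv
  have hCJ : ∀ q : ↥(Spec Γ(W.left, ⊤)), J ≤ (q : PrimeSpectrum Γ(W.left, ⊤)).asIdeal ↔ W.left.isoSpec.inv q ∈ C := by
    intro q
    have hcl : IsClosed (W.left.isoSpec.hom '' C) := W.left.isoSpec.hom.homeomorph.isClosedMap _ hC
    refine Iff.trans (Iff.symm (PrimeSpectrum.mem_zeroLocus (R := Γ(W.left, ⊤)) q J)) ?_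
    rw [PrimeSpectrum.zeroLocus_vanishingIdeal_eq_closure, hcl.closure_eq]
    constructor
    · rintro ⟨w, hw, rfl⟩
      rwa [← Scheme.Hom.comp_apply, Iso.hom_inv_id]
    · exact fun hq => ⟨_, hq, by rw [← Scheme.Hom.comp_apply, Iso.inv_hom_id]; rfl⟩
  have hflatL : Flat (cL ≫ hW'.left) := by
    let φ : Γ(A.left, ⊤) ⟶ Γ(W.left, ⊤) := hW'.left.appTop
    letI := φ.hom.toAlgebra
    have h1 : Module.Flat Γ(A.left, ⊤) (Localization M) := by
      refine flat_localization_near J (fun q hq hJq => ?_) (Localization M) M (fun b => Iff.rfl)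
      refine flat_comp_stalk φ ⟨q, hq⟩ ?_
      have hw := (hCJ ⟨q, hq⟩).1 hJq
      obtain ⟨z, hz⟩ := hw
      let w := W.left.isoSpec.inv ⟨q, hq⟩
      let a' : (yon S).obj W ⟶ Y.obj := aW ≫ pullback.fst f.hom pA
      have ha' : RepWith @Etale a' :=
        repWith_comp haW (repWith_of_isPullback (IsPullback.of_hasPullback f.hom pA).flip hpA)
      have hsq : a' ≫ f.hom = (yon S).map hW' ≫ pA := by
        rw [Category.assoc, pullback.condition, ← Category.assoc, hhW]
      have hmem : Points.ofPt a' w ∈ Set.range (Points.map iY.hom) := by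
        have h2 : Points.map f.hom (Points.ofPt a' w) ∈ Set.range (Points.map i.hom) := by
          rw [Points.map_ofPt, hsq, ofPt_comp]
          exact hZrange.le ⟨z, hz⟩
        obtain ⟨τ, hτ⟩ := h2
        obtain ⟨y, hy, -⟩ := exists_point_of_isPullback hFZ (x := Points.ofPt a' w) (y := τ) hτ.symm
        exact ⟨y, hy⟩
      have h3 : (hW'.left.stalkMap w).hom.Flat := hflat _ hmem a' pA hW' w ha' hpA hsq rfl
      have e : Spec.map φ = W.left.isoSpec.inv ≫ hW'.left ≫ A.left.isoSpec.hom := by
        rw [← Scheme.isoSpec_hom_naturality, Iso.inv_hom_id_assoc]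
      rw [e, Scheme.Hom.stalkMap_comp, Scheme.Hom.stalkMap_comp, CommRingCat.hom_comp, CommRingCat.hom_comp]
      exact RingHom.Flat.comp (RingHom.Flat.comp
        (RingHom.Flat.of_bijective (ConcreteCategory.bijective_of_isIso (A.left.isoSpec.hom.stalkMap _))) h3)
        (RingHom.Flat.of_bijective (ConcreteCategory.bijective_of_isIso (W.left.isoSpec.inv.stalkMap _)))
    have h4 : cL ≫ hW'.left = Spec.map (φ ≫ CommRingCat.ofHom (algebraMap Γ(W.left, ⊤) (Localization M))) ≫
        A.left.isoSpec.inv := by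
      rw [Spec.map_comp, Category.assoc, Category.assoc, Scheme.isoSpec_inv_naturality]
    rw [h4]
    haveI : Flat (Spec.map (φ ≫ CommRingCat.ofHom (algebraMap Γ(W.left, ⊤) (Localization M)))) :=
      (HasRingHomProperty.Spec_iff (P := @Flat)).2 (by
        rw [CommRingCat.hom_comp, CommRingCat.hom_ofHom]
        exact (IsScalarTower.algebraMap_eq Γ(A.left, ⊤) Γ(W.left, ⊤) (Localization M)) ▸
          RingHom.flat_algebraMap_iff.2 h1)
    infer_instance
  have hcases : ∀ k : Fin (gs.card + 1), (∃ k' : Fin gs.card, k = k'.castSucc) ∨ k = Fin.last _ := fun k => by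
    rcases Fin.eq_castSucc_or_eq_last k with h | h
    exacts [Or.inl h, Or.inr h]
  have key : ∀ k : Fin (gs.card + 1), ∃ (H : Over S) (c : H ⟶ A), IsAffine H.left ∧ Flat c.left ∧
      (∀ k' : Fin gs.card, k = k'.castSucc →
        (A.left.basicOpen (gs.equivFin.symm k').1 : Set ↥A.left) ⊆ Set.range c.left) ∧
      (k = Fin.last _ → Set.range cZ.left ⊆ Set.range c.left) ∧
      ((∃ l : (yon S).obj H ⟶ U.obj, l ≫ j.hom = (yon S).map c ≫ pA) ∨
        ∃ l : (yon S).obj H ⟶ Y.obj, l ≫ f.hom = (yon S).map c ≫ pA) := by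
    intro k
    rcases hcases k with ⟨k', rfl⟩ | rfl
    · let O := A.left.basicOpen (gs.equivFin.symm k').1
      let H : Over S := Over.mk (O.ι ≫ A.hom)
      let c : H ⟶ A := Over.homMk O.ι rfl
      refine ⟨H, c, (isAffineOpen_top A.left).basicOpen _, inferInstanceAs (Flat O.ι), fun k'' hk'' => ?_,
        fun h => absurd h (Fin.castSucc_lt_last k').ne, Or.inl ?_⟩
      · obtain rfl := Fin.castSucc_injective _ hk''
        exact O.range_ι.ge
      · haveI : IsOpenImmersion (hj.rep.snd pA).left := hj.property_snd pA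
        let l : O.toScheme ⟶ (hj.rep.pullback pA).left :=
          IsOpenImmersion.lift (hj.rep.snd pA).left O.ι (by
            rintro _ ⟨x, rfl⟩
            have hx : Points.ofPt pA x.1 ∈ Set.range (Points.map j.hom) := by
              rw [hU]
              intro hx
              have hz := hIz.le (hZrange.ge hx)
              have hg : (gs.equivFin.symm k').1 ∈ I := hgs ▸ Submodule.subset_span (gs.equivFin.symm k').2
              exact (PrimeSpectrum.mem_zeroLocus _ _).1 hz hg |> fun h => by
                have hb : A.left.isoSpec.hom x.1 ∈ PrimeSpectrum.basicOpen (gs.equivFin.symm k').1 := by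
                  have hx2 : x.1 ∈ A.left.basicOpen (gs.equivFin.symm k').1 := x.2
                  rwa [← Scheme.toSpecΓ_preimage_basicOpen] at hx2
                exact hb h
            obtain ⟨y, hy⟩ := hx
            obtain ⟨z, -, hz⟩ := exists_point_of_isPullback (hj.rep.isPullback pA) (x := y)
              (y := Points.ofPt (𝟙 _) x.1) (by rw [Points.map_ofPt, Category.id_comp]; exact hy)
            obtain ⟨w, rfl⟩ := (Points.schemeHomeo _).surjective z
            replace hz : Points.map ((yon S).map (hj.rep.snd pA)) (Points.ofPt (𝟙 _) w) = Points.ofPt (𝟙 _) x.1 := hz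
            rw [Points.map_ofPt, Category.id_comp, ← Category.comp_id ((yon S).map (hj.rep.snd pA)), ofPt_comp] at hz
            exact ⟨w, (Points.schemeHomeo _).injective hz⟩)
        let l' : H ⟶ hj.rep.pullback pA := Over.homMk l (by
          rw [← Over.w (hj.rep.snd pA), ← Category.assoc, IsOpenImmersion.lift_fac]
          rfl)
        refine ⟨(yon S).map l' ≫ hj.rep.fst pA, ?_⟩
        rw [Category.assoc, hj.rep.w, ← Functor.map_comp_assoc]
        exact congrArg (fun t => (yon S).map t ≫ pA) (Over.OverMorphism.ext (IsOpenImmersion.lift_fac _ _ _))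
    · let H : Over S := Over.mk (cL ≫ W.hom)
      let c₀ : H ⟶ W := Over.homMk cL rfl
      refine ⟨H, c₀ ≫ hW', inferInstanceAs (IsAffine (Spec _)), by rw [Over.comp_left]; exact hflatL,
        fun k'' hk'' => absurd hk''.symm (Fin.castSucc_lt_last k'').ne, fun _ => ?_,
        Or.inr ⟨(yon S).map c₀ ≫ aW ≫ pullback.fst f.hom pA, by
          rw [Category.assoc, Category.assoc, pullback.condition, ← Category.assoc aW, ← hhW, Functor.map_comp,
            Category.assoc]⟩⟩
      intro z hz
      obtain ⟨τ, hτ⟩ := hZrange.le hz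
      let τ' := Points.map (inv fZ).hom τ
      have hy₀ : Points.map f.hom (Points.map iY.hom τ') = Points.ofPt pA z := by
        rw [← hτ, ← Points.map_comp, hFZ.w, ← Points.map_comp]
        congr 1
        have := congrArg InducedCategory.Hom.hom (IsIso.inv_hom_id_assoc fZ i)
        exact this
      obtain ⟨p₀, -, hp₀⟩ := exists_point_of_isPullback (IsPullback.of_hasPullback f.hom pA)
        (x := Points.map iY.hom τ') (y := Points.ofPt (𝟙 _) z)
        (by rw [Points.map_ofPt, Category.id_comp]; exact hy₀)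
      obtain ⟨w, rfl⟩ := surjective_ofPt haWs p₀
      rw [Points.map_ofPt, ← hhW, ← Category.comp_id ((yon S).map hW'), ofPt_comp] at hp₀
      have hwz : hW'.left w = z := (Points.schemeHomeo _).injective hp₀
      have hwC : w ∈ C := show hW'.left w ∈ Set.range cZ.left by rw [hwz]; exact hz
      have hdis : Disjoint (M : Set Γ(W.left, ⊤)) ↑(W.left.isoSpec.hom w).asIdeal := by
        rw [Set.disjoint_left]
        intro b hb hbw
        have hJ : J ≤ (W.left.isoSpec.hom w).asIdeal := (hCJ _).2 (by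
          rw [← Scheme.Hom.comp_apply, Iso.hom_inv_id]; exact hwC)
        refine (W.left.isoSpec.hom w).isPrime.ne_top ((Ideal.eq_top_iff_one _).2 ?_)
        simpa using sub_mem hbw (hJ hb)
      obtain ⟨v, hv⟩ : W.left.isoSpec.hom w ∈
          Set.range (PrimeSpectrum.comap (algebraMap Γ(W.left, ⊤) (Localization M))) := by
        rw [PrimeSpectrum.localization_comap_range (Localization M) M]
        exact hdis
      refine ⟨v, ?_⟩
      rw [Over.comp_left, Scheme.Hom.comp_apply]
      refine (congrArg hW'.left ?_).trans hwz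
      show W.left.isoSpec.inv (PrimeSpectrum.comap (algebraMap Γ(W.left, ⊤) (Localization M)) v) = w
      rw [hv, ← Scheme.Hom.comp_apply, Iso.hom_inv_id]
      rfl
  choose H c hH hc hopen hclosed hl using key
  refine ⟨_, H, c, hH, hc, fun z => ?_, hl⟩
  by_cases hz : z ∈ Set.range cZ.left
  · exact ⟨_, hclosed _ rfl hz⟩
  · obtain ⟨g, hg, hgz⟩ : ∃ g ∈ gs, z ∈ A.left.basicOpen g := by
      by_contra! hcon
      refine hz (hIz.ge ?_)
      show I ≤ (A.left.isoSpec.hom z).asIdeal
      rw [← hgs, Submodule.span_le]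
      intro g hg
      by_contra hgz
      refine hcon g hg ?_
      rw [← Scheme.toSpecΓ_preimage_basicOpen]
      exact hgz
    obtain ⟨k', hk'⟩ := gs.equivFin.symm.surjective ⟨g, hg⟩
    exact ⟨k'.castSucc, hopen _ k' rfl (by rw [hk']; exact hgz)⟩

include hqc hi hifp hFZ hflat hj hU in
/-- There is an fpqc covering by affine schemes refining `U → X` and `Y → X`. -/
theorem exists_cover :
    ∃ (ι : Type u) (T : ι → Over S) (t : ∀ k, (yon S).obj (T k) ⟶ X.obj),
      IsFpqcCover (fun k => (yon S).obj (T k)) t ∧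
        ∀ k, (∃ l : (yon S).obj (T k) ⟶ U.obj, l ≫ j.hom = t k) ∨
          ∃ l : (yon S).obj (T k) ⟶ Y.obj, l ≫ f.hom = t k := by
  classical
  obtain ⟨U₀, p, hp, hps⟩ := X.property.atlas
  let VA : U₀.left.affineOpens → Over S := fun O => Over.mk (O.1.ι ≫ U₀.hom)
  let pA : ∀ O, (yon S).obj (VA O) ⟶ X.obj := fun O => (yon S).map (Over.homMk O.1.ι rfl : VA O ⟶ U₀) ≫ p
  have hpA : ∀ O, RepWith @Etale (pA O) := fun O =>
    repWith_comp ((repWith_yon_map_iff _ _).2 (show Etale O.1.ι by infer_instance)) hp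
  haveI hVA : ∀ O, IsAffine (VA O).left := fun O => O.2
  choose n G c hG hc hsurj hl using fun O => exists_family f hqc i hi hifp iY fZ hFZ hflat j hj hU (pA O) (hpA O)
  refine ⟨Σ O, Fin (n O), fun k => G k.1 k.2, fun k => (yon S).map (c k.1 k.2) ≫ pA k.1, ⟨fun k => ?_, ?_⟩,
    fun k => hl k.1 k.2⟩
  · refine locP_comp (IsAlgSpace.yon_obj _) (IsAlgSpace.yon_obj _) X.property ?_ ?_
    · exact locP_of_repWith ((repWith_yon_map_iff _ _).2 (hc k.1 k.2))
    · exact locP_mono (P := @Etale) (fun _ _ g (_ : Etale g) => inferInstanceAs (Flat g)) (locP_of_repWith (hpA k.1))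
  · intro Z hZ t
    haveI := hZ
    let T' : U₀.left.affineOpens → Over S := fun O => (hpA O).rep.pullback t
    let r : ∀ O, T' O ⟶ Z := fun O => (hpA O).rep.snd t
    haveI : ∀ O, Etale (r O).left := fun O => (hpA O).property_snd t
    obtain ⟨m, W, idx, k, hW, hk, hWs⟩ := exists_affine_refinement T' r (fun O => (r O).left.isOpenMap) (fun z => by
      obtain ⟨v, hv⟩ := surjective_ofPt hps (Points.ofPt t z)
      obtain ⟨O, hO, hvO, -⟩ := exists_isAffineOpen_mem_and_subset (U := (⊤ : U₀.left.Opens)) (x := v) trivial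
      have h1 : Points.ofPt (pA ⟨O, hO⟩) (⟨v, hvO⟩ : O.toScheme) = Points.ofPt t z :=
        (ofPt_comp (Over.homMk O.ι rfl : VA ⟨O, hO⟩ ⟶ U₀) p ⟨v, hvO⟩).trans hv
      obtain ⟨w, -, hw⟩ := exists_ofPt_of_eq ((hpA ⟨O, hO⟩).rep.isPullback' t) h1
      exact ⟨⟨O, hO⟩, w, hw⟩)
    haveI := hW
    let H : ∀ a : (Σ b : Fin m, Fin (n (idx b))), Over S := fun a =>
      pullback (k a.1 ≫ (hpA (idx a.1)).rep.fst' t) (c (idx a.1) a.2)
    let pr : ∀ a : (Σ b : Fin m, Fin (n (idx b))), H a ⟶ W a.1 := fun a => pullback.fst _ _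
    have sq : ∀ a, IsPullback (pr a).left (pullback.snd (k a.1 ≫ (hpA (idx a.1)).rep.fst' t) (c (idx a.1) a.2)).left
        (k a.1 ≫ (hpA (idx a.1)).rep.fst' t).left (c (idx a.1) a.2).left :=
      fun a => (IsPullback.of_hasPullback _ _).map (Over.forget S)
    let e := (Fintype.equivFin (Σ b : Fin m, Fin (n (idx b)))).symm
    refine ⟨_, fun q => H (e q), fun q => pr (e q) ≫ k (e q).1 ≫ r (idx (e q).1), fun q => ?_, fun q => ?_,
      fun z => ?_, fun q => ⟨⟨idx (e q).1, (e q).2⟩, (yon S).map (pullback.snd _ _), ?_⟩⟩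
    · have := hG (idx (e q).1) (e q).2
      exact IsAffine.of_isIso (sq (e q)).isoPullback.hom
    · have := hk (e q).1
      haveI : Flat (pr (e q)).left := MorphismProperty.of_isPullback (sq (e q)).flip (hc _ _)
      exact inferInstanceAs (Flat ((pr (e q)).left ≫ (k (e q).1).left ≫ (r _).left))
    · obtain ⟨b, y, rfl⟩ := hWs z
      obtain ⟨b', w, hw⟩ := hsurj (idx b) ((k b ≫ (hpA (idx b)).rep.fst' t).left y)
      obtain ⟨u, hu, -⟩ := Scheme.exists_preimage_of_isPullback (sq ⟨b, b'⟩) y w hw.symm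
      obtain ⟨q, hq⟩ := e.surjective ⟨b, b'⟩
      exact ⟨q, (congrArg (fun a : Σ b : Fin m, Fin (n (idx b)) =>
        Set.range (pr a ≫ k a.1 ≫ r (idx a.1)).left) hq).ge
        ⟨u, by simp only [Over.comp_left, Scheme.Hom.comp_apply, hu]⟩⟩
    · rw [← Functor.map_comp_assoc, ← pullback.condition, Functor.map_comp, Functor.map_comp, Category.assoc,
        Category.assoc, Functor.relativelyRepresentable.map_fst', (hpA _).rep.w, Functor.map_comp, Functor.map_comp]
      simp only [Category.assoc]
      rfl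

end Groth.Agent.AlgSpC7.GlueCover
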