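import Groth.Agent.Dual349.GorMor
import Groth.Agent.AlgSpLib.FlatAt
import Groth.Agent.FlatPtDesc.Graph
import Groth.Agent.MorLib.WeightFlat
import Groth.Agent.Hensel.HenselizationDescent
import Groth.Agent.AnLocal.Henselian
import Groth.Agent.WEtLib.Basic
import Groth.Agent.S0342
import Groth.Agent.S0736
import Groth.Agent.S12237

/-!
# Gorenstein morphisms: etale invariance and strict henselizations
-/

set_option backward.isDefEq.respectTransparency false
set_option backward.isDefEq.respectTransparency.types false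
set_option autoImplicit false
set_option linter.style.haveILetI false

universe u

open CategoryTheory CategoryTheory.Limits AlgebraicGeometry IsLocalRing

namespace Groth.Agent.AlgSpC7.GorScheme

open Groth.Agent Groth.Agent.Dual349

theorem gor_field (K : Type u) [Field K] : LocCoh.IsGorensteinLocalRing K := S0342.result K

/-- A flat local homomorphism whose closed fibre is a field preserves Gorensteinness both ways. -/
theorem gor_iff_of_unramified {A B : Type u} [CommRing A] [CommRing B] [IsLocalRing A] [IsLocalRing B]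
    [IsNoetherianRing A] [IsNoetherianRing B] (φ : A →+* B) [IsLocalHom φ] (hφ : φ.Flat)
    (hm : (maximalIdeal A).map φ = maximalIdeal B) :
    LocCoh.IsGorensteinLocalRing A ↔ LocCoh.IsGorensteinLocalRing B := by
  letI : Algebra A B := φ.toAlgebra
  haveI : Module.Flat A B := hφ
  haveI : IsLocalHom (algebraMap A B) := ‹IsLocalHom φ›
  refine Iff.trans ?_ (LC.gorenstein_flat_local_iff A B).symm
  exact (and_iff_left ((gor_congr (Ideal.quotEquivOfEq (show (maximalIdeal A).map (algebraMap A B) =
    maximalIdeal B from hm))).2 (gor_field (ResidueField B)))).symm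

variable {X Y Z : Scheme.{u}}

theorem map_maximalIdeal_of_etale (e : X ⟶ Y) [Etale e] (x : X) :
    (maximalIdeal (Y.presheaf.stalk (e x))).map (e.stalkMap x).hom = maximalIdeal (X.presheaf.stalk x) :=
  MorLib.WT.map_maximalIdeal_stalkMap e x

theorem isGorensteinAt_of_etale (e : X ⟶ Y) [Etale e] (x : X) : Dual3.IsGorensteinAt e x :=
  (isGorensteinAt_iff_stalk e x).2 ⟨Flat.stalkMap e x,
    (gor_congr (Ideal.quotEquivOfEq (map_maximalIdeal_of_etale e x))).2 (gor_field (ResidueField _))⟩

theorem isLocallyNoetherian_fibre_precomp (e : X ⟶ Y) [LocallyOfFiniteType e] (h : Y ⟶ Z)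
    (hN : ∀ z, IsLocallyNoetherian (h.fiber z)) (z : Z) : IsLocallyNoetherian ((e ≫ h).fiber z) :=
  haveI := hN z
  Triage.CMBC.isLocallyNoetherian_fibre_comp e h z

/-- Gorensteinness of a morphism is etale local on the source. -/
theorem isGorensteinAt_precomp (e : X ⟶ Y) [Etale e] (h : Y ⟶ Z) (hN : ∀ z, IsLocallyNoetherian (h.fiber z))
    (x : X) : Dual3.IsGorensteinAt (e ≫ h) x ↔ Dual3.IsGorensteinAt h (e x) := by
  rw [isGorensteinAt_comp_iff e h x (Flat.stalkMap e x) (hN _) (isLocallyNoetherian_fibre_precomp e h hN _)]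
  exact and_iff_right (isGorensteinAt_of_etale e x)

/-- Gorensteinness of a morphism is etale local on the target. -/
theorem isGorensteinAt_postcomp (h : X ⟶ Y) (j : Y ⟶ Z) [Etale j] (x : X) :
    Dual3.IsGorensteinAt (h ≫ j) x ↔ Dual3.IsGorensteinAt h x := by
  rw [isGorensteinAt_iff_stalk, isGorensteinAt_iff_stalk]
  refine and_congr ⟨fun hf => FlatPtDesc.flat_of_flat_comp_unramified j h x hf, fun hf => by
    rw [Scheme.Hom.stalkMap_comp]; exact (Flat.stalkMap j (h x)).comp hf⟩ (gor_congr (Ideal.quotEquivOfEq ?_))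
  rw [← map_maximalIdeal_of_etale j (h x), Scheme.Hom.stalkMap_comp]
  exact (Ideal.map_map _ _).symm

/-- Gorensteinness of the local rings is etale local. -/
theorem gor_stalk_of_etale (e : X ⟶ Y) [Etale e] (x : X) :
    LocCoh.IsGorensteinLocalRing (Y.presheaf.stalk (e x)) → IsNoetherianRing (X.presheaf.stalk x) →
      LocCoh.IsGorensteinLocalRing (X.presheaf.stalk x) := fun hY hX => by
  haveI := hY
  haveI := hX
  haveI : IsNoetherianRing (Y.presheaf.stalk (e x)) := inferInstance
  exact (gor_iff_of_unramified (e.stalkMap x).hom (Flat.stalkMap e x) (map_maximalIdeal_of_etale e x)).1 hY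

/-- Gorensteinness of the local rings descends along an etale morphism. -/
theorem gor_stalk_descend (e : X ⟶ Y) [Etale e] (x : X) [IsNoetherianRing (Y.presheaf.stalk (e x))]
    (hX : LocCoh.IsGorensteinLocalRing (X.presheaf.stalk x)) :
    LocCoh.IsGorensteinLocalRing (Y.presheaf.stalk (e x)) :=
  (isGorensteinAt_of_gorenstein_stalk e x (Flat.stalkMap e x) hX).2

/-- The local rings of a fibre are Gorenstein when the morphism is Gorenstein along it. -/
theorem gor_fibre_stalk (h : X ⟶ Y) (y : Y) (hG : ∀ x, h x = y → Dual3.IsGorensteinAt h x)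
    (z : ↥(h.fiber y)) : LocCoh.IsGorensteinLocalRing ((h.fiber y).presheaf.stalk z) := by
  have hy : h (h.fiberι y z) = y := FibDim.fiber_apply_fiberι h z
  obtain ⟨E⟩ := Triage.CMMor.exists_equiv_fibre_stalk_aux h (h.fiberι y z) y hy z rfl
  exact (gor_congr E).1 ((isGorensteinAt_iff_sm h _ y hy).1 (hG _ hy)).2

/-- A morphism is Gorenstein at a flat point whose fibre has Gorenstein local ring there. -/
theorem isGorensteinAt_of_fibre_stalk (h : X ⟶ Y) (x : X) (hf : (h.stalkMap x).hom.Flat)
    (hG : ∀ z, LocCoh.IsGorensteinLocalRing ((h.fiber (h x)).presheaf.stalk z)) : Dual3.IsGorensteinAt h x :=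
  ⟨hf, hG _⟩

/-! ### Strict henselizations -/

section StrictHens

variable {A R : Type u} [CommRing A] [IsLocalRing A] [CommRing R] [IsLocalRing R] [Algebra A R]
  [IsLocalHom (algebraMap A R)] [Hensel.IsStrictHenselization A R]

theorem faithfullyFlat : Module.FaithfullyFlat A R :=
  (Hensel.isHenzLike_of_isStrictHenselization A R).faithfullyFlat

theorem map_maximalIdeal : (maximalIdeal A).map (algebraMap A R) = maximalIdeal R :=
  (Hensel.isHenzLike_of_isStrictHenselization A R).map_maximalIdeal

/-- A quotient of a strict henselization by an ideal from below is noetherian when the quotient below is. -/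
theorem isNoetherianRing_quotient (I : Ideal A) (hI : I ≤ maximalIdeal A) [IsNoetherianRing (A ⧸ I)] :
    IsNoetherianRing (R ⧸ I.map (algebraMap A R)) := by
  haveI : HenselianLocalRing R := Hensel.IsStrictHenselization.henselian A
  haveI : IsSepClosure (ResidueField A) (ResidueField R) := Hensel.IsStrictHenselization.isSepClosure
  haveI : Nontrivial (A ⧸ I) := Ideal.Quotient.nontrivial_iff.2
    fun h => (maximalIdeal.isMaximal A).ne_top (top_le_iff.1 (h ▸ hI))
  haveI : IsLocalRing (A ⧸ I) := .of_surjective' (Ideal.Quotient.mk _) Ideal.Quotient.mk_surjective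
  let J := I.map (algebraMap A R)
  have hJ : J ≤ maximalIdeal R := (Ideal.map_mono hI).trans (le_of_eq map_maximalIdeal)
  haveI : Nontrivial (R ⧸ J) := Ideal.Quotient.nontrivial_iff.2
    fun h => (maximalIdeal.isMaximal R).ne_top (top_le_iff.1 (h ▸ hJ))
  haveI : IsLocalRing (R ⧸ J) := .of_surjective' (Ideal.Quotient.mk _) Ideal.Quotient.mk_surjective
  haveI : HenselianLocalRing (R ⧸ J) :=
    AnLocal.henselianLocalRing_of_surjective' (Ideal.Quotient.mk J) Ideal.Quotient.mk_surjective
  haveI : IsLocalHom (Ideal.Quotient.mk I) := Ideal.Quotient.mk_surjective.isLocalHom _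
  haveI : IsLocalHom (Ideal.Quotient.mk J) := Ideal.Quotient.mk_surjective.isLocalHom _
  let T := Hensel.StrictHenz (A ⧸ I)
  haveI : IsNoetherianRing T :=
    (Hensel.isHenzLike_of_isStrictHenselization (A ⧸ I) T).isNoetherianRing_iff.1 inferInstance
  -- the residue fields
  let q₀ : ResidueField A →+* ResidueField (A ⧸ I) := ResidueField.map (Ideal.Quotient.mk I)
  letI : Algebra (ResidueField A) (ResidueField T) :=
    ((ResidueField.map (algebraMap (A ⧸ I) T)).comp q₀).toAlgebra
  have hTsep : IsSepClosure (ResidueField (A ⧸ I)) (ResidueField T) := Hensel.IsStrictHenselization.isSepClosure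
  haveI : IsSepClosure (ResidueField A) (ResidueField T) := by
    have hq₀ : Function.Surjective q₀ := fun z => by
      obtain ⟨z, rfl⟩ := IsLocalRing.residue_surjective z
      obtain ⟨z, rfl⟩ := Ideal.Quotient.mk_surjective z
      exact ⟨residue A z, rfl⟩
    haveI := hTsep.2
    refine ⟨hTsep.1, Algebra.IsSeparable.of_equiv_equiv
      (RingEquiv.ofBijective q₀ ⟨q₀.injective, hq₀⟩).symm (RingEquiv.refl (ResidueField T)) ?_⟩
    ext z
    show ResidueField.map (algebraMap (A ⧸ I) T) (q₀ ((RingEquiv.ofBijective q₀ ⟨q₀.injective, hq₀⟩).symm z)) =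
      algebraMap (ResidueField (A ⧸ I)) (ResidueField T) z
    rw [show q₀ ((RingEquiv.ofBijective q₀ ⟨q₀.injective, hq₀⟩).symm z) = z from
      (RingEquiv.ofBijective q₀ ⟨q₀.injective, hq₀⟩).apply_symm_apply z]
    rfl
  let e : ResidueField R ≃ₐ[ResidueField A] ResidueField T := IsSepClosure.equiv (ResidueField A) _ _
  have he : ∀ a : A, e (residue R (algebraMap A R a)) = residue T (algebraMap (A ⧸ I) T (Ideal.Quotient.mk I a)) :=
    fun a => e.commutes (residue A a)
  haveI : IsLocalHom ((algebraMap (A ⧸ I) T).comp (Ideal.Quotient.mk I)) := RingHom.isLocalHom_comp _ _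
  obtain ⟨g, ⟨hg₁, hg₂⟩, -⟩ := Hensel.IsStrictHenselization.universal (R := A) (S := R) T
    ((algebraMap (A ⧸ I) T).comp (Ideal.Quotient.mk I)) e.toRingEquiv.toRingHom
    (by
      ext a
      obtain ⟨a, rfl⟩ := IsLocalRing.residue_surjective a
      exact he a)
  let f₂ : A ⧸ I →+* R ⧸ J := Ideal.quotientMap J (algebraMap A R) Ideal.le_comap_map
  haveI : IsLocalHom (f₂.comp (Ideal.Quotient.mk I)) := by
    rw [Ideal.quotientMap_comp_mk]; exact RingHom.isLocalHom_comp _ _
  haveI : IsLocalHom f₂ := ⟨fun c hc => by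
    obtain ⟨a, rfl⟩ := Ideal.Quotient.mk_surjective c
    exact (isUnit_of_map_unit (f₂.comp (Ideal.Quotient.mk I)) a hc).map _⟩
  obtain ⟨g', ⟨hg'₁, hg'₂⟩, -⟩ := Hensel.IsStrictHenselization.universal (R := A ⧸ I) (S := T) (R ⧸ J)
    f₂ ((ResidueField.map (Ideal.Quotient.mk J)).comp e.symm.toRingEquiv.toRingHom)
    (by
      ext c
      obtain ⟨c, rfl⟩ := IsLocalRing.residue_surjective c
      obtain ⟨a, rfl⟩ := Ideal.Quotient.mk_surjective c
      show ResidueField.map (Ideal.Quotient.mk J) (e.symm (residue T (algebraMap (A ⧸ I) T (Ideal.Quotient.mk I a)))) = _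
      rw [← he, AlgEquiv.symm_apply_apply]
      rfl)
  haveI : IsLocalHom ((Ideal.Quotient.mk J).comp (algebraMap A R)) := RingHom.isLocalHom_comp _ _
  obtain ⟨g₀, hg₀, huniq⟩ := Hensel.IsStrictHenselization.universal (R := A) (S := R) (R ⧸ J)
    ((Ideal.Quotient.mk J).comp (algebraMap A R)) (ResidueField.map (Ideal.Quotient.mk J))
    (by ext a; obtain ⟨a, rfl⟩ := IsLocalRing.residue_surjective a; rfl)
  have h1 : g'.comp g = Ideal.Quotient.mk J := by
    refine (huniq _ ⟨?_, fun x => ?_⟩).trans (huniq _ ⟨rfl, fun x => rfl⟩).symm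
    · rw [RingHom.comp_assoc, hg₁, ← RingHom.comp_assoc, hg'₁, Ideal.quotientMap_comp_mk]
    · show residue _ (g' (g x)) = _
      rw [hg'₂, hg₂]
      show ResidueField.map (Ideal.Quotient.mk J) (e.symm (e (residue R x))) = _
      rw [AlgEquiv.symm_apply_apply]
  refine isNoetherianRing_of_surjective T (R ⧸ J) g' fun y => ?_
  obtain ⟨y, rfl⟩ := Ideal.Quotient.mk_surjective y
  exact ⟨g y, congr($h1 y)⟩

/-- Gorensteinness of a quotient by an ideal from below can be tested on a strict henselization. -/
theorem gor_quotient_iff (I : Ideal A) (hI : I ≤ maximalIdeal A) [IsNoetherianRing (A ⧸ I)] :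
    LocCoh.IsGorensteinLocalRing (A ⧸ I) ↔ LocCoh.IsGorensteinLocalRing (R ⧸ I.map (algebraMap A R)) := by
  haveI := isNoetherianRing_quotient (R := R) I hI
  haveI := faithfullyFlat (A := A) (R := R)
  haveI : Nontrivial (A ⧸ I) := Ideal.Quotient.nontrivial_iff.2
    fun h => (maximalIdeal.isMaximal A).ne_top (top_le_iff.1 (h ▸ hI))
  haveI : IsLocalRing (A ⧸ I) := .of_surjective' (Ideal.Quotient.mk _) Ideal.Quotient.mk_surjective
  let J := I.map (algebraMap A R)
  have hJ : J ≤ maximalIdeal R := (Ideal.map_mono hI).trans (le_of_eq map_maximalIdeal)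
  haveI : Nontrivial (R ⧸ J) := Ideal.Quotient.nontrivial_iff.2
    fun h => (maximalIdeal.isMaximal R).ne_top (top_le_iff.1 (h ▸ hJ))
  haveI : IsLocalRing (R ⧸ J) := .of_surjective' (Ideal.Quotient.mk _) Ideal.Quotient.mk_surjective
  haveI : Module.Flat (A ⧸ I) (R ⧸ J) :=
    Module.Flat.of_linearEquiv (((TensorProduct.quotTensorEquivQuotSMul R I).trans
      ((Submodule.quotEquivOfEq _ _ (Ideal.smul_top_eq_map I)).trans
        (Submodule.Quotient.restrictScalarsEquiv A _))).extendScalarsOfSurjective
          Ideal.Quotient.mk_surjective).symm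
  haveI : IsLocalHom (Ideal.Quotient.mk J) := Ideal.Quotient.mk_surjective.isLocalHom _
  haveI : IsLocalHom ((Ideal.Quotient.mk J).comp (algebraMap A R)) := RingHom.isLocalHom_comp _ _
  haveI : IsLocalHom (algebraMap (A ⧸ I) (R ⧸ J)) := by
    refine ⟨fun c hc => ?_⟩
    obtain ⟨a, rfl⟩ := Ideal.Quotient.mk_surjective c
    exact (isUnit_of_map_unit ((Ideal.Quotient.mk J).comp (algebraMap A R)) a hc).map _
  refine gor_iff_of_unramified (algebraMap (A ⧸ I) (R ⧸ J)) (RingHom.flat_algebraMap_iff.2 ‹_›) ?_
  rw [← IsLocalRing.map_maximalIdeal_of_surjective (Ideal.Quotient.mk I) Ideal.Quotient.mk_surjective,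
    ← IsLocalRing.map_maximalIdeal_of_surjective (Ideal.Quotient.mk J) Ideal.Quotient.mk_surjective,
    Ideal.map_map]
  conv_rhs => rw [← map_maximalIdeal (A := A) (R := R), Ideal.map_map]
  rfl

theorem gor_iff [IsNoetherianRing A] : LocCoh.IsGorensteinLocalRing A ↔ LocCoh.IsGorensteinLocalRing R := by
  haveI := faithfullyFlat (A := A) (R := R)
  haveI : IsNoetherianRing R :=
    (Hensel.isHenzLike_of_isStrictHenselization A R).isNoetherianRing_iff.1 inferInstance
  exact gor_iff_of_unramified (algebraMap A R) (RingHom.flat_algebraMap_iff.2 inferInstance) map_maximalIdeal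

/-- A local homomorphism is flat iff the induced map of strict henselizations is. -/
theorem flat_iff {A' R' : Type u} [CommRing A'] [IsLocalRing A'] [CommRing R'] [IsLocalRing R'] [Algebra A' R']
    [IsLocalHom (algebraMap A' R')] [Hensel.IsStrictHenselization A' R'] (σ : A' →+* A) (φ : R' →+* R)
    (hφ : φ.comp (algebraMap A' R') = (algebraMap A R).comp σ) : φ.Flat ↔ σ.Flat := by
  haveI := faithfullyFlat (A := A) (R := R)
  haveI := faithfullyFlat (A := A') (R := R')
  constructor
  · intro h
    refine Triage.CMMor.flat_of_comp σ (algebraMap A R) (RingHom.flat_algebraMap_iff.2 inferInstance) ?_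
    rw [← hφ]
    exact (RingHom.flat_algebraMap_iff.2 inferInstance).comp h
  · intro h
    haveI : Algebra.WeaklyEtale A' R' := S0736.result _ _ (S12237.result _ R')
    letI := ((algebraMap A R).comp σ).toAlgebra
    letI := φ.toAlgebra
    haveI : IsScalarTower A' R' R := IsScalarTower.of_algebraMap_eq' hφ.symm
    haveI : Module.Flat A' R := h.comp (RingHom.flat_algebraMap_iff.2 inferInstance)
    exact WEtLib.flat_of_flat (A := A') (B := R') R

end StrictHens

end Groth.Agent.AlgSpC7.GorScheme
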