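import Groth.Agent.AlgSpC7.SeqKind
import Groth.Agent.RegImmLib.Basic

/-!
# Regular immersions of schemes of each kind: flat base change, composition, etale descent
-/

set_option autoImplicit false
set_option linter.style.haveILetI false

universe u

open AlgebraicGeometry CategoryTheory

namespace Groth.Agent.AlgSpC7

open Groth.Agent.KRegLib Groth.Agent.RegImmLib

variable {k : RegImm.Kind} (K : SeqKind.{u} k)

theorem SeqKind.isRegularImmersionAt_iff {Z X : Scheme.{u}} (i : Z ⟶ X) (z : Z) :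
    RegImm.IsRegularImmersionAt k i z ↔ ∃ (U : X.Opens) (_ : IsAffineOpen U), i z ∈ U ∧ IsClosedImmersion (i ∣_ U) ∧
      ∃ (n : ℕ) (f : Fin n → Γ(X, U)), K.Φ f ∧ RingHom.ker (i.app U).hom = Ideal.span (Set.range f) := by
  constructor
  · rintro ⟨U, hz, hci, rs, hrs, hker⟩
    refine ⟨U.1, U.2, hz, hci, rs.length, rs.get, (K.seq_iff rs).1 hrs, hker.trans ?_⟩
    rw [RegImmLib.span_range_eq_ofList, List.ofFn_get]
  · rintro ⟨U, hU, hz, hci, n, f, hf, hker⟩
    exact ⟨⟨U, hU⟩, hz, hci, List.ofFn f, K.seq_ofFn hf, hker.trans (RegImmLib.span_range_eq_ofList f)⟩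

include K in
theorem SeqKind.baseChangeAt {X Y X' Y' : Scheme.{u}} {i : Y ⟶ X} {g : X' ⟶ X} [Flat g]
    {i' : Y' ⟶ X'} {g' : Y' ⟶ Y} (hsq : IsPullback g' i' i g) (z' : Y')
    (h : RegImm.IsRegularImmersionAt k i (g' z')) : RegImm.IsRegularImmersionAt k i' z' := by
  obtain ⟨U, hU, hzU, hci, n, f, hf, hker⟩ := (K.isRegularImmersionAt_iff i _).1 h
  have hx : g (i' z') ∈ U := by
    have h1 : g (i' z') = i (g' z') := (congrArg (fun φ : Y' ⟶ X => φ z') hsq.w).symm
    rw [h1]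
    exact hzU
  obtain ⟨U', hU', hzU', hle⟩ := exists_isAffineOpen_mem_and_subset (U := g ⁻¹ᵁ U) (x := i' z') hx
  obtain ⟨hUY, hUs⟩ := Synt29.surjective_app_of_isClosedImmersion_restrict i U hU
  have hUY' : i' ⁻¹ᵁ U' = g' ⁻¹ᵁ (i ⁻¹ᵁ U) ⊓ i' ⁻¹ᵁ U' := by
    refine (inf_eq_right.2 fun y hy => ?_).symm
    show i (g' y) ∈ U
    have h1 : i (g' y) = g (i' y) := congrArg (fun φ : Y' ⟶ X => φ y) hsq.w
    rw [h1]
    exact hle hy
  have hpo := (isIso_pushoutSection_iff hsq hle le_rfl hUY').1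
    (isIso_pushoutSection_of_isAffineOpen hsq hle le_rfl hUY' hU hU' hUY)
  have hs : Function.Surjective (i.appLE U (i ⁻¹ᵁ U) le_rfl) := by
    rw [← Scheme.Hom.app_eq_appLE]
    exact hUs
  have hk := ker_of_isPushout hpo hs
  rw [← Scheme.Hom.app_eq_appLE, ← Scheme.Hom.app_eq_appLE] at hk
  letI : Algebra Γ(X, U) Γ(X', U') := (g.appLE U U' hle).hom.toAlgebra
  haveI : Module.Flat Γ(X, U) Γ(X', U') := g.flat_appLE hU hU' hle
  refine (K.isRegularImmersionAt_iff i' z').2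
    ⟨U', hU', hzU', ?_, n, fun j => algebraMap Γ(X, U) Γ(X', U') (f j), K.flat hf, hk.trans ?_⟩
  · have h2 := Scheme.Hom.isPullback_resLE hsq hle le_rfl hUY'
    have h3 : IsClosedImmersion (i.resLE U (i ⁻¹ᵁ U) le_rfl) := by
      rw [Scheme.Hom.resLE_eq_morphismRestrict]
      exact hci
    rw [← Scheme.Hom.resLE_eq_morphismRestrict]
    exact MorphismProperty.of_isPullback (P := @IsClosedImmersion) h2 h3
  · rw [hker, Ideal.map_span, ← Set.range_comp]
    rfl

include K in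
theorem SeqKind.baseChange {X Y X' Y' : Scheme.{u}} {i : Y ⟶ X} {g : X' ⟶ X} [Flat g]
    {i' : Y' ⟶ X'} {g' : Y' ⟶ Y} (hsq : IsPullback g' i' i g)
    (hi : RegImm.IsRegularImmersion k i) : RegImm.IsRegularImmersion k i' :=
  ⟨MorphismProperty.of_isPullback (P := @IsImmersion) hsq hi.1, fun z' => K.baseChangeAt hsq z' (hi.2 _)⟩

/-- A regular generating family restricts to a smaller basic open. -/
theorem SeqKind.restrict_basicOpen {Z X : Scheme.{u}} (i : Z ⟶ X) {U : X.Opens} (hU : IsAffineOpen U)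
    [IsClosedImmersion (i ∣_ U)] (g : Γ(X, U)) {n : ℕ} {f : Fin n → Γ(X, U)} (hf : K.Φ f)
    (hker : RingHom.ker (i.app U).hom = Ideal.span (Set.range f)) :
    ∃ f' : Fin n → Γ(X, X.basicOpen g), K.Φ f' ∧
      RingHom.ker (i.app (X.basicOpen g)).hom = Ideal.span (Set.range f') := by
  obtain ⟨hU', hs⟩ := Synt29.surjective_app_of_isClosedImmersion_restrict i U hU
  letI : Algebra Γ(X, U) Γ(X, X.basicOpen g) := (X.presheaf.map (homOfLE (X.basicOpen_le g)).op).hom.toAlgebra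
  haveI : IsLocalization.Away g Γ(X, X.basicOpen g) := hU.isLocalization_basicOpen g
  haveI : Module.Flat Γ(X, U) Γ(X, X.basicOpen g) := IsLocalization.flat _ (Submonoid.powers g)
  refine ⟨fun j => algebraMap Γ(X, U) Γ(X, X.basicOpen g) (f j), K.flat hf,
    (app_basicOpen_props i hU hU' hs g).2.2.trans ?_⟩
  rw [hker, Ideal.map_span, ← Set.range_comp]
  rfl

include K in
/-- Descent along a flat, locally finitely presented, surjective map. -/
theorem SeqKind.descend_fppf {X Y X' Y' : Scheme.{u}} (i : Y ⟶ X) [IsImmersion i]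
    (g : X' ⟶ X) [Flat g] [LocallyOfFinitePresentation g] [Surjective g]
    (i' : Y' ⟶ X') (g' : Y' ⟶ Y) (hsq : IsPullback g' i' i g)
    (hi' : RegImm.IsRegularImmersion k i') : RegImm.IsRegularImmersion k i := by
  refine ⟨inferInstance, fun z => ?_⟩
  obtain ⟨U, hU, hzU, -, hci⟩ := exists_affine_isClosedImmersion_restrict i z ⊤ trivial
  obtain ⟨hUY, hUs⟩ := Synt29.surjective_app_of_isClosedImmersion_restrict i U hU
  haveI : Surjective g' := MorphismProperty.of_isPullback (P := @Surjective) hsq.flip inferInstance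
  obtain ⟨z', rfl⟩ := g'.surjective z
  have hx : g (i' z') ∈ U := by
    have h1 : g (i' z') = i (g' z') := (congrArg (fun φ : Y' ⟶ X => φ z') hsq.w).symm
    rw [h1]
    exact hzU
  obtain ⟨U', hU', hzU', hle'⟩ := exists_isAffineOpen_mem_and_subset (U := g ⁻¹ᵁ U) (x := i' z') hx
  obtain ⟨W, hW, hzW, hciW, n, f, hf, hker⟩ := (K.isRegularImmersionAt_iff i' z').1 (hi'.2 z')
  obtain ⟨w₁, w₂, hw, hzw⟩ := exists_basicOpen_le_affine_inter hU' hW (i' z') ⟨hzU', hzW⟩
  obtain ⟨f₁, hf₁, hker₁⟩ := K.restrict_basicOpen i' hW w₂ hf hker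
  haveI hcid : IsClosedImmersion (i' ∣_ X'.basicOpen w₂) := isClosedImmersion_restrict_of_le i' (X'.basicOpen_le w₂)
  have key : ∀ D : X'.Opens, D = X'.basicOpen w₂ → IsClosedImmersion (i' ∣_ D) ∧
      ∃ (n : ℕ) (f : Fin n → Γ(X', D)), K.Φ f ∧ RingHom.ker (i'.app D).hom = Ideal.span (Set.range f) := by
    rintro D rfl
    exact ⟨hcid, n, f₁, hf₁, hker₁⟩
  obtain ⟨hciD, m, h, hh, hkerh⟩ := key (X'.basicOpen w₁) hw
  let D : X'.Opens := X'.basicOpen w₁
  have hD : IsAffineOpen D := hU'.basicOpen w₁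
  have hle : D ≤ g ⁻¹ᵁ U := (X'.basicOpen_le w₁).trans hle'
  obtain ⟨hDY, -⟩ := Synt29.surjective_app_of_isClosedImmersion_restrict i' D hD
  have hUY' : i' ⁻¹ᵁ D = g' ⁻¹ᵁ (i ⁻¹ᵁ U) ⊓ i' ⁻¹ᵁ D := by
    refine (inf_eq_right.2 fun y hy => ?_).symm
    show i (g' y) ∈ U
    have h1 : i (g' y) = g (i' y) := congrArg (fun φ : Y' ⟶ X => φ y) hsq.w
    rw [h1]
    exact hle hy
  have hpo := (isIso_pushoutSection_iff hsq hle le_rfl hUY').1
    (isIso_pushoutSection_of_isAffineOpen hsq hle le_rfl hUY' hU hD hUY)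
  have hs : Function.Surjective (i.appLE U (i ⁻¹ᵁ U) le_rfl) := by
    rw [← Scheme.Hom.app_eq_appLE]
    exact hUs
  have hk := ker_of_isPushout hpo hs
  rw [← Scheme.Hom.app_eq_appLE, ← Scheme.Hom.app_eq_appLE] at hk
  letI : Algebra Γ(X, U) Γ(X', D) := (g.appLE U D hle).hom.toAlgebra
  haveI : Module.Flat Γ(X, U) Γ(X', D) := g.flat_appLE hU hD hle
  haveI : Algebra.FinitePresentation Γ(X, U) Γ(X', D) :=
    HasRingHomProperty.appLE @LocallyOfFinitePresentation g inferInstance ⟨U, hU⟩ ⟨D, hD⟩ hle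
  haveI : Algebra.HasGoingDown Γ(X, U) Γ(X', D) := Algebra.HasGoingDown.of_flat
  let q := hD.primeIdealOf ⟨i' z', hzw⟩
  obtain ⟨a, ha, hon⟩ := K.exists_of_flat
    (PrimeSpectrum.isOpenMap_comap_of_hasGoingDown_of_finitePresentation (R := Γ(X, U)) (S := Γ(X', D)))
    (RingHom.ker (i.app U).hom) q (hk ▸ ker_app_le_primeIdealOf i' hD hDY z' hzw) h hh (hk.symm.trans hkerh)
  letI : Algebra Γ(X, U) Γ(X, X.basicOpen a) := (X.presheaf.map (homOfLE (X.basicOpen_le a)).op).hom.toAlgebra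
  haveI : IsLocalization.Away a Γ(X, X.basicOpen a) := hU.isLocalization_basicOpen a
  obtain ⟨p, fs, hfs, hspan⟩ := hon Γ(X, X.basicOpen a)
  refine (K.isRegularImmersionAt_iff i _).2 ⟨X.basicOpen a, hU.basicOpen a, ?_,
    isClosedImmersion_restrict_of_le i (X.basicOpen_le a), p, fs, hfs,
    ((app_basicOpen_props i hU hUY hUs a).2.2).trans hspan⟩
  have hc : (g.appLE U D hle).hom.toAlgebra.algebraMap = (g.appLE U D hle).hom := rfl
  have hgz : g (i' z') = i (g' z') := (congrArg (fun φ : Y' ⟶ X => φ z') hsq.w).symm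
  rw [← hgz, ← hU.fromSpec_image_basicOpen a]
  refine ⟨Spec.map (g.appLE U D hle) q, ha, ?_⟩
  show (Spec.map (g.appLE U D hle) ≫ hU.fromSpec) q = _
  rw [IsAffineOpen.SpecMap_appLE_fromSpec g hU hD hle]
  show g (hD.fromSpec q) = _
  rw [hD.fromSpec_primeIdealOf]

end Groth.Agent.AlgSpC7
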