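import Groth.Agent.AlgSpC7.LciCharts
import Groth.Agent.AlgSpC7.RegImmLocal
import Groth.Agent.KRegLib.FlatBase
import Groth.Agent.AlgSpDec.BaseChangeCharts
import Groth.Agent.AlgSpLib.LargestOpen
import Groth.Agent.AlgSpPts.OpenSub

/-!
# The locus where a morphism of algebraic spaces is Koszul, and base change
-/

set_option autoImplicit false
set_option backward.isDefEq.respectTransparency false
set_option backward.isDefEq.respectTransparency.types false

universe u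

open CategoryTheory CategoryTheory.Limits AlgebraicGeometry Opposite AlgSp

namespace Groth.Agent.AlgSpC7

open Groth.Agent.AlgSpLib Groth.Agent.AlgSpPts

theorem regImm_comp_isIso {Z' Z X : Scheme.{u}} (e : Z' ⟶ Z) [IsIso e] (i : Z ⟶ X)
    (h : RegImm.IsRegularImmersion .koszul i) : RegImm.IsRegularImmersion .koszul (e ≫ i) :=
  koszulKind.baseChange (g := 𝟙 X) (g' := e)
    (IsPullback.of_horiz_isIso ⟨by rw [Category.comp_id]⟩) h

/-- Koszul at a point means lci on an open neighbourhood. -/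
theorem isKoszulAt_iff {X Y : Scheme.{u}} (f : X ⟶ Y) (x : X) :
    Synt.IsKoszulAt f x ↔ ∃ U : X.Opens, x ∈ U ∧ lci (U.ι ≫ f) := by
  constructor
  · rintro ⟨U, P, i, π, hx, -, hi, hπ, hf⟩
    refine ⟨U, hx, ?_⟩
    rw [← hf]
    haveI := hπ
    exact lci_comp (lci_of_regImm i hi) (lci_of_smooth π)
  · rintro ⟨U, hx, h⟩
    obtain ⟨U', P, i, π, hx', hft, hi, hπ, hf⟩ := h ⟨x, hx⟩
    let e := U.ι.isoImage U'
    have he : e.inv ≫ U'.ι ≫ U.ι = (U.ι ''ᵁ U').ι := by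
      rw [Scheme.Hom.isoImage_inv_ι]
    refine ⟨U.ι ''ᵁ U', P, e.inv ≫ i, π, ⟨⟨x, hx⟩, hx', rfl⟩, ?_, regImm_comp_isIso e.inv i hi, hπ, ?_⟩
    · rw [← he, Category.assoc, Category.assoc]
      infer_instance
    · rw [← he, Category.assoc, Category.assoc, Category.assoc, hf]

theorem isOpen_koszulAt {X Y : Scheme.{u}} (f : X ⟶ Y) : IsOpen {x | Synt.IsKoszulAt f x} := by
  rw [isOpen_iff_forall_mem_open]
  rintro x ⟨U, P, i, π, hx, h⟩
  exact ⟨U, fun y hy => ⟨U, P, i, π, hy, h⟩, U.2, hx⟩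

theorem isKoszulAt_precomp {X Y Z : Scheme.{u}} (e : X ⟶ Y) (g : Y ⟶ Z) [Etale e] (x : X) :
    Synt.IsKoszulAt (e ≫ g) x ↔ Synt.IsKoszulAt g (e x) := by
  rw [isKoszulAt_iff, isKoszulAt_iff]
  constructor
  · rintro ⟨U, hx, hU⟩
    have he : IsOpen (e '' (U : Set X)) := e.isOpenMap _ U.2
    let V : Y.Opens := ⟨_, he⟩
    have hle : U ≤ e ⁻¹ᵁ V := fun z hz => ⟨z, hz, rfl⟩
    refine ⟨V, ⟨x, hx, rfl⟩, ?_⟩
    have : Surjective (e.resLE V U hle) := ⟨by
      rintro ⟨_, z, hz, rfl⟩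
      refine ⟨⟨z, hz⟩, Subtype.ext ?_⟩
      exact ((Scheme.Hom.comp_apply (e.resLE V U hle) V.ι (⟨z, hz⟩ : U)).symm.trans
        ((congrArg (fun k : Scheme.Opens.toScheme U ⟶ Y => k (⟨z, hz⟩ : U)) (e.resLE_comp_ι hle)).trans
          (Scheme.Hom.comp_apply U.ι e (⟨z, hz⟩ : U))) :)⟩
    refine lci_of_precomp (e.resLE V U hle) ?_
    rw [Scheme.Hom.resLE_comp_ι_assoc]
    exact hU
  · rintro ⟨V, hx, hV⟩
    refine ⟨e ⁻¹ᵁ V, hx, ?_⟩
    rw [← morphismRestrict_ι_assoc]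
    exact lci_comp (lci_of_smooth _) hV

theorem isKoszulAt_postcomp {X Y Z : Scheme.{u}} (g : X ⟶ Y) (j : Y ⟶ Z) [Smooth j] (x : X) :
    Synt.IsKoszulAt (g ≫ j) x ↔ Synt.IsKoszulAt g x := by
  rw [isKoszulAt_iff, isKoszulAt_iff]
  constructor
  · rintro ⟨U, hx, hU⟩
    exact ⟨U, hx, lci_cancel_smooth (g := j) (by rwa [Category.assoc])⟩
  · rintro ⟨U, hx, hU⟩
    refine ⟨U, hx, ?_⟩
    rw [← Category.assoc]
    exact lci_comp hU (lci_of_smooth j)

variable {S : Scheme.{u}} {F G : Sp S} {f : F ⟶ G}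

theorem koszul_congr_charts {U V U' V' : Over S} {a : (yon S).obj U ⟶ F} {b : (yon S).obj V ⟶ G}
    {h : U ⟶ V} {u : ↥U.left} {a' : (yon S).obj U' ⟶ F} {b' : (yon S).obj V' ⟶ G} {h' : U' ⟶ V'}
    {u' : ↥U'.left} (ha : RepWith @Etale a) (hb : RepWith @Etale b) (w : a ≫ f = (yon S).map h ≫ b)
    (ha' : RepWith @Etale a') (hb' : RepWith @Etale b') (w' : a' ≫ f = (yon S).map h' ≫ b')
    (he : Points.ofPt a u = Points.ofPt a' u') :
    Synt.IsKoszulAt h.left u ↔ Synt.IsKoszulAt h'.left u' := by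
  let pa : ha.rep.pullback a' ⟶ U := ha.rep.fst' a'
  let pa' : ha.rep.pullback a' ⟶ U' := ha.rep.snd a'
  let wb : hb.rep.pullback b' ⟶ V := hb.rep.fst' b'
  let wb' : hb.rep.pullback b' ⟶ V' := hb.rep.snd b'
  have sqA := ha.rep.isPullback' a'
  have sqB := hb.rep.isPullback' b'
  obtain ⟨z, hz, hz'⟩ := exists_ofPt_of_eq sqA he
  haveI : Etale pa'.left := ha.property_snd a'
  haveI : Etale pa.left := ha'.property _ _ _ sqA.flip
  haveI : Etale wb'.left := hb.property_snd b'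
  haveI : Etale wb.left := hb'.property _ _ _ sqB.flip
  have hc : (yon S).map (pa ≫ h) ≫ b = (yon S).map (pa' ≫ h') ≫ b' := by
    rw [(yon S).map_comp pa h, (yon S).map_comp pa' h', Category.assoc, Category.assoc, ← w, ← w',
      ← Category.assoc, sqA.w, Category.assoc]
  obtain ⟨k, hk⟩ := (yon S).map_surjective (sqB.lift _ _ hc)
  have hk₁ : k ≫ wb = pa ≫ h := (yon S).map_injective (by
    rw [(yon S).map_comp k wb, hk]; exact sqB.lift_fst _ _ _)
  have hk₂ : k ≫ wb' = pa' ≫ h' := (yon S).map_injective (by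
    rw [(yon S).map_comp k wb', hk]; exact sqB.lift_snd _ _ _)
  rw [← hz, ← hz', ← isKoszulAt_precomp pa.left h.left z, ← isKoszulAt_precomp pa'.left h'.left z,
    ← Over.comp_left, ← Over.comp_left, ← hk₁, ← hk₂, Over.comp_left, Over.comp_left,
    isKoszulAt_postcomp, isKoszulAt_postcomp]

/-- Koszul near a point, read on any chart through the point. -/
theorem locPNear_lci_iff_chart (hF : IsAlgSpace F) (hG : IsAlgSpace G) {U V : Over S}
    {a : (yon S).obj U ⟶ F} {b : (yon S).obj V ⟶ G} {h : U ⟶ V} (ha : RepWith @Etale a)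
    (hb : RepWith @Etale b) (w : a ≫ f = (yon S).map h ≫ b) (u : ↥U.left) :
    LocPNear lci f (Points.ofPt a u) ↔ Synt.IsKoszulAt h.left u := by
  constructor
  · rintro ⟨X', j, hj, ⟨y, hy⟩, hl⟩
    have hX' : IsAlgSpace X' := AlgSpLib.isAlgSpace_of_representable j hj.rep hF
    obtain ⟨U₁, V₁, a₁, b₁, h₁, ha₁, ha₁', hb₁, -, w₁⟩ := exists_chart hX' hG (j ≫ f)
    obtain ⟨u₁, rfl⟩ := surjective_ofPt ha₁' y
    rw [Points.map_ofPt] at hy
    have haj : RepWith @Etale (a₁ ≫ j) :=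
      repWith_comp ha₁ (repWith_mono (fun A B g (hg : IsOpenImmersion g) => (inferInstance : Etale g)) _ hj)
    exact (koszul_congr_charts haj hb₁ (by rw [Category.assoc, w₁]) ha hb w hy).1 (hl a₁ b₁ h₁ ha₁ hb₁ w₁ u₁)
  · intro hu
    let O : Set (Points F) := {x | ∃ (U : Over S) (V : Over S) (a : (yon S).obj U ⟶ F)
      (b : (yon S).obj V ⟶ G) (h : U ⟶ V) (u : ↥U.left), RepWith @Etale a ∧ RepWith @Etale b ∧
        a ≫ f = (yon S).map h ≫ b ∧ Points.ofPt a u = x ∧ Synt.IsKoszulAt h.left u}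
    have hO : IsOpen O := by
      rw [isOpen_iff_forall_mem_open]
      rintro x ⟨U, V, a, b, h, u, ha, hb, w, hx, hu⟩
      refine ⟨Points.ofPt a '' {u' | Synt.IsKoszulAt h.left u'}, ?_,
        isOpenMap_ofPt ha _ (isOpen_koszulAt h.left), u, hu, hx⟩
      rintro _ ⟨u', hu', rfl⟩
      exact ⟨U, V, a, b, h, u', ha, hb, w, rfl, hu'⟩
    obtain ⟨X', j, hX', hj, hrange⟩ := exists_open_subspace hF hO
    refine ⟨X', j, hj, hrange.ge ⟨U, V, a, b, h, u, ha, hb, w, rfl, hu⟩, fun U₁ V₁ a₁ b₁ h₁ ha₁ hb₁ w₁ u₁ => ?_⟩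
    obtain ⟨U₂, V₂, a₂, b₂, h₂, u₂, ha₂, hb₂, w₂, he, hu₂⟩ :=
      hrange.le ⟨Points.ofPt a₁ u₁, (Points.map_ofPt a₁ j u₁)⟩
    have haj : RepWith @Etale (a₁ ≫ j) :=
      repWith_comp ha₁ (repWith_mono (fun A B g (hg : IsOpenImmersion g) => (inferInstance : Etale g)) _ hj)
    exact (koszul_congr_charts haj hb₁ (by rw [Category.assoc, w₁]) ha₂ hb₂ w₂ he.symm).2 hu₂

/-- Charts of a base change over prescribed charts of the base. -/
theorem exists_baseChange_charts_over {F' G' : Sp S} {f : F ⟶ G} {g : G' ⟶ G} {fst : F' ⟶ F}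
    {snd : F' ⟶ G'} (sq : IsPullback fst snd f g) (hF : IsAlgSpace F) (hG : IsAlgSpace G)
    {V W : Over S} {b : (yon S).obj V ⟶ G} {c : (yon S).obj W ⟶ G'} {h₁ : W ⟶ V}
    (hb : RepWith @Etale b) (hcE : RepWith @Etale c) (hcS : RepWith @Surjective c)
    (hc : c ≫ g = (yon S).map h₁ ≫ b) :
    ∃ (U : Over S) (a : (yon S).obj U ⟶ F) (h : U ⟶ V) (a' : (yon S).obj (Limits.pullback h h₁) ⟶ F'),
      RepWith @Etale a ∧ a ≫ f = (yon S).map h ≫ b ∧
      RepWith @Etale a' ∧ RepWith @Surjective a' ∧ a' ≫ snd = (yon S).map (pullback.snd h h₁) ≫ c ∧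
      a' ≫ fst = (yon S).map (pullback.fst h h₁) ≫ a := by
  obtain ⟨U, a₀, h, h1, h2, h3⟩ := exists_chart_over hF hG f b
  let Q := pullback f (c ≫ g)
  let n : Q ⟶ pullback f b := pullback.lift (pullback.fst _ _) (pullback.snd _ _ ≫ (yon S).map h₁)
    (pullback.condition.trans ((congrArg (pullback.snd f (c ≫ g) ≫ ·) hc).trans (Category.assoc _ _ _).symm))
  have sn : IsPullback n (pullback.snd f (c ≫ g)) (pullback.snd f b) ((yon S).map h₁) := by
    refine IsPullback.of_right ?_ (pullback.lift_snd _ _ _) (IsPullback.of_hasPullback f b)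
    rw [pullback.lift_fst, ← hc]
    exact IsPullback.of_hasPullback f (c ≫ g)
  let m : Q ⟶ F' := sq.lift (pullback.fst _ _) (pullback.snd _ _ ≫ c)
    (pullback.condition.trans (Category.assoc _ _ _).symm)
  have sm : IsPullback m (pullback.snd f (c ≫ g)) snd c := by
    refine IsPullback.of_right ?_ (sq.lift_snd _ _ _) sq
    rw [IsPullback.lift_fst]
    exact IsPullback.of_hasPullback f (c ≫ g)
  let X := Limits.pullback h h₁
  have s := IsPullback.of_hasPullback h h₁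
  let k : (yon S).obj X ⟶ Q := sn.lift ((yon S).map (pullback.fst h h₁) ≫ a₀) ((yon S).map (pullback.snd h h₁))
    (by rw [Category.assoc, h3, ← Functor.map_comp, ← Functor.map_comp, s.w])
  have sk : IsPullback ((yon S).map (pullback.fst h h₁)) k a₀ n := by
    refine IsPullback.of_bot ?_ (IsPullback.lift_fst _ _ _ _).symm sn
    rw [IsPullback.lift_snd, h3]
    exact s.map (yon S)
  refine ⟨U, a₀ ≫ pullback.fst f b, h, k ≫ m, repWith_comp h1 (repWith_fst f hb), ?_,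
    repWith_comp (repWith_of_isPullback sk h1) (repWith_of_isPullback sm.flip hcE),
    repWith_comp (repWith_of_isPullback sk h2) (repWith_of_isPullback sm.flip hcS), ?_, ?_⟩
  · rw [Category.assoc, pullback.condition, ← Category.assoc, h3]
  · rw [Category.assoc, IsPullback.lift_snd, ← Category.assoc, IsPullback.lift_snd]
  · rw [Category.assoc, IsPullback.lift_fst, show pullback.fst f (c ≫ g) = n ≫ pullback.fst f b from
      (pullback.lift_fst _ _ _).symm, ← Category.assoc, IsPullback.lift_fst, Category.assoc]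

theorem setOf_locPNear_lci_baseChange {X Y Z Z' Y' X' : Sp S} (hX : IsAlgSpace X) (hY₀ : IsAlgSpace Y)
    (hZ : IsAlgSpace Z) (hZ' : IsAlgSpace Z') (hX' : IsAlgSpace X') (hY'₀ : IsAlgSpace Y')
    (f : X ⟶ Y) (q : Y ⟶ Z) (hp1 : LocP @Flat (f ≫ q)) (hp2 : LocP @LocallyOfFinitePresentation (f ≫ q))
    (hq1 : LocP @Flat q) (hq2 : LocP @LocallyOfFinitePresentation q)
    (g : Z' ⟶ Z) (gY : Y' ⟶ Y) (q' : Y' ⟶ Z') (hY : IsPullback gY q' q g)
    (gX : X' ⟶ X) (f' : X' ⟶ Y') (hXs : IsPullback gX f' f gY) :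
    {x' | LocPNear lci f' x'} = Points.map gX ⁻¹' {x | LocPNear lci f x} := by
  ext x'
  obtain ⟨Uy, Vz, W, b, c₀, c', k, h₁, b', hb, hc₀, -, wk, hb', hbs', -, wb'⟩ :=
    AlgSpDec.exists_baseChange_charts hY hY₀ hZ hZ'
  obtain ⟨U, a, h, a', ha, wh, ha', has', wa', wa''⟩ :=
    exists_baseChange_charts_over hXs hX hY₀ (h₁ := pullback.fst k h₁) hb hb' hbs' wb'
  obtain ⟨z, rfl⟩ := surjective_ofPt has' x'
  have hmap : Points.map gX (Points.ofPt a' z) = Points.ofPt a ((pullback.fst h (pullback.fst k h₁)).left z) := by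
    rw [Points.map_ofPt, wa'', ofPt_comp]
  show LocPNear lci f' _ ↔ LocPNear lci f _
  rw [hmap, locPNear_lci_iff_chart hX' hY'₀ ha' hb' wa' z, locPNear_lci_iff_chart hX hY₀ ha hb wh]
  haveI : Flat k.left := hq1 b c₀ k hb hc₀ wk
  haveI : LocallyOfFinitePresentation k.left := hq2 b c₀ k hb hc₀ wk
  have wc : a ≫ f ≫ q = (yon S).map (h ≫ k) ≫ c₀ := by
    rw [← Category.assoc, wh, Category.assoc, wk, Functor.map_comp, Category.assoc]
  haveI : Flat (h.left ≫ k.left) := hp1 a c₀ (h ≫ k) ha hc₀ wc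
  haveI : LocallyOfFinitePresentation (h.left ≫ k.left) := hp2 a c₀ (h ≫ k) ha hc₀ wc
  exact KRegLib.isKoszulAt_baseChange_iff h.left k.left
    ((IsPullback.of_hasPullback k h₁).map (Over.forget S))
    ((IsPullback.of_hasPullback h (pullback.fst k h₁)).map (Over.forget S)) z

end Groth.Agent.AlgSpC7
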