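import Groth.Agent.AlgSpC7.GorScheme
import Groth.Agent.AlgSpC7.KoszulLocus
import Groth.Agent.AlgSpDec.Fibres
import Groth.Agent.AlgSpQ4.FibreNoeth
import Groth.Agent.AlgSpLib.LocalBaseTop
import Groth.Agent.S3625

/-!
# Gorenstein morphisms of algebraic spaces
-/

set_option backward.isDefEq.respectTransparency false
set_option backward.isDefEq.respectTransparency.types false
set_option autoImplicit false
set_option linter.style.haveILetI false

universe u

open CategoryTheory CategoryTheory.Limits AlgebraicGeometry AlgSp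

namespace Groth.Agent.AlgSpC7.GorSp

open Groth.Agent Groth.Agent.AlgSpLib Groth.Agent.AlgSpPts

variable {S : Scheme.{u}} {F G H : Sp S}

/-- Gorenstein at a point of the source. -/
abbrev GorAt (f : F ⟶ G) (x : Points F) : Prop :=
  LocPAt (fun h u => Dual3.IsGorensteinAt h u) f x

/-- All fibres over field points are locally noetherian. -/
def FibNoeth (f : F ⟶ G) : Prop :=
  ∀ (k : FieldPt G) (Xk : Sp S) (a : Xk ⟶ F) (b : Xk ⟶ (yon S).obj k.pt),
    IsPullback a b f k.toHom → IsLocNoethSp Xk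

theorem fibNoeth_of_isPullback {F' G' : Sp S} {f : F ⟶ G} {g : G' ⟶ G} {fst : F' ⟶ F} {snd : F' ⟶ G'}
    (sq : IsPullback fst snd f g) (hf : FibNoeth f) : FibNoeth snd := fun k Xk a b h => by
  have h' := h.paste_horiz sq
  rw [← FieldPt.toHom_map] at h'
  exact hf (k.map g) Xk _ _ h'

/-- The scheme fibre of a chart maps etale to the fibre of the morphism. -/
theorem exists_fibre_chart {f : F ⟶ G} {U V : Over S} {a : (yon S).obj U ⟶ F} {b : (yon S).obj V ⟶ G}
    {h : U ⟶ V} (ha : RepWith @Etale a) (hb : RepWith @Etale b) (w : a ≫ f = (yon S).map h ≫ b) (v : ↥V.left)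
    {P : Sp S} {pX : P ⟶ F} {pk : P ⟶ (yon S).obj (Over.mk (V.left.fromSpecResidueField v ≫ V.hom))}
    (sq : IsPullback pX pk f ((yon S).map (Over.homMk (V.left.fromSpecResidueField v) rfl :
      Over.mk (V.left.fromSpecResidueField v ≫ V.hom) ⟶ V) ≫ b)) :
    ∃ m : (yon S).obj (Over.mk (h.left.fiberι v ≫ U.hom)) ⟶ P, RepWith @Etale m ∧
      ((∃ a₀ : (yon S).obj U ⟶ pullback f b, RepWith @Surjective a₀ ∧ a₀ ≫ pullback.fst f b = a ∧
        a₀ ≫ pullback.snd f b = (yon S).map h) → RepWith @Surjective m) := by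
  let T : Over S := Over.mk (V.left.fromSpecResidueField v ≫ V.hom)
  let κ : T ⟶ V := Over.homMk (V.left.fromSpecResidueField v) rfl
  let Uv : Over S := Over.mk (h.left.fiberι v ≫ U.hom)
  let ι : Uv ⟶ U := Over.homMk (h.left.fiberι v) rfl
  let π : Uv ⟶ T := Over.homMk (h.left.fiberToSpecResidueField v) (by
    show h.left.fiberToSpecResidueField v ≫ V.left.fromSpecResidueField v ≫ V.hom = h.left.fiberι v ≫ U.hom
    rw [← Category.assoc,
      show h.left.fiberToSpecResidueField v ≫ V.left.fromSpecResidueField v = h.left.fiberι v ≫ h.left from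
        (pullback.condition (f := h.left) (g := V.left.fromSpecResidueField v)).symm,
      Category.assoc, Over.w h])
  have sq₀ : IsPullback ι π h κ := IsPullback.of_map_of_faithful (Over.forget S)
    (IsPullback.of_hasPullback h.left (V.left.fromSpecResidueField v))
  let l : (yon S).obj U ⟶ pullback f b := pullback.lift a ((yon S).map h) w
  have hl₁ : l ≫ pullback.fst f b = a := pullback.lift_fst _ _ _
  have hl₂ : l ≫ pullback.snd f b = (yon S).map h := pullback.lift_snd _ _ _
  have hle : RepWith @Etale l := repWith_etale_of_comp l (pullback.fst f b) (by rwa [hl₁]) (repWith_fst f hb)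
  let n : P ⟶ pullback f b := pullback.lift pX (pk ≫ (yon S).map κ) (by rw [Category.assoc]; exact sq.w)
  have sn : IsPullback n pk (pullback.snd f b) ((yon S).map κ) :=
    IsPullback.of_right (by rw [pullback.lift_fst]; exact sq) (pullback.lift_snd _ _ _)
      (IsPullback.of_hasPullback f b)
  have sqy := sq₀.map (yon S)
  let m : (yon S).obj Uv ⟶ P := sn.lift ((yon S).map ι ≫ l) ((yon S).map π)
    (by rw [Category.assoc, hl₂]; exact sqy.w)
  have sqm : IsPullback ((yon S).map ι) m l n :=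
    IsPullback.of_bot (by rw [hl₂, show m ≫ pk = (yon S).map π from sn.lift_snd _ _ _]; exact sqy)
      (sn.lift_fst _ _ _).symm sn
  refine ⟨m, repWith_of_isPullback sqm hle, ?_⟩
  rintro ⟨a₀, hs, h1, h2⟩
  have : a₀ = l := pullback.hom_ext (by rw [h1, hl₁]) (by rw [h2, hl₂])
  exact repWith_of_isPullback sqm (this ▸ hs)

/-- The fibres of the scheme charts are locally noetherian. -/
theorem isLocallyNoetherian_fibre {f : F ⟶ G} (hf : FibNoeth f) {U V : Over S} {a : (yon S).obj U ⟶ F}
    {b : (yon S).obj V ⟶ G} {h : U ⟶ V} (ha : RepWith @Etale a) (hb : RepWith @Etale b)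
    (w : a ≫ f = (yon S).map h ≫ b) (v : ↥V.left) : IsLocallyNoetherian (h.left.fiber v) := by
  let κ : Over.mk (V.left.fromSpecResidueField v ≫ V.hom) ⟶ V := Over.homMk (V.left.fromSpecResidueField v) rfl
  have sq := IsPullback.of_hasPullback f ((yon S).map κ ≫ b)
  obtain ⟨m, hm, -⟩ := exists_fibre_chart ha hb w v sq
  refine AlgSpDec.isLocallyNoetherian_chart hm (hf (FieldPt.ofPt b v) _ (pullback.fst _ _) (pullback.snd _ _) ?_)
  rw [FieldPt.toHom_ofPt]
  exact sq

theorem congr_charts {f : F ⟶ G} (hf : FibNoeth f) {U V U' V' : Over S}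
    {a : (yon S).obj U ⟶ F} {b : (yon S).obj V ⟶ G} {h : U ⟶ V} {u : ↥U.left}
    {a' : (yon S).obj U' ⟶ F} {b' : (yon S).obj V' ⟶ G} {h' : U' ⟶ V'} {u' : ↥U'.left}
    (ha : RepWith @Etale a) (hb : RepWith @Etale b) (w : a ≫ f = (yon S).map h ≫ b)
    (ha' : RepWith @Etale a') (hb' : RepWith @Etale b') (w' : a' ≫ f = (yon S).map h' ≫ b')
    (he : Points.ofPt a u = Points.ofPt a' u') :
    Dual3.IsGorensteinAt h.left u ↔ Dual3.IsGorensteinAt h'.left u' := by
  let pa : ha.rep.pullback a' ⟶ U := ha.rep.fst' a'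
  let pa' : ha.rep.pullback a' ⟶ U' := ha.rep.snd a'
  let wb : hb.rep.pullback b' ⟶ V := hb.rep.fst' b'
  let wb' : hb.rep.pullback b' ⟶ V' := hb.rep.snd b'
  have sqA := ha.rep.isPullback' a'
  have sqB := hb.rep.isPullback' b'
  obtain ⟨z, hz, hz'⟩ := exists_ofPt_of_eq sqA he
  haveI : Etale pa'.left := ha.property_snd a'
  haveI : Etale pa.left := ha'.property _ _ _ sqA.flip
  haveI : Etale wb'.left := hb.property_snd b'
  haveI : Etale wb.left := hb'.property _ _ _ sqB.flip
  have hc : (yon S).map (pa ≫ h) ≫ b = (yon S).map (pa' ≫ h') ≫ b' := by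
    rw [(yon S).map_comp pa h, (yon S).map_comp pa' h', Category.assoc, Category.assoc, ← w, ← w',
      ← Category.assoc, sqA.w, Category.assoc]
  obtain ⟨k, hk⟩ := (yon S).map_surjective (sqB.lift _ _ hc)
  have hk₁ : k ≫ wb = pa ≫ h := (yon S).map_injective (by
    rw [(yon S).map_comp k wb, hk]; exact sqB.lift_fst _ _ _)
  have hk₂ : k ≫ wb' = pa' ≫ h' := (yon S).map_injective (by
    rw [(yon S).map_comp k wb', hk]; exact sqB.lift_snd _ _ _)
  rw [← hz, ← hz', ← GorScheme.isGorensteinAt_precomp pa.left h.left (isLocallyNoetherian_fibre hf ha hb w) z,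
    ← GorScheme.isGorensteinAt_precomp pa'.left h'.left (isLocallyNoetherian_fibre hf ha' hb' w') z,
    ← Over.comp_left, ← Over.comp_left, ← hk₁, ← hk₂, Over.comp_left, Over.comp_left,
    GorScheme.isGorensteinAt_postcomp, GorScheme.isGorensteinAt_postcomp]

theorem gorAt_iff_chart {f : F ⟶ G} (hf : FibNoeth f) {U V : Over S}
    {a : (yon S).obj U ⟶ F} {b : (yon S).obj V ⟶ G} {h : U ⟶ V} (ha : RepWith @Etale a)
    (hb : RepWith @Etale b) (w : a ≫ f = (yon S).map h ≫ b) (u : ↥U.left) :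
    GorAt f (Points.ofPt a u) ↔ Dual3.IsGorensteinAt h.left u :=
  ⟨fun H => H a b h u ha hb w rfl,
    fun hu _ _ _ _ _ _ ha' hb' w' hx => (congr_charts hf ha hb w ha' hb' w' hx.symm).1 hu⟩

theorem gor_comp (hF : IsAlgSpace F) (hG : IsAlgSpace G) (hH : IsAlgSpace H) (f : F ⟶ G) (g : G ⟶ H)
    (hf : FibNoeth f) (hg : FibNoeth g) (hfg : FibNoeth (f ≫ g)) (x : Points F) :
    (GorAt f x → GorAt g (Points.map f x) → GorAt (f ≫ g) x) ∧
      (GorAt (f ≫ g) x → IsFlatAtMor f x → GorAt f x ∧ GorAt g (Points.map f x)) := by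
  obtain ⟨V, W, b, c, k, hb, hb', hc, -, wg⟩ := exists_chart hG hH g
  obtain ⟨U, a₀, h, h1, h2, h3⟩ := exists_chart_over hF hG f b
  let a := a₀ ≫ pullback.fst f b
  have ha : RepWith @Etale a := repWith_comp h1 (repWith_fst f hb)
  have wf : a ≫ f = (yon S).map h ≫ b := by
    rw [Category.assoc, pullback.condition, ← Category.assoc, h3]
  have wfg : a ≫ f ≫ g = (yon S).map (h ≫ k) ≫ c := by
    rw [reassoc_of% wf, wg, Functor.map_comp, Category.assoc]
  obtain ⟨u, rfl⟩ := surjective_ofPt (repWith_comp h2 (repWith_fst f hb')) x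
  have hy : Points.map f (Points.ofPt a u) = Points.ofPt b (h.left u) := by
    rw [Points.map_ofPt, wf, ofPt_comp]
  rw [hy, gorAt_iff_chart hf ha hb wf, gorAt_iff_chart hg hb hc wg, gorAt_iff_chart hfg ha hc wfg, Over.comp_left]
  have key : (h.left.stalkMap u).hom.Flat → (Dual3.IsGorensteinAt (h.left ≫ k.left) u ↔
      Dual3.IsGorensteinAt h.left u ∧ Dual3.IsGorensteinAt k.left (h.left u)) := fun hfl =>
    Dual349.isGorensteinAt_comp_iff h.left k.left u hfl (isLocallyNoetherian_fibre hg hb hc wg _)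
      (by rw [← Over.comp_left]; exact isLocallyNoetherian_fibre hfg ha hc wfg _)
  exact ⟨fun h₁ h₂ => (key h₁.1).2 ⟨h₁, h₂⟩, fun h₁ hfl => (key (hfl a b h u ha hb wf rfl)).1 h₁⟩

theorem gor_baseChange {F' G' : Sp S} {f : F ⟶ G} {g : G' ⟶ G} {fst : F' ⟶ F} {snd : F' ⟶ G'}
    (sq : IsPullback fst snd f g) (hF : IsAlgSpace F) (hG : IsAlgSpace G) (hG' : IsAlgSpace G')
    (hf : FibNoeth f) (hg : LocP @LocallyOfFiniteType g) (x' : Points F') :
    (GorAt f (Points.map fst x') → GorAt snd x') ∧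
      (IsFlatAtMor f (Points.map fst x') → GorAt snd x' → GorAt f (Points.map fst x')) ∧
      (IsFlatAtMor g (Points.map snd x') → GorAt snd x' → GorAt f (Points.map fst x')) := by
  obtain ⟨W, V, c, b, h₁, hc, hc', hb, -, wc⟩ := exists_chart hG' hG g
  obtain ⟨U, a, h, a', ha, wa, ha', has', wa', wa''⟩ :=
    AlgSpC7.exists_baseChange_charts_over sq hF hG (h₁ := h₁) hb hc hc' wc
  obtain ⟨z, rfl⟩ := surjective_ofPt has' x'
  have hx : Points.map fst (Points.ofPt a' z) = Points.ofPt a ((pullback.fst h h₁).left z) := by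
    rw [Points.map_ofPt, wa'', ofPt_comp]
  have hy : Points.map snd (Points.ofPt a' z) = Points.ofPt c ((pullback.snd h h₁).left z) := by
    rw [Points.map_ofPt, wa', ofPt_comp]
  rw [hx, hy, gorAt_iff_chart hf ha hb wa, gorAt_iff_chart (fibNoeth_of_isPullback sq hf) ha' hc wa']
  haveI : LocallyOfFiniteType h₁.left := hg c b h₁ hc hb wc
  have sq' : IsPullback (pullback.fst h h₁).left (pullback.snd h h₁).left h.left h₁.left :=
    (IsPullback.of_hasPullback h h₁).map (Over.forget S)
  have := S3625.result _ _ _ _ h.left h₁.left (pullback.snd h h₁).left (pullback.fst h h₁).left sq'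
    (isLocallyNoetherian_fibre hf ha hb wa) z
  exact ⟨this.1, fun hfl => this.2.1 (hfl a b h _ ha hb wa rfl), fun hfl => this.2.2 (hfl c b h₁ _ hc hb wc rfl)⟩

theorem flat_of_forall_gorAt {f : F ⟶ G} (h : ∀ x, GorAt f x) : LocP @Flat f :=
  fun _ _ a b k ha hb w => (Flat.iff_flat_stalkMap k.left).2 fun u =>
    (h (Points.ofPt a u) a b k u ha hb w rfl).1

/-- A space with a Gorenstein chart has Gorenstein charts only. -/
theorem isGorenstein_chart {U : Over S} {a : (yon S).obj U ⟶ F} (ha : RepWith @Etale a)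
    (hF : EtaleLocally Dual3.IsGorenstein F) : Dual3.IsGorenstein U.left := by
  obtain ⟨W, c, hc, hc', hW⟩ := hF
  haveI := hW.1
  haveI hU : IsLocallyNoetherian U.left :=
    AlgSpDec.isLocallyNoetherian_chart ha ⟨W, c, hc, hc', hW.1⟩
  refine ⟨hU, fun u => ?_⟩
  have sqA := hc.rep.isPullback' a
  haveI : Etale (hc.rep.snd a).left := hc.property_snd a
  haveI : Surjective (hc.rep.snd a).left := hc'.property _ _ _ (hc.rep.isPullback a)
  haveI : Etale (hc.rep.fst' a).left := ha.property _ _ _ sqA.flip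
  haveI : IsLocallyNoetherian (hc.rep.pullback a).left :=
    LocallyOfFiniteType.isLocallyNoetherian (hc.rep.fst' a).left
  obtain ⟨z, rfl⟩ := (hc.rep.snd a).left.surjective u
  exact GorScheme.gor_stalk_descend (hc.rep.snd a).left z
    (GorScheme.gor_stalk_of_etale (hc.rep.fst' a).left z (hW.2 _) inferInstance)

/-- The fibres over the points of etale charts of the base are Gorenstein spaces. -/
def FibGor (f : F ⟶ G) {V : Over S} (b : (yon S).obj V ⟶ G) : Prop :=
  ∀ (v : ↥V.left) (Xv : Sp S) (a : Xv ⟶ F)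
    (c : Xv ⟶ (yon S).obj (Over.mk (V.left.fromSpecResidueField v ≫ V.hom))),
    IsPullback a c f ((yon S).map (Over.homMk (V.left.fromSpecResidueField v) rfl :
      Over.mk (V.left.fromSpecResidueField v ≫ V.hom) ⟶ V) ≫ b) →
    EtaleLocally Dual3.IsGorenstein Xv

theorem fibGor_of_forall (hF : IsAlgSpace F) (hG : IsAlgSpace G) {f : F ⟶ G} (hf : FibNoeth f)
    (H : ∀ x, GorAt f x) {V : Over S} {b : (yon S).obj V ⟶ G} (hb : RepWith @Etale b) : FibGor f b := by
  intro v Xv pX pk sq
  obtain ⟨U, a₀, h, h1, h2, h3⟩ := exists_chart_over hF hG f b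
  have ha : RepWith @Etale (a₀ ≫ pullback.fst f b) := repWith_comp h1 (repWith_fst f hb)
  have w : (a₀ ≫ pullback.fst f b) ≫ f = (yon S).map h ≫ b := by
    rw [Category.assoc, pullback.condition, ← Category.assoc, h3]
  obtain ⟨m, hm, hms⟩ := exists_fibre_chart ha hb w v sq
  refine ⟨_, m, hm, hms ⟨a₀, h2, rfl, h3⟩, isLocallyNoetherian_fibre hf ha hb w v,
    GorScheme.gor_fibre_stalk h.left v fun u _ => H _ _ b h u ha hb w rfl⟩

theorem forall_gorAt_of_fibGor (hF : IsAlgSpace F) (hG : IsAlgSpace G) {f : F ⟶ G} (hf : FibNoeth f)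
    (hfl : LocP @Flat f) {V : Over S} {b : (yon S).obj V ⟶ G} (hb : RepWith @Etale b)
    (hb' : RepWith @Surjective b) (H : FibGor f b) (x : Points F) : GorAt f x := by
  obtain ⟨U, a₀, h, h1, h2, h3⟩ := exists_chart_over hF hG f b
  have ha : RepWith @Etale (a₀ ≫ pullback.fst f b) := repWith_comp h1 (repWith_fst f hb)
  have w : (a₀ ≫ pullback.fst f b) ≫ f = (yon S).map h ≫ b := by
    rw [Category.assoc, pullback.condition, ← Category.assoc, h3]
  obtain ⟨u, rfl⟩ := surjective_ofPt (repWith_comp h2 (repWith_fst f hb')) x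
  rw [gorAt_iff_chart hf ha hb w]
  haveI : Flat h.left := hfl _ b h ha hb w
  obtain ⟨m, hm, -⟩ := exists_fibre_chart ha hb w (h.left u) (IsPullback.of_hasPullback f _)
  exact GorScheme.isGorensteinAt_of_fibre_stalk h.left u (Flat.stalkMap h.left u)
    (isGorenstein_chart hm (H _ _ _ _ (IsPullback.of_hasPullback f _))).2

/-- A flat morphism out of a Gorenstein space. -/
theorem gor_of_source_gor {f : F ⟶ G} (hfl : LocP @Flat f) (hG1 : IsLocNoethSp G)
    (hX : EtaleLocally Dual3.IsGorenstein F) (x : Points F) : GorAt f x := by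
  intro U V a b h u ha hb w _
  haveI : IsLocallyNoetherian V.left := AlgSpDec.isLocallyNoetherian_chart hb hG1
  haveI : Flat h.left := hfl a b h ha hb w
  exact (Dual349.isGorensteinAt_of_gorenstein_stalk h.left u (Flat.stalkMap h.left u)
    ((isGorenstein_chart ha hX).2 u)).1

theorem gor_henselization_target (hF : IsAlgSpace F) (hG : IsAlgSpace G) {f : F ⟶ G} (hfl : LocP @Flat f)
    (hG1 : IsLocNoethSp G) (hX : EtaleLocally Dual3.IsGorenstein F) (x : Points F) {V : Over S}
    {b : (yon S).obj V ⟶ G} (hb : RepWith @Etale b) (v : ↥V.left) (hv : Points.ofPt b v = Points.map f x)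
    (R : Type u) [CommRing R] [IsLocalRing R] [Algebra ↥(V.left.presheaf.stalk v) R]
    [IsLocalHom (algebraMap ↥(V.left.presheaf.stalk v) R)]
    [Hensel.IsStrictHenselization ↥(V.left.presheaf.stalk v) R] : LocCoh.IsGorensteinLocalRing R := by
  haveI : IsLocallyNoetherian V.left := AlgSpDec.isLocallyNoetherian_chart hb hG1
  obtain ⟨U, a₀, h, h1, h2, h3⟩ := exists_chart_over hF hG f b
  have ha : RepWith @Etale (a₀ ≫ pullback.fst f b) := repWith_comp h1 (repWith_fst f hb)
  have w : (a₀ ≫ pullback.fst f b) ≫ f = (yon S).map h ≫ b := by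
    rw [Category.assoc, pullback.condition, ← Category.assoc, h3]
  obtain ⟨z, hz₁, hz₂⟩ := exists_point_of_isPullback (IsPullback.of_hasPullback f b)
    (x := x) (y := Points.ofPt (𝟙 _) v) (by rw [Points.map_ofPt, Category.id_comp, hv])
  obtain ⟨u, rfl⟩ := surjective_ofPt h2 z
  have hu : h.left u = v := by
    refine (Points.schemeHomeo V).injective (Eq.trans ?_ hz₂)
    show Points.ofPt (𝟙 _) (h.left u) = _
    rw [← ofPt_comp, Category.comp_id, ← h3, ← Points.map_ofPt]
  subst hu
  haveI : Flat h.left := hfl _ b h ha hb w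
  exact GorScheme.gor_iff.1 (Dual349.isGorensteinAt_of_gorenstein_stalk h.left u (Flat.stalkMap h.left u)
    ((isGorenstein_chart ha hX).2 u)).2

theorem gorAt_iff_henselization {f : F ⟶ G} (hf : FibNoeth f) {U V : Over S} {a : (yon S).obj U ⟶ F}
    {b : (yon S).obj V ⟶ G} {h : U ⟶ V} (ha : RepWith @Etale a) (hb : RepWith @Etale b)
    (w : a ≫ f = (yon S).map h ≫ b) (u : ↥U.left)
    (R : Type u) [CommRing R] [IsLocalRing R] [Algebra ↥(U.left.presheaf.stalk u) R]
    [IsLocalHom (algebraMap ↥(U.left.presheaf.stalk u) R)] [Hensel.IsStrictHenselization ↥(U.left.presheaf.stalk u) R]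
    (R' : Type u) [CommRing R'] [IsLocalRing R'] [Algebra ↥(V.left.presheaf.stalk (h.left u)) R']
    [IsLocalHom (algebraMap ↥(V.left.presheaf.stalk (h.left u)) R')]
    [Hensel.IsStrictHenselization ↥(V.left.presheaf.stalk (h.left u)) R']
    (φ : R' →+* R) (hφ : φ.comp (algebraMap ↥(V.left.presheaf.stalk (h.left u)) R') =
      (algebraMap ↥(U.left.presheaf.stalk u) R).comp (h.left.stalkMap u).hom) :
    GorAt f (Points.ofPt a u) ↔
      φ.Flat ∧ LocCoh.IsGorensteinLocalRing (R ⧸ (IsLocalRing.maximalIdeal R').map φ) := by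
  rw [gorAt_iff_chart hf ha hb w, Dual349.isGorensteinAt_iff_stalk]
  haveI := Triage.CMMor.isNoetherianRing_fibre_stalk h.left u (isLocallyNoetherian_fibre hf ha hb w _)
  refine and_congr (GorScheme.flat_iff _ φ hφ).symm ?_
  rw [GorScheme.gor_quotient_iff (R := R) _
    (IsLocalRing.map_maximalIdeal_le (h.left.stalkMap u).hom)]
  refine Dual349.gor_congr (Ideal.quotEquivOfEq ?_)
  rw [← GorScheme.map_maximalIdeal (A := ↥(V.left.presheaf.stalk (h.left u))) (R := R'), Ideal.map_map,
    Ideal.map_map, hφ]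

end Groth.Agent.AlgSpC7.GorSp
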