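import Groth.Agent.EtQCoh.CartanEt
import Groth.Agent.EtQCoh.PushAss
import Groth.Agent.SitePullUnit.DerivedClass
import Groth.Agent.EtFound.IntegralProps
import Groth.Agent.EtFound.IntegralSplit

/-!
# Direct images along integral morphisms of algebraic spaces are exact
-/

set_option backward.isDefEq.respectTransparency false
set_option backward.isDefEq.respectTransparency.types false
set_option linter.style.haveILetI false
set_option maxHeartbeats 800000

noncomputable section

universe u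

open CategoryTheory CategoryTheory.Limits AlgebraicGeometry Opposite AlgSp

namespace Groth.Agent.AlgSpC7.IntegralPush

open Groth.Agent.AlgSpQ4.MV Groth.Agent.AlgSpDec Groth.Agent.EtQCoh

variable {S : Scheme.{u}} {X Y : Sp S} {f : X ⟶ Y} (hf : Representable f)

theorem isAffineMor_of_integral (hint : IsIntegralMor f) : IsAffineMor f := fun Z hZ g => by
  obtain ⟨W, i, fst, h, hW, -⟩ := hint hZ g
  exact ⟨W, i, fst, h, hW⟩

theorem isIntegralHom_bcπ (hint : IsIntegralMor f) (E : EtOver Y) [IsAffine E.obj.left.left] :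
    IsIntegralHom (EtOver.bcπ hf E).left := by
  obtain ⟨W, i, fst, hpb, hW, hi⟩ := hint (Z := E.obj.left) inferInstance E.obj.hom
  let e := (yon S).preimageIso ((hf.isPullback E.obj.hom).isoIsPullback _ _ hpb)
  have h : e.hom ≫ i = EtOver.bcπ hf E := (yon S).map_injective (by
    rw [Functor.map_comp, Functor.preimageIso_hom, Functor.map_preimage]
    exact IsPullback.isoIsPullback_hom_snd _ _ _ _)
  rw [← h, Over.comp_left]
  have : IsIntegralHom i.left := hi
  infer_instance

/-- An etale scheme over an object as an object. -/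
def mkOver (E : EtOver Y) {V : Scheme.{u}} (v : V ⟶ E.obj.left.left) [Etale v] : EtOver Y :=
  EtOver.mk ((yon S).map (Over.homMk v rfl : Over.mk (v ≫ E.obj.left.hom) ⟶ E.obj.left) ≫ E.obj.hom)
    (AlgSpLib.repWith_comp ((repWith_yon_map_iff _ _).2 (show Etale v from inferInstance)) E.property)

/-- The structure morphism of `mkOver`. -/
def mkOverι (E : EtOver Y) {V : Scheme.{u}} (v : V ⟶ E.obj.left.left) [Etale v] : mkOver E v ⟶ E :=
  EtOver.homMk (Over.homMk v rfl) rfl

theorem exists_hom_of_scheme {A B C : EtOver X} (b : B ⟶ C) (a : A ⟶ C)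
    (l : A.obj.left.left ⟶ B.obj.left.left) (h : l ≫ b.hom.left.left = a.hom.left.left) :
    ∃ L : A ⟶ B, L ≫ b = a := by
  let l₀ : A.obj.left ⟶ B.obj.left := Over.homMk l (by
    rw [← Over.w b.hom.left, reassoc_of% h, Over.w a.hom.left])
  have hl : l₀ ≫ b.hom.left = a.hom.left := Over.OverMorphism.ext h
  refine ⟨EtOver.homMk l₀ ?_, EtOver.hom_ext _ _ hl⟩
  rw [← EtOver.w b, ← Category.assoc, ← Functor.map_comp, hl, EtOver.w a]

theorem ab_ext (G : AbEt X) {W : EtOver X} {ι : Type u} (Z : ι → EtOver X) (g : ∀ i, Z i ⟶ W)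
    (hc : ∀ x : ↥W.obj.left.left, ∃ i, x ∈ Set.range (g i).hom.left.left) {s t : ↥(G.obj.obj (op W))}
    (h : ∀ i, (G.obj.map (g i).op).hom s = (G.obj.map (g i).op).hom t) : s = t := by
  have hsh : Presieve.IsSheaf (etTop X) (G.obj ⋙ CategoryTheory.forget AddCommGrpCat.{u + 1}) :=
    (isSheaf_iff_isSheaf_of_type _ _).1
      ((Presheaf.isSheaf_iff_isSheaf_forget _ _ (CategoryTheory.forget AddCommGrpCat)).1 G.2)
  have hs := (Presieve.isSheafFor_iff_generate (Presieve.ofArrows Z g)).2 (hsh _ (AlgSp.ofArrows_mem_etTop Z g hc))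
  refine hs.isSeparatedFor.ext fun V f hf => ?_
  cases hf with
  | mk i => exact h i

theorem ab_glue (G : AbEt X) {W : EtOver X} {ι : Type u} (Z : ι → EtOver X) (g : ∀ i, Z i ⟶ W)
    (hc : ∀ x : ↥W.obj.left.left, ∃ i, x ∈ Set.range (g i).hom.left.left) (s : ∀ i, ↥(G.obj.obj (op (Z i))))
    (h : ∀ (i j : ι) (T : EtOver X) (a : T ⟶ Z i) (b : T ⟶ Z j), a ≫ g i = b ≫ g j →
      (G.obj.map a.op).hom (s i) = (G.obj.map b.op).hom (s j)) :
    ∃ z : ↥(G.obj.obj (op W)), ∀ i, (G.obj.map (g i).op).hom z = s i := by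
  have hsh : Presieve.IsSheaf (etTop X) (G.obj ⋙ CategoryTheory.forget AddCommGrpCat.{u + 1}) :=
    (isSheaf_iff_isSheaf_of_type _ _).1
      ((Presheaf.isSheaf_iff_isSheaf_forget _ _ (CategoryTheory.forget AddCommGrpCat)).1 G.2)
  have hs := (Presieve.isSheafFor_iff_generate (Presieve.ofArrows Z g)).2 (hsh _ (AlgSp.ofArrows_mem_etTop Z g hc))
  obtain ⟨z, hz, -⟩ := (Presieve.isSheafFor_arrows_iff _ _).1 hs s fun i j T a b e => h i j T a b e
  exact ⟨z, hz⟩

theorem ab_eq_of_isEmpty (G : AbEt X) {W : EtOver X} [IsEmpty ↥W.obj.left.left] (s t : ↥(G.obj.obj (op W))) : s = t :=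
  ab_ext G (fun i : PEmpty.{u + 1} => W) (fun i => i.elim) (fun x => isEmptyElim x) fun i => i.elim

theorem etOpenι_mono' (E : EtOver X) (O : E.obj.left.left.Opens) {T : EtOver X} {a b : T ⟶ etOpen E O}
    (h : a ≫ etOpenι E O = b ≫ etOpenι E O) : a = b :=
  EtOver.hom_ext _ _ (Over.OverMorphism.ext ((cancel_mono O.ι).1 (congrArg (fun k => k.hom.left.left) h)))

/-- A section over the base change lifts locally on the base. -/
theorem exists_local_lift (hint : IsIntegralMor f) {F G : AbEt X} (φ : F ⟶ G) [Epi φ] (E : EtOver Y)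
    [IsAffine E.obj.left.left] (z : ↥(G.obj.obj (op ((EtOver.bc hf).obj E)))) (y : ↥E.obj.left.left) :
    ∃ (E' : EtOver Y) (e : E' ⟶ E), y ∈ Set.range e.hom.left.left ∧
      ∃ t : ↥(F.obj.obj (op ((EtOver.bc hf).obj E'))),
        (φ.hom.app (op ((EtOver.bc hf).obj E'))).hom t = (G.obj.map ((EtOver.bc hf).map e).op).hom z := by
  have := isIntegralHom_bcπ hf hint E
  have : IsAffine ((EtOver.bc hf).obj E).obj.left.left := isAffine_bc hf (isAffineMor_of_integral hint) E
  have hloc : Presheaf.IsLocallySurjective (etTop X) φ.hom :=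
    (Sheaf.isLocallySurjective_iff_epi' AddCommGrpCat.{u + 1} φ).2 inferInstance
  obtain ⟨κ, -, Z, -, g, hm, hc⟩ :=
    exists_finite_affine_cover (T := (EtOver.bc hf).obj E) _ (hloc.imageSieve_mem (U := (EtOver.bc hf).obj E) z)
  choose t ht using hm
  let Zs : κ → Scheme.{u} := fun i => (Z i).obj.left.left
  let gs : ∀ i, Zs i ⟶ (EtOver.bcObj hf E).obj.left.left := fun i => (g i).hom.left.left
  have : ∀ i, Etale (gs i) := fun i => EtOver.etale_left (g i)
  have : Etale (Sigma.desc gs) := Groth.Agent.EtFound.etale_sigmaDesc gs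
  obtain ⟨V, v, hv, hy, h, hh⟩ := Groth.Agent.EtFound.exists_split' (EtOver.bcπ hf E).left (Sigma.desc gs) y
    (fun x _ => by
      obtain ⟨i, p, hp⟩ := hc x
      exact ⟨(Sigma.ι Zs i).base p, by rw [← Scheme.Hom.comp_apply, Sigma.ι_desc]; exact hp⟩)
  let e : mkOver E v ⟶ E := mkOverι E v
  let T' := (EtOver.bc hf).obj (mkOver E v)
  let k : T'.obj.left.left ⟶ pullback (EtOver.bcπ hf E).left v :=
    pullback.lift (EtOver.bcMap hf e).hom.left.left (EtOver.bcπ hf (mkOver E v)).left
      (congrArg (fun m => m.left) (EtOver.bcMap_snd hf e))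
  let W : κ → T'.obj.left.left.Opens := fun i => (k ≫ h) ⁻¹ᵁ (Sigma.ι Zs i).opensRange
  have hW : ∀ x, ∃ i, x ∈ W i := fun x => by
    obtain ⟨i, a, ha⟩ := (sigmaOpenCover Zs).exists_eq ((k ≫ h).base x)
    exact ⟨i, a, ha⟩
  have hl : ∀ i, ∃ L : etOpen T' (W i) ⟶ Z i, L ≫ g i = etOpenι T' (W i) ≫ (EtOver.bc hf).map e := fun i => by
    have hle : Set.range ((W i).ι ≫ k ≫ h).base ⊆ Set.range (Sigma.ι Zs i).base := by
      rintro _ ⟨a, rfl⟩
      exact a.2
    refine exists_hom_of_scheme (g i) _ (IsOpenImmersion.lift (Sigma.ι Zs i) ((W i).ι ≫ k ≫ h) hle) ?_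
    have h2 := congrArg (· ≫ Sigma.desc gs) (IsOpenImmersion.lift_fac (Sigma.ι Zs i) _ hle)
    simp only [Category.assoc, Sigma.ι_desc, hh] at h2
    refine h2.trans ?_
    show (W i).ι ≫ k ≫ pullback.fst _ _ = (W i).ι ≫ (EtOver.bcMap hf e).hom.left.left
    rw [pullback.lift_fst]
  choose L hL using hl
  have hcov : ∀ x : ↥T'.obj.left.left, ∃ i, x ∈ Set.range (etOpenι T' (W i)).hom.left.left := fun x => by
    obtain ⟨i, hi⟩ := hW x
    exact ⟨i, (range_etOpenι T' (W i)).ge hi⟩
  obtain ⟨s, hs⟩ := ab_glue F (fun i => etOpen T' (W i)) (fun i => etOpenι T' (W i)) hcov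
    (fun i => (F.obj.map (L i).op).hom (t i)) (fun i j T a b hab => by
      by_cases hij : i = j
      · subst hij
        rw [etOpenι_mono' _ _ hab]
      · have : IsEmpty ↥T.obj.left.left := ⟨fun p => by
          have hp : ((etOpenι T' (W i)).hom.left.left (a.hom.left.left p) : ↥T'.obj.left.left) =
              (etOpenι T' (W j)).hom.left.left (b.hom.left.left p) :=
            congrArg (fun m => m.hom.left.left p) hab
          have hi : (etOpenι T' (W i)).hom.left.left (a.hom.left.left p) ∈ W i :=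
            (range_etOpenι T' (W i)).le ⟨_, rfl⟩
          have hj : (etOpenι T' (W j)).hom.left.left (b.hom.left.left p) ∈ W j :=
            (range_etOpenι T' (W j)).le ⟨_, rfl⟩
          have hd := disjoint_opensRange_sigmaι Zs i j hij
          rw [disjoint_iff] at hd
          exact (hd.le (show _ ∈ (Sigma.ι Zs i).opensRange ⊓ (Sigma.ι Zs j).opensRange from ⟨hi, hp ▸ hj⟩)).elim⟩
        exact ab_eq_of_isEmpty F _ _)
  refine ⟨mkOver E v, e, hy, s, ab_ext G (fun i => etOpen T' (W i)) (fun i => etOpenι T' (W i)) hcov fun i => ?_⟩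
  rw [← NatTrans.naturality_apply φ.hom (etOpenι T' (W i)).op s, hs, NatTrans.naturality_apply φ.hom (L i).op (t i),
    ht i, ← ConcreteCategory.comp_apply, ← ConcreteCategory.comp_apply, ← Functor.map_comp, ← Functor.map_comp,
    ← op_comp, ← op_comp, hL]

/-- Direct image along an integral morphism preserves epimorphisms. -/
theorem epi_pushEt_map (hint : IsIntegralMor f) {F G : AbEt X} (φ : F ⟶ G) [Epi φ] :
    Epi ((pushEt hf AddCommGrpCat.{u + 1}).map φ) := by
  refine (Sheaf.isLocallySurjective_iff_epi' AddCommGrpCat.{u + 1} ((pushEt hf AddCommGrpCat.{u + 1}).map φ)).1 ?_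
  refine ⟨fun {U} z => ?_⟩
  have hop : ∀ x : ↥U.obj.left.left, ∃ (W : EtOver Y) (w : W ⟶ U), x ∈ Set.range w.hom.left.left ∧
      Presheaf.imageSieve ((pushEt hf AddCommGrpCat.{u + 1}).map φ).hom z w := fun x => by
    obtain ⟨O, hO, hxO, -⟩ := exists_isAffineOpen_mem_and_subset (U := (⊤ : U.obj.left.left.Opens)) (x := x) trivial
    have : IsAffine (etOpen U O).obj.left.left := hO
    obtain ⟨E', e, ⟨p, hp⟩, t, ht⟩ := exists_local_lift hf hint φ (etOpen U O)
      ((G.obj.map ((EtOver.bc hf).map (etOpenι U O)).op).hom z) ⟨x, hxO⟩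
    refine ⟨E', e ≫ etOpenι U O, ⟨p, (congrArg (etOpenι U O).hom.left.left hp).trans rfl⟩, t, ?_⟩
    refine ht.trans ?_
    show _ = (G.obj.map ((EtOver.bc hf).map (e ≫ etOpenι U O)).op).hom z
    rw [Functor.map_comp, op_comp, Functor.map_comp]
    rfl
  choose W w hx hw using hop
  refine (etTop Y).superset_covering ?_ (AlgSp.ofArrows_mem_etTop W w fun x => ⟨x, hx x⟩)
  rintro V g ⟨_, a, b, hb, rfl⟩
  obtain ⟨x⟩ := hb
  exact Sieve.downward_closed _ (hw x) a

theorem preservesFiniteColimits_pushEt (hint : IsIntegralMor f) :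
    PreservesFiniteColimits (pushEt hf AddCommGrpCat.{u + 1}) := by
  have hl : PreservesFiniteLimits (pushEt hf AddCommGrpCat.{u + 1}) := inferInstance
  rw [Functor.preservesFiniteColimits_iff_forall_exact_map_and_epi]
  intro Q hQ
  have := hQ.epi_g
  refine ⟨?_, epi_pushEt_map hf hint Q.g⟩
  exact (((Functor.preservesFiniteLimits_tfae (pushEt hf AddCommGrpCat.{u + 1})).out 3 0 rfl rfl).1 hl Q hQ).1

theorem isZero_RpushEt (hint : IsIntegralMor f) (G : AbEt X) (q : ℕ) : IsZero ((RpushEt hf (q + 1)).obj G) :=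
  Groth.Agent.SitePullUnit.isZero_rightDerived_of_class (pushEt hf AddCommGrpCat.{u + 1}) (fun _ => True)
    (fun _ _ _ _ => trivial)
    (fun Q hQ _ _ => by
      have := hQ.epi_g
      exact epi_pushEt_map hf hint Q.g)
    (X := G) trivial q

end Groth.Agent.AlgSpC7.IntegralPush
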