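import Groth.Prelude.Def_AlgSpMor6
import Groth.Agent.AlgSpLib.LocP
import Groth.Agent.KRegLib.Descend
import Groth.Agent.KRegLib.Pres
import Groth.Agent.KRegLib.BaseChange
import Groth.Agent.S9699

/-!
# Local complete intersection morphisms of algebraic spaces: charts
-/

set_option autoImplicit false
set_option backward.isDefEq.respectTransparency false
set_option backward.isDefEq.respectTransparency.types false

universe u

open CategoryTheory CategoryTheory.Limits AlgebraicGeometry Opposite AlgSp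

namespace Groth.Agent.AlgSpC7

open Groth.Agent.AlgSpLib

theorem lci_iff {X Y : Scheme.{u}} (f : X ⟶ Y) : lci f ↔ KRegLib.IsLCI' f := KRegLib.forall_isKoszulAt_iff f

theorem lci_of_smooth {X Y : Scheme.{u}} (f : X ⟶ Y) [Smooth f] : lci f := by
  rw [lci_iff, KRegLib.isLCI'_iff]
  intro U V hU hV e
  letI : Algebra Γ(Y, V) Γ(X, U) := (f.appLE V U e).hom.toAlgebra
  haveI : Algebra.Smooth Γ(Y, V) Γ(X, U) := f.smooth_appLE hV hU e
  exact KRegLib.isLCI_of_smooth

theorem lci_comp {X Y Z : Scheme.{u}} {f : X ⟶ Y} {g : Y ⟶ Z} (hf : lci f) (hg : lci g) : lci (f ≫ g) :=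
  (lci_iff _).2 (MorphismProperty.comp_mem _ f g ((lci_iff f).1 hf) ((lci_iff g).1 hg))

theorem lci_cancel_smooth {X Y Z : Scheme.{u}} {f : X ⟶ Y} {g : Y ⟶ Z} [Smooth g] (h : lci (f ≫ g)) : lci f :=
  fun x => KRegLib.isKoszulAt_of_comp_smooth f g h x

theorem lci_of_precomp {X' X Y : Scheme.{u}} (g : X' ⟶ X) [Smooth g] [Surjective g] {f : X ⟶ Y}
    (h : lci (g ≫ f)) : lci f :=
  fun x => KRegLib.isKoszulAt_of_syntomic_precomp g (Groth.Agent.S9699.result g) f h x

theorem lci_of_isPullback {X Y X' Y' : Scheme.{u}} {f : X ⟶ Y} {g : Y' ⟶ Y} [Flat g] {f' : X' ⟶ Y'}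
    {g' : X' ⟶ X} (sq : IsPullback g' f' f g) (hf : lci f) : lci f' :=
  (lci_iff f').2 (KRegLib.isLCI'_of_isPullback sq ((lci_iff f).1 hf))

theorem lci_of_regImm {X Y : Scheme.{u}} (i : X ⟶ Y) (h : RegImm.IsRegularImmersion .koszul i) : lci i := by
  intro x
  haveI := h.1
  haveI : IsIso (⊤ : X.Opens).ι := by rw [← Scheme.topIso_hom]; infer_instance
  refine ⟨⊤, Y, (⊤ : X.Opens).ι ≫ i, 𝟙 Y, trivial, inferInstance, ⟨inferInstance, fun z => ?_⟩, inferInstance,
    Category.comp_id _⟩
  obtain ⟨U, hU, hci, rs, hrs, hker⟩ := h.2 ((⊤ : X.Opens).ι z)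
  refine ⟨U, hU, ?_, rs, hrs, ?_⟩
  · rw [morphismRestrict_comp]
    exact MorphismProperty.comp_mem @IsClosedImmersion _ _ inferInstance hci
  · rw [Scheme.Hom.comp_app, CommRingCat.hom_comp,
      RingHom.ker_comp_of_injective _ (ConcreteCategory.bijective_of_isIso (C := CommRingCat) _).1, hker]

instance lci_respectsIso : (lci : MorphismProperty Scheme.{u}).RespectsIso :=
  MorphismProperty.RespectsIso.mk _
    (fun e f hf => by
      haveI : Smooth e.hom := inferInstance
      exact lci_comp (lci_of_smooth e.hom) hf)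
    (fun e f hf => by
      haveI : Smooth e.hom := inferInstance
      exact lci_comp hf (lci_of_smooth e.hom))

variable {S : Scheme.{u}} {F G : Sp S}

/-- One chart diagram with surjective source chart determines being lci. -/
theorem isLCIMor_of_chart {f : F ⟶ G} {U V : Over S} {a : (yon S).obj U ⟶ F}
    {b : (yon S).obj V ⟶ G} {h : U ⟶ V} (ha : RepWith @Etale a) (ha' : RepWith @Surjective a)
    (hb : RepWith @Etale b) (w : a ≫ f = (yon S).map h ≫ b) (hP : lci h.left) : IsLCIMor f := by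
  intro U' V' a' b' h' ha₁ hb₁ w'
  let p : ha.rep.pullback a' ⟶ U' := ha.rep.snd a'
  let q : ha.rep.pullback a' ⟶ U := ha.rep.fst' a'
  have hp : Etale p.left := ha.property_snd a'
  have hp' : Surjective p.left := ha'.2 a' _ _ (ha.rep.isPullback a')
  have hq : Etale q.left := ha₁.property a _ _ (ha.rep.isPullback' a').flip
  have hw : (yon S).map (p ≫ h') ≫ b' = (yon S).map (q ≫ h) ≫ b := by
    simp only [Functor.map_comp, Category.assoc, ← w, ← w']
    rw [← Category.assoc, ← Category.assoc]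
    congr 1
    exact (ha.rep.w a').symm.trans (by rw [Functor.relativelyRepresentable.map_fst'])
  let k : ha.rep.pullback a' ⟶ hb.rep.pullback b' :=
    hb.rep.lift' (q ≫ h) (p ≫ h') hw.symm
  have hk : lci k.left := by
    have he : Etale (hb.rep.fst' b').left := hb₁.property b _ _ (hb.rep.isPullback' b').flip
    refine lci_cancel_smooth (g := (hb.rep.fst' b').left) ?_
    rw [← Over.comp_left, Functor.relativelyRepresentable.lift'_fst, Over.comp_left]
    exact lci_comp (lci_of_smooth _) hP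
  haveI := hp'
  refine lci_of_precomp p.left ?_
  rw [← Over.comp_left, ← hb.rep.lift'_snd (q ≫ h) (p ≫ h') hw.symm, Over.comp_left]
  haveI : Etale (hb.rep.snd b').left := hb.property_snd b'
  exact lci_comp hk (lci_of_smooth _)

/-- Koszul-regular immersions are lci. -/
theorem isLCIMor_of_regImm {X Y : Space S} (i : X ⟶ Y) (hi : IsRegImmMor RegImm.Kind.koszul i.hom) :
    IsLCIMor i.hom := by
  obtain ⟨V, b, hb, hb'⟩ := Y.property.atlas
  obtain ⟨W, fst, snd, sq⟩ : ∃ (W : Over S) (fst : (yon S).obj W ⟶ X.obj) (snd : W ⟶ V),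
      IsPullback fst ((yon S).map snd) i.hom b := ⟨_, _, _, hi.1.isPullback b⟩
  exact isLCIMor_of_chart (repWith_of_isPullback sq.flip hb) (repWith_of_isPullback sq.flip hb') hb sq.w
    (lci_of_regImm _ (hi.2 b fst snd hb sq))

/-- Cancellation of a smooth morphism. -/
theorem isLCIMor_of_comp_smooth {X Y Z : Space S} (f : X ⟶ Y) (p : X ⟶ Z) (q : Y ⟶ Z) (hc : f ≫ q = p)
    (hq : LocP @Smooth q.hom) (hp : IsLCIMor p.hom) : IsLCIMor f.hom := by
  obtain ⟨V, W, b, c, k, hb, hb', hc₁, -, hk⟩ := exists_chart Y.property Z.property q.hom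
  obtain ⟨U, a₀, h, h1, h2, h3⟩ := exists_chart_over X.property Y.property f.hom b
  have ha : RepWith @Etale (a₀ ≫ pullback.fst f.hom b) := repWith_comp h1 (repWith_fst f.hom hb)
  have w : (a₀ ≫ pullback.fst f.hom b) ≫ f.hom = (yon S).map h ≫ b := by
    rw [Category.assoc, pullback.condition, ← Category.assoc, h3]
  refine isLCIMor_of_chart ha (repWith_comp h2 (repWith_fst f.hom hb')) hb w ?_
  have hs : Smooth k.left := hq b c k hb hc₁ hk
  refine lci_cancel_smooth (g := k.left) ?_
  have := hp (a₀ ≫ pullback.fst f.hom b) c (h ≫ k) ha hc₁ (by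
    rw [← hc, ObjectProperty.FullSubcategory.comp_hom, ← Category.assoc, w, Category.assoc, hk,
      Functor.map_comp, Category.assoc])
  exact this

end Groth.Agent.AlgSpC7
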