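import Groth.Agent.AlgSpC7.LciCharts
import Groth.Agent.AlgSpC7.RegImmLocal
import Groth.Agent.S8656

/-!
# An lci immersion into a smooth space is Koszul regular
-/

set_option autoImplicit false
set_option backward.isDefEq.respectTransparency false
set_option backward.isDefEq.respectTransparency.types false

universe u

open CategoryTheory CategoryTheory.Limits AlgebraicGeometry Opposite AlgSp

namespace Groth.Agent.AlgSpC7

open Groth.Agent.AlgSpLib

variable {S : Scheme.{u}}

theorem koszulRegular_of_lci_into_smooth {X Y P U : Space S} (f : X ⟶ Y) (g : P ⟶ Y) (e : U ⟶ X) (i : U ⟶ P)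
    (hc : i ≫ g = e ≫ f) (hf : IsLCIMor f.hom) (hg : LocP @Smooth g.hom)
    (he : IsEtaleMor e.hom) (hi : RepWith @IsImmersion i.hom) :
    IsRegImmMor RegImm.Kind.koszul i.hom := by
  refine ⟨hi.rep, fun V W b fst snd hb sq => ?_⟩
  obtain ⟨T, c, hc₁, hc₂⟩ := Y.property.atlas
  let v : hc₁.rep.pullback (b ≫ g.hom) ⟶ V := hc₁.rep.snd (b ≫ g.hom)
  let t : hc₁.rep.pullback (b ≫ g.hom) ⟶ T := hc₁.rep.fst' (b ≫ g.hom)
  have hve : Etale v.left := hc₁.property_snd _
  have hvs : Surjective v.left := hc₂.property _ _ _ (hc₁.rep.isPullback _)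
  have htw : (yon S).map t ≫ c = ((yon S).map v ≫ b) ≫ g.hom := by
    rw [Category.assoc]
    exact (hc₁.rep.isPullback' _).w
  have hts : Smooth t.left := hg ((yon S).map v ≫ b) c t
    (repWith_comp ((repWith_yon_map_iff _ v).2 hve) hb) hc₁ htw.symm
  have s := IsPullback.of_hasPullback snd v
  have hsnd : IsImmersion snd.left := hi.2 b fst snd sq
  have hfst : RepWith @Etale fst := repWith_of_isPullback sq.flip hb
  haveI hm : IsImmersion (pullback.snd snd v).left :=
    MorphismProperty.of_isPullback (P := @IsImmersion) (s.map (Over.forget S)) hsnd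
  have hq : Etale (pullback.fst snd v).left :=
    MorphismProperty.of_isPullback (P := @Etale) (s.map (Over.forget S)).flip hve
  have hw : ((yon S).map (pullback.fst snd v) ≫ fst) ≫ e.hom ≫ f.hom =
      (yon S).map (pullback.snd snd v ≫ t) ≫ c := by
    rw [← ObjectProperty.FullSubcategory.comp_hom, ← hc, ObjectProperty.FullSubcategory.comp_hom, Functor.map_comp,
      Category.assoc (((yon S).map _)) ((yon S).map t) c, htw, Category.assoc, sq.w_assoc, ← Category.assoc,
      ← Functor.map_comp, s.w, Functor.map_comp, Category.assoc, Category.assoc]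
  have hl := hf _ c (pullback.snd snd v ≫ t) (he _ (repWith_comp ((repWith_yon_map_iff _ _).2 hq) hfst)) hc₁
    (by simpa only [Category.assoc] using hw)
  have hk : RegImm.IsRegularImmersion .koszul (pullback.snd snd v).left :=
    S8656.result (pullback.snd snd v ≫ t).left hl t.left (pullback.snd snd v).left rfl
  exact koszulKind.descend_fppf snd.left v.left _ _ (s.map (Over.forget S)) hk

end Groth.Agent.AlgSpC7
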