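import Groth.Prelude.Def_AlgSpCov
import Groth.Agent.AlgSpC7.LciCharts
import Groth.Agent.AlgSpLib.Covers
import Groth.Agent.KRegLib.FpqcDescent

/-!
# Being lci is fpqc local on the base
-/

set_option autoImplicit false
set_option backward.isDefEq.respectTransparency false
set_option backward.isDefEq.respectTransparency.types false

universe u

open CategoryTheory CategoryTheory.Limits AlgebraicGeometry Opposite AlgSp

namespace Groth.Agent.AlgSpC7

open Groth.Agent.AlgSpLib

variable {S : Scheme.{u}}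

theorem isLCIMor_of_isPullback {X Y X' Y' : Sp S} (hX : IsAlgSpace X) (hY : IsAlgSpace Y) (hY' : IsAlgSpace Y')
    {f : X ⟶ Y} {g : Y' ⟶ Y} {q : X' ⟶ X} {p : X' ⟶ Y'} (sq : IsPullback q p f g) (hg : LocP @Flat g)
    (hf : IsLCIMor f) : IsLCIMor p := by
  obtain ⟨V, b, hb, hb'⟩ := hY.atlas
  obtain ⟨U, a₀, h, h1, h2, h3⟩ := exists_chart_over hX hY f b
  obtain ⟨W, c₀, h₁, hc1, hc2, hc3⟩ := exists_chart_over hY' hY g b
  let c := c₀ ≫ pullback.fst g b
  have hcE : RepWith @Etale c := repWith_comp hc1 (repWith_fst g hb)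
  have hcS : RepWith @Surjective c := repWith_comp hc2 (repWith_fst g hb')
  have hc : c ≫ g = (yon S).map h₁ ≫ b := by
    rw [Category.assoc, pullback.condition, ← Category.assoc, hc3]
  haveI : Flat h₁.left := hg c b h₁ hcE hb hc
  have haE : RepWith @Etale (a₀ ≫ pullback.fst f b) := repWith_comp h1 (repWith_fst f hb)
  have haS : RepWith @Surjective (a₀ ≫ pullback.fst f b) := repWith_comp h2 (repWith_fst f hb')
  let a := a₀ ≫ pullback.fst f b
  have hw : a ≫ f = (yon S).map h ≫ b := by rw [Category.assoc, pullback.condition, ← Category.assoc, h3]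
  have s := IsPullback.of_hasPullback h h₁
  let T := pullback h h₁
  let d : (yon S).obj T ⟶ X' := sq.lift ((yon S).map (pullback.fst h h₁) ≫ a) ((yon S).map (pullback.snd h h₁) ≫ c) (by
    rw [Category.assoc, hw, ← Category.assoc, ← Functor.map_comp, s.w, Functor.map_comp, Category.assoc, ← hc]
    simp only [Category.assoc])
  obtain ⟨dE, dS⟩ : RepWith @Etale d ∧ RepWith @Surjective d := by
    let Q := pullback f (c ≫ g)
    let n : Q ⟶ pullback f b := pullback.lift (pullback.fst _ _) (pullback.snd _ _ ≫ (yon S).map h₁)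
      (pullback.condition.trans ((congrArg (pullback.snd f (c ≫ g) ≫ ·) hc).trans (Category.assoc _ _ _).symm))
    have sn : IsPullback n (pullback.snd f (c ≫ g)) (pullback.snd f b) ((yon S).map h₁) := by
      refine IsPullback.of_right ?_ (pullback.lift_snd _ _ _) (IsPullback.of_hasPullback f b)
      rw [pullback.lift_fst, ← hc]
      exact IsPullback.of_hasPullback f (c ≫ g)
    let m : Q ⟶ X' := sq.lift (pullback.fst _ _) (pullback.snd _ _ ≫ c)
      (pullback.condition.trans (Category.assoc _ _ _).symm)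
    have sm : IsPullback m (pullback.snd f (c ≫ g)) p c := by
      refine IsPullback.of_right ?_ (sq.lift_snd _ _ _) sq
      rw [IsPullback.lift_fst]
      exact IsPullback.of_hasPullback f (c ≫ g)
    let k : (yon S).obj T ⟶ Q := sn.lift ((yon S).map (pullback.fst h h₁) ≫ a₀) ((yon S).map (pullback.snd h h₁))
      (by rw [Category.assoc, h3, ← Functor.map_comp, ← Functor.map_comp, s.w])
    have sk : IsPullback ((yon S).map (pullback.fst h h₁)) k a₀ n := by
      refine IsPullback.of_bot ?_ (IsPullback.lift_fst _ _ _ _).symm sn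
      rw [IsPullback.lift_snd, h3]
      exact s.map (yon S)
    have hd : k ≫ m = d := by
      apply sq.hom_ext
      · rw [Category.assoc, IsPullback.lift_fst, IsPullback.lift_fst,
          show pullback.fst f (c ≫ g) = n ≫ pullback.fst f b from (pullback.lift_fst _ _ _).symm, ← Category.assoc,
          IsPullback.lift_fst, Category.assoc]
      · rw [Category.assoc, IsPullback.lift_snd, IsPullback.lift_snd, ← Category.assoc, IsPullback.lift_snd]
    exact ⟨hd ▸ repWith_comp (repWith_of_isPullback sk h1) (repWith_of_isPullback sm.flip hcE),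
      hd ▸ repWith_comp (repWith_of_isPullback sk h2) (repWith_of_isPullback sm.flip hcS)⟩
  exact isLCIMor_of_chart dE dS hcE (IsPullback.lift_snd _ _ _ _)
    (lci_of_isPullback (g := h₁.left) (s.map (Over.forget S)) (hf a b h haE hb hw))

theorem isLocalOnBase_fpqc_lci : IsLocalOnBase (IsFpqcCover (S := S)) IsLCIMor := by
  intro ι Y Yi g hY hYi hg X f hX Xi p q hXi sq
  refine ⟨fun hf i => isLCIMor_of_isPullback hX hY (hYi i) (sq i) (hg.1 i) hf, fun hp => ?_⟩
  obtain ⟨U, V, a, b, h, ha, ha', hb, -, w⟩ := exists_chart hX hY f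
  refine isLCIMor_of_chart ha ha' hb w ?_
  rw [lci_iff, IsZariskiLocalAtTarget.iff_of_iSup_eq_top (P := KRegLib.IsLCI'.{u}) _ (iSup_affineOpens_eq_top V.left)]
  intro Z
  haveI : IsAffine (Z.1 : Scheme.{u}) := Z.2
  let Z₀ : Over S := Over.mk (Z.1.ι ≫ V.hom)
  haveI : IsAffine Z₀.left := Z.2
  let ιZ : Z₀ ⟶ V := Over.homMk Z.1.ι rfl
  let bZ : (yon S).obj Z₀ ⟶ Y := (yon S).map ιZ ≫ b
  have hbZ : RepWith @Etale bZ :=
    repWith_comp ((repWith_yon_map_iff _ ιZ).2 (inferInstanceAs (Etale Z.1.ι))) hb
  choose R r v hr hr' hv using fun i => exists_chart_over (hYi i) hY (g i) bZ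
  let ρ : ∀ i, (yon S).obj (R i) ⟶ Yi i := fun i => r i ≫ pullback.fst (g i) bZ
  have hρ : ∀ i, RepWith @Etale (ρ i) := fun i => repWith_comp (hr i) (repWith_fst (g i) hbZ)
  have hρg : ∀ i, ρ i ≫ g i = (yon S).map (v i) ≫ bZ := fun i => by
    rw [Category.assoc, pullback.condition, ← Category.assoc, hv i]
  have hvf : ∀ i, Flat (v i).left := fun i => hg.1 i (ρ i) bZ (v i) (hρ i) hbZ (hρg i)
  obtain ⟨m, W, c, hW, -, hsurj, hl⟩ := hg.2 Z₀ Z.2 bZ
  choose idx l hl using hl
  have hfin : ∀ j : Fin m, ∃ (n : ℕ) (T : Fin n → Over S) (k : ∀ e, T e ⟶ R (idx j)),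
      (∀ e, IsAffine (T e).left) ∧ (∀ e, IsOpenImmersion (k e).left) ∧
        ∀ y : (W j).left, ∃ e, (c j).left y ∈ Set.range (k e ≫ v (idx j)).left := by
    intro j
    haveI := hW j
    let l' : (yon S).obj (W j) ⟶ pullback (g (idx j)) bZ := pullback.lift (l j) ((yon S).map (c j)) (hl j)
    let rs := (hr (idx j)).rep.snd l'
    let ss := (hr (idx j)).rep.fst' l'
    have hrs : Etale rs.left := (hr (idx j)).property_snd l'
    have hrS : Surjective rs.left := (hr' (idx j)).property _ _ _ ((hr (idx j)).rep.isPullback l')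
    have hcomm : ss ≫ v (idx j) = rs ≫ c j := by
      apply (yon S).map_injective
      rw [Functor.map_comp, Functor.map_comp, ← hv (idx j), ← Category.assoc, Functor.relativelyRepresentable.map_fst',
        (hr (idx j)).rep.w l', Category.assoc, pullback.lift_snd]
    obtain ⟨t, ht⟩ := (isCompact_univ (X := (W j).left)).elim_finite_subcover
      (fun A : (R (idx j)).left.affineOpens => rs.left '' (ss.left ⁻¹' (A.1 : Set (R (idx j)).left)))
      (fun A => rs.left.isOpenMap _ (A.1.2.preimage ss.left.continuous)) (fun y _ => by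
        obtain ⟨x, rfl⟩ := hrS.surj y
        obtain ⟨A, hA, hx, -⟩ := exists_isAffineOpen_mem_and_subset (U := ⊤) (x := ss.left x) trivial
        exact Set.mem_iUnion.2 ⟨⟨A, hA⟩, x, hx, rfl⟩)
    let e := t.equivFin.symm
    refine ⟨t.card, fun s => Over.mk ((e s).1.1.ι ≫ (R (idx j)).hom), fun s => Over.homMk (e s).1.1.ι rfl,
      fun s => (e s).1.2, fun s => inferInstanceAs (IsOpenImmersion (e s).1.1.ι), fun y => ?_⟩
    obtain ⟨A, hA, x, hx, rfl⟩ := Set.mem_iUnion₂.1 (ht (Set.mem_univ y))
    obtain ⟨s, hs⟩ := e.surjective ⟨A, hA⟩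
    have hs' : (e s).1 = A := congrArg Subtype.val hs
    subst hs'
    refine ⟨s, ⟨ss.left x, hx⟩, ?_⟩
    have := congrArg (fun φ : (hr (idx j)).rep.pullback l' ⟶ Z₀ => φ.left x) hcomm
    simpa [Over.comp_left, Scheme.Hom.comp_apply] using this
  choose n T k hT hk hcov using hfin
  let Tt : (Σ j : Fin m, Fin (n j)) → Over S := fun s => T s.1 s.2
  let ct : ∀ s, Tt s ⟶ Z₀ := fun s => k s.1 s.2 ≫ v (idx s.1)
  have hcov1 : ∀ s, KRegLib.IsLCI' (pullback.snd h.left ((ct s).left ≫ Z.1.ι)) := by
    intro s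
    obtain ⟨ψ, hψ⟩ : ∃ ψ : Tt s ⟶ V, ψ = ct s ≫ ιZ := ⟨_, rfl⟩
    have sp := IsPullback.of_hasPullback h ψ
    let b' : (yon S).obj (Tt s) ⟶ Yi (idx s.1) := (yon S).map (k s.1 s.2) ≫ ρ (idx s.1)
    have hb' : RepWith @Etale b' := repWith_comp ((repWith_yon_map_iff _ _).2
      (show Etale (k s.1 s.2).left from have := hk s.1 s.2; inferInstance)) (hρ _)
    have hb'g : b' ≫ g (idx s.1) = (yon S).map ψ ≫ b := by
      rw [Category.assoc, hρg, hψ]
      simp only [ct, bZ, Functor.map_comp, Category.assoc]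
    let a' : (yon S).obj (pullback h ψ) ⟶ Xi (idx s.1) :=
      (sq (idx s.1)).lift ((yon S).map (pullback.fst h ψ) ≫ a)
        ((yon S).map (pullback.snd h ψ) ≫ b') (by
          rw [Category.assoc, w, ← Category.assoc, ← Functor.map_comp, sp.w, Category.assoc, hb'g, ← Category.assoc,
            ← Functor.map_comp])
    have ha' : RepWith @Etale a' := by
      let n₁ : pullback f ((yon S).map ψ ≫ b) ⟶ pullback f b :=
        pullback.lift (pullback.fst _ _) (pullback.snd _ _ ≫ (yon S).map ψ)
          (by rw [pullback.condition, Category.assoc])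
      have sn : IsPullback n₁ (pullback.snd f _) (pullback.snd f b) ((yon S).map ψ) := by
        refine IsPullback.of_right ?_ (pullback.lift_snd _ _ _) (IsPullback.of_hasPullback f b)
        rw [pullback.lift_fst]
        exact IsPullback.of_hasPullback f _
      let au : (yon S).obj U ⟶ pullback f b := pullback.lift a ((yon S).map h) w
      have hau : RepWith @Etale au := by
        refine repWith_etale_of_comp au (pullback.fst f b) ?_ (repWith_fst f hb)
        rw [pullback.lift_fst]
        exact ha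
      let k₁ : (yon S).obj (pullback h ψ) ⟶ pullback f ((yon S).map ψ ≫ b) :=
        sn.lift ((yon S).map (pullback.fst h ψ) ≫ au) ((yon S).map (pullback.snd h ψ)) (by
          rw [Category.assoc, pullback.lift_snd, ← Functor.map_comp, ← Functor.map_comp, sp.w])
      have st : IsPullback ((yon S).map (pullback.fst h ψ)) k₁ au n₁ := by
        refine IsPullback.of_bot ?_ (IsPullback.lift_fst _ _ _ _).symm sn
        rw [IsPullback.lift_snd, pullback.lift_snd]
        exact sp.map (yon S)
      let m₁ : pullback f ((yon S).map ψ ≫ b) ⟶ Xi (idx s.1) :=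
        (sq (idx s.1)).lift (pullback.fst _ _) (pullback.snd _ _ ≫ b')
          (by rw [pullback.condition, Category.assoc, hb'g])
      have sm : IsPullback m₁ (pullback.snd f _) (p (idx s.1)) b' := by
        refine IsPullback.of_right ?_ ((sq (idx s.1)).lift_snd _ _ _) (sq (idx s.1))
        rw [IsPullback.lift_fst, hb'g]
        exact IsPullback.of_hasPullback f _
      have : k₁ ≫ m₁ = a' := by
        apply (sq (idx s.1)).hom_ext
        · rw [Category.assoc, IsPullback.lift_fst, IsPullback.lift_fst,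
            show pullback.fst f ((yon S).map ψ ≫ b) = n₁ ≫ pullback.fst f b from
              (pullback.lift_fst _ _ _).symm, ← Category.assoc, IsPullback.lift_fst, Category.assoc, pullback.lift_fst]
        · rw [Category.assoc, IsPullback.lift_snd, IsPullback.lift_snd, ← Category.assoc, IsPullback.lift_snd]
      exact this ▸ repWith_comp (repWith_of_isPullback st hau) (repWith_of_isPullback sm.flip hb')
    have h1 := hp (idx s.1) a' b' (pullback.snd h ψ) ha' hb' (IsPullback.lift_snd _ _ _ _)
    have e : IsPullback (pullback.fst h ψ).left (pullback.snd h ψ).left h.left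
        ((ct s).left ≫ Z.1.ι) := by
      rw [show (ct s).left ≫ Z.1.ι = ψ.left by rw [hψ]; rfl]
      exact sp.map (Over.forget S)
    rw [lci_iff, ← e.isoPullback_hom_snd] at h1
    exact ((KRegLib.IsLCI'.{u}).cancel_left_of_respectsIso e.isoPullback.hom _).1 h1
  let C : (∐ fun s => (Tt s).left) ⟶ Z.1 := Sigma.desc fun s => (ct s).left
  have : Surjective C := ⟨fun z => by
    obtain ⟨j, y, hy⟩ := hsurj z
    obtain ⟨e, x, hx⟩ := hcov j y
    refine ⟨Sigma.ι (fun s => (Tt s).left) ⟨j, e⟩ x, ?_⟩
    rw [← Scheme.Hom.comp_apply, Sigma.ι_desc]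
    exact hx.trans hy⟩
  have : Flat C := by
    rw [IsZariskiLocalAtSource.iff_of_openCover (P := @Flat) (sigmaOpenCover _)]
    intro s
    rw [sigmaOpenCover_f, Sigma.ι_desc]
    have := hk s.1 s.2
    have := hvf (idx s.1)
    exact inferInstanceAs (Flat ((k s.1 s.2).left ≫ (v (idx s.1)).left))
  have : ∀ s, IsAffine (Tt s).left := fun s => hT s.1 s.2
  have hsq := isPullback_morphismRestrict h.left Z.1
  refine KRegLib.isLCI'_of_fpqc (IsPullback.of_hasPullback (h.left ∣_ Z.1) C) ?_
  rw [IsZariskiLocalAtTarget.iff_of_openCover (P := KRegLib.IsLCI'.{u}) (sigmaOpenCover _)]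
  intro s
  have h2 := hcov1 s
  have s1 := ((IsPullback.of_hasPullback (pullback.snd (h.left ∣_ Z.1) C)
      ((sigmaOpenCover fun s => (Tt s).left).f s)).paste_horiz
    (IsPullback.of_hasPullback (h.left ∣_ Z.1) C)).paste_horiz hsq.flip
  rw [show (sigmaOpenCover fun s => (Tt s).left).f s ≫ C = (ct s).left by
    rw [sigmaOpenCover_f, Sigma.ι_desc]] at s1
  refine ((KRegLib.IsLCI'.{u}).cancel_left_of_respectsIso s1.isoPullback.inv _).1 ?_
  rw [Scheme.Cover.pullbackHom, s1.isoPullback_inv_snd]
  exact h2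

end Groth.Agent.AlgSpC7
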