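import Groth.Agent.AlgSpC7.FibreDimSp
import Groth.Agent.AlgSpOne.QfCodim
import Groth.Agent.AlgSpOne.ElemNbhd
import Groth.Agent.AlgSpDec.LqfScheme
import Groth.Agent.AlgSpDec.AffineRep
import Groth.Agent.AlgSpDec.AffineProps
import Groth.Agent.AlgSpDec.MonoRep
import Groth.Agent.MorLib.ElemEtaleMulti
import Groth.Agent.GrpdSplit.Nbhd

/-!
# Etale splitting at finitely many quasi-finite points

Over an etale neighbourhood of the base the base change of a separated morphism locally of finite type has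
an open and closed piece which is finite and contains exactly the prescribed points over the chosen point.
-/

set_option backward.isDefEq.respectTransparency false
set_option backward.isDefEq.respectTransparency.types false
set_option autoImplicit false
set_option linter.style.haveILetI false

universe u

open CategoryTheory CategoryTheory.Limits AlgebraicGeometry AlgSp Groth.Agent.AlgSpLib Groth.Agent.AlgSpPts
  Groth.Agent.AlgSpDec

namespace Groth.Agent.AlgSpC7.QfSplit

open FibreDimSp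

variable {S : Scheme.{u}}

theorem isQfAt_iff_rdim {F G : Sp S} {f : F ⟶ G} (hF : IsAlgSpace F) (hG : IsAlgSpace G)
    (hf : LocP @LocallyOfFiniteType f) (x : Points F) : AlgSpOne.IsQfAt f x ↔ rdim f x = 0 := by
  obtain ⟨U, V, a, b, h, ha, ha', hb, -, w⟩ := exists_chart hF hG f
  obtain ⟨u, rfl⟩ := surjective_ofPt ha' x
  rw [AlgSpOne.isQfAt_iff_chart hf ha hb w, rdim_ofPt hf ha hb w]

theorem injective_ofPt_openImm {F : Sp S} {Q : Over S} {j : (yon S).obj Q ⟶ F}
    (hj : RepWith @IsOpenImmersion j) : Function.Injective (Points.ofPt j) := by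
  intro x y h
  have hinj := injective_map (repWith_mono (fun X Y g (hg : IsOpenImmersion g) =>
    g.isOpenEmbedding.injective) _ hj)
  refine (Points.schemeHomeo Q).injective (hinj ?_)
  show Points.map j (Points.ofPt (𝟙 _) x) = Points.map j (Points.ofPt (𝟙 _) y)
  simpa [Points.map_ofPt] using h

/-- The quasi-finite locus over a scheme is a scheme. -/
theorem exists_qf_scheme {X : Sp S} {T : Over S} {q : X ⟶ (yon S).obj T} (hX : IsAlgSpace X)
    (hq : LocP @LocallyOfFiniteType q) (hsep : IsSeparatedMor q) :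
    ∃ (Q : Over S) (j : (yon S).obj Q ⟶ X) (ρ : Q ⟶ T), RepWith @IsOpenImmersion j ∧
      (yon S).map ρ = j ≫ q ∧ LocallyOfFiniteType ρ.left ∧ LocallyQuasiFinite ρ.left ∧ IsSeparated ρ.left ∧
      ∀ x, x ∈ Set.range (Points.ofPt j) ↔ rdim q x = 0 := by
  have hT : IsAlgSpace ((yon S).obj T) := IsAlgSpace.yon_obj _
  have hW : IsOpen {x : Points X | rdim q x = 0} := by
    convert AlgSpDec.RelDimSp.isOpen_le hq 0 using 1
    ext x
    simp only [Set.mem_ofPred_eq]
    rw [hasAtMor_iff_rdim hX hT hq (fun e => e ≤ ((0 : ℕ) : WithBot ℕ∞)) x]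
    obtain ⟨n, hn⟩ := rdim_finite hX hT hq x
    simp [hn]
  obtain ⟨W, jW, hW', hj, hrange⟩ := exists_open_subspace hX hW
  have : Mono jW := mono_of_openImmersion hj
  have hje : RepWith @Etale jW := repWith_mono (fun _ _ g (hg : IsOpenImmersion g) => inferInstanceAs (Etale g)) _ hj
  have hqW : LocP (@LocallyQuasiFinite ⊓ @LocallyOfFiniteType) (jW ≫ q) := by
    intro U V a b h ha hb w
    have ha₂ : RepWith @Etale (a ≫ jW) := repWith_comp ha hje
    have w₂ : (a ≫ jW) ≫ q = (yon S).map h ≫ b := by rw [Category.assoc, w]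
    haveI : LocallyOfFiniteType h.left := hq (a ≫ jW) b h ha₂ hb w₂
    refine ⟨(lqf_iff_fibreDimAt h.left).2 fun u => ?_, inferInstance⟩
    rw [← rdim_ofPt hq ha₂ hb w₂ u]
    exact hrange.subset ⟨Points.ofPt a u, Points.map_ofPt a jW u⟩
  have hsW : IsSeparatedMor (jW ≫ q) := isSeparatedMor_comp (isSeparatedMor_of_mono jW) hsep
  obtain ⟨Q, ⟨e⟩⟩ := exists_iso_of_lqf_separated hW' (jW ≫ q) hqW hsW
  obtain ⟨ρ, hρ⟩ := (yon S).map_surjective (e.hom ≫ jW ≫ q)
  have hee : RepWith @Etale e.hom := repWith_of_isIso _ _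
  obtain ⟨h1, h2⟩ := hqW e.hom (𝟙 _) ρ hee (repWith_id _ T) (by rw [Category.comp_id, hρ])
  refine ⟨Q, e.hom ≫ jW, ρ, repWith_comp (repWith_of_isIso _ _) hj, by rw [hρ, Category.assoc], h2, h1, ?_, ?_⟩
  · rw [← isSeparatedMor_yon_map_iff, hρ]
    exact isSeparatedMor_comp (isSeparatedMor_of_mono e.hom) hsW
  · intro x
    refine ⟨?_, fun hx => ?_⟩
    · rintro ⟨z, rfl⟩
      exact hrange.subset ⟨Points.ofPt e.hom z, Points.map_ofPt e.hom jW z⟩
    · obtain ⟨z, rfl⟩ := hrange.symm.subset hx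
      obtain ⟨t, ht⟩ := (Points.schemeHomeo Q).surjective (Points.map e.inv z)
      refine ⟨t, ?_⟩
      have : Points.map (e.hom ≫ jW) (Points.schemeHomeo Q t) = Points.map jW z := by
        rw [ht, ← Points.map_comp, Iso.inv_hom_id_assoc]
      rw [← this]
      show _ = Points.map (e.hom ≫ jW) (Points.ofPt (𝟙 _) t)
      rw [Points.map_ofPt, Category.id_comp]

set_option maxHeartbeats 1000000 in
/-- Etale splitting over a scheme at finitely many quasi-finite points over one point. -/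
theorem exists_splitting {X : Sp S} {T : Over S} {q : X ⟶ (yon S).obj T} (hX : IsAlgSpace X)
    (hq : LocP @LocallyOfFiniteType q) (hsep : IsSeparatedMor q) (v : T.left) (zs : Set (Points X))
    (hfin : zs.Finite) (hzs : ∀ z ∈ zs, Points.map q z = Points.ofPt (𝟙 _) v ∧ rdim q z = 0) :
    ∃ (U : Over S) (g : U ⟶ T) (u : U.left), Etale g.left ∧ g.left u = v ∧
      ∀ ⦃P : Sp S⦄ (pX : P ⟶ X) (pU : P ⟶ (yon S).obj U), IsPullback pX pU q ((yon S).map g) →
        ∃ (V : Over S) (j : (yon S).obj V ⟶ P), RepWith @IsOpenImmersion j ∧ RepWith @IsClosedImmersion j ∧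
          IsFiniteMor (j ≫ pU) ∧
          (∀ z ∈ zs, ∃ t, Points.ofPt (j ≫ pX) t = z ∧ Points.ofPt (j ≫ pU) t = Points.ofPt (𝟙 _) u) ∧
          (∀ t, Points.ofPt (j ≫ pU) t = Points.ofPt (𝟙 _) u → Points.ofPt (j ≫ pX) t ∈ zs) ∧
          ∀ p, p ∉ Set.range (Points.map j) → Points.map pU p = Points.ofPt (𝟙 _) u → Points.map pX p ∉ zs := by
  obtain ⟨Q, jQ, ρ, hjQ, hρ, hρl, hρq, hρs, hmem⟩ := exists_qf_scheme hX hq hsep
  obtain ⟨n, e, -, he⟩ := hfin.fin_param
  choose x hx using fun i => (hmem (e i)).2 (hzs _ (he ▸ ⟨i, rfl⟩)).2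
  have hxv : ∀ i, ρ.left (x i) = v := fun i => by
    apply (Points.schemeHomeo T).injective
    show Points.ofPt (𝟙 _) (ρ.left (x i)) = Points.ofPt (𝟙 _) v
    rw [← ofPt_comp, Category.comp_id, hρ, ← Points.map_ofPt, hx, (hzs _ (he ▸ ⟨i, rfl⟩)).1]
  obtain ⟨U₀, g₀, u, hu, V, vv, hV⟩ := MorLib.EEF.exists_elem_nbhd_multi ρ.left v x hxv
    fun i => ρ.left.quasiFiniteAt (x i)
  let U : Over S := Over.mk (g₀ ≫ T.hom)
  let g : U ⟶ T := Over.homMk g₀ rfl
  let PQ : Over S := Over.mk (pullback.fst ρ.left g₀ ≫ Q.hom)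
  let a : PQ ⟶ Q := Over.homMk (pullback.fst ρ.left g₀) rfl
  let b : PQ ⟶ U := Over.homMk (pullback.snd ρ.left g₀) (by
    show pullback.snd ρ.left g₀ ≫ g₀ ≫ T.hom = pullback.fst ρ.left g₀ ≫ Q.hom
    rw [← pullback.condition_assoc, Over.w ρ])
  have sq₀ : IsPullback a b ρ g :=
    IsPullback.of_map_of_faithful (Over.forget S) (IsPullback.of_hasPullback ρ.left g₀)
  refine ⟨U, g, u, hu.etale, hu.base_eq, fun P pX pU sq => ?_⟩
  have sqy := sq₀.map (yon S)
  rw [hρ] at sqy
  let m : (yon S).obj PQ ⟶ P := sq.lift ((yon S).map a ≫ jQ) ((yon S).map b) (by rw [Category.assoc]; exact sqy.w)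
  have hm₁ : m ≫ pX = (yon S).map a ≫ jQ := sq.lift_fst ..
  have hm₂ : m ≫ pU = (yon S).map b := sq.lift_snd ..
  have sqm : IsPullback ((yon S).map a) m jQ pX :=
    IsPullback.of_bot (by rw [hm₂]; exact sqy) hm₁.symm sq
  have hm : RepWith @IsOpenImmersion m := repWith_of_isPullback sqm hjQ
  haveI : IsSeparated (pullback.snd ρ.left g₀) := inferInstance
  haveI : LocallyOfFiniteType (pullback.snd ρ.left g₀) := inferInstance
  let V' : (pullback ρ.left g₀).Opens := ⨆ i, V i
  have hV'f : IsFinite (V'.ι ≫ pullback.snd ρ.left g₀) :=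
    GrpdSplit.isFinite_iSup_ι _ V fun i => (hV i).2.1
  let VO : Over S := openOver PQ V'
  let ι : VO ⟶ PQ := openOverι PQ V'
  let j : (yon S).obj VO ⟶ P := (yon S).map ι ≫ m
  have hjo : RepWith @IsOpenImmersion j :=
    repWith_comp ((repWith_yon_map_iff _ ι).2 (inferInstanceAs (IsOpenImmersion V'.ι))) hm
  have hjU : RepWith @IsFinite (j ≫ pU) := by
    rw [Category.assoc, hm₂, ← Functor.map_comp]
    exact (repWith_yon_map_iff _ _).2 hV'f
  have hsepU : IsSeparatedMor pU := isSeparatedMor_of_isPullback sq hsep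
  have hjf : RepWith @IsFinite j := AlgSpDec.repWith_of_postcomp
    (repWith_mono (fun _ _ e (_ : IsClosedImmersion e) => inferInstanceAs (IsFinite e)) _ hsepU) hjU
  have hjc : RepWith @IsClosedImmersion j := by
    refine ⟨hjo.rep, fun A B g' fst snd sq' => ?_⟩
    haveI : IsOpenImmersion snd.left := hjo.property g' fst snd sq'
    haveI : IsFinite snd.left := hjf.property g' fst snd sq'
    show IsClosedImmersion snd.left
    exact .of_isPreimmersion snd.left snd.left.isClosedMap.isClosed_range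
  have hofa : ∀ t, Points.ofPt m t ∈ Set.range (Points.map j) ↔ t ∈ V' := by
    intro t
    constructor
    · rintro ⟨z, hz⟩
      obtain ⟨t', rfl⟩ := (Points.schemeHomeo VO).surjective z
      replace hz : Points.map j (Points.ofPt (𝟙 _) t') = Points.ofPt m t := hz
      rw [Points.map_ofPt, Category.id_comp, ofPt_comp] at hz
      rw [← injective_ofPt_openImm hm hz]
      exact t'.2
    · intro ht
      refine ⟨Points.ofPt (𝟙 _) ⟨t, ht⟩, ?_⟩
      rw [Points.map_ofPt, Category.id_comp, ofPt_comp]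
      rfl
  have hinjU : Function.Injective (Points.ofPt (𝟙 ((yon S).obj U))) := (Points.schemeHomeo U).injective
  have hb : ∀ t, Points.map pU (Points.ofPt m t) = Points.ofPt (𝟙 _) u ↔ b.left t = u := by
    intro t
    rw [Points.map_ofPt, hm₂, ← Category.comp_id ((yon S).map b), ofPt_comp]
    exact ⟨fun h => hinjU h, fun h => congrArg _ h⟩
  have ha : ∀ t, Points.map pX (Points.ofPt m t) = Points.ofPt jQ (a.left t) := by
    intro t
    rw [Points.map_ofPt, hm₁, ofPt_comp]
  refine ⟨VO, j, hjo, hjc, AlgSpDec.isFiniteMor_iff_repWith.2 hjU, ?_, ?_, ?_⟩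
  · intro z hz
    obtain ⟨i, rfl⟩ : z ∈ Set.range e := he.symm ▸ hz
    obtain ⟨hvi, -, hvu, -, hvx, -⟩ := hV i
    refine ⟨⟨vv i, TopologicalSpace.Opens.mem_iSup.2 ⟨i, hvi⟩⟩, ?_, ?_⟩
    · rw [Category.assoc, ofPt_comp, ← Points.map_ofPt]
      exact (ha (vv i)).trans ((congrArg _ hvx).trans (hx i))
    · rw [Category.assoc, ofPt_comp, ← Points.map_ofPt]
      exact (hb (vv i)).2 hvu
  · intro t ht
    rw [Category.assoc, ofPt_comp, ← Points.map_ofPt] at ht ⊢
    obtain ⟨i, hi⟩ := TopologicalSpace.Opens.mem_iSup.1 (show t.1 ∈ V' from t.2)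
    obtain ⟨-, -, -, huniq, hvx, -⟩ := hV i
    have h1 : t.1 = vv i := huniq _ hi ((hb _).1 ht)
    rw [show ι.left t = vv i from h1, ha, show a.left (vv i) = x i from hvx, hx]
    exact he ▸ ⟨i, rfl⟩
  · intro p hp hpu hpz
    obtain ⟨i, hi⟩ : Points.map pX p ∈ Set.range e := he.symm ▸ hpz
    have : p ∈ Set.range (Points.map m) := by
      rw [range_map_snd_of_isPullback sqm]
      exact ⟨Points.ofPt (𝟙 _) (x i), by rw [Points.map_ofPt, Category.id_comp, hx, hi]⟩
    obtain ⟨z, rfl⟩ := this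
    obtain ⟨t, rfl⟩ := (Points.schemeHomeo PQ).surjective z
    have e1 : Points.map m (Points.schemeHomeo PQ t) = Points.ofPt m t := by
      show Points.map m (Points.ofPt (𝟙 _) t) = _
      rw [Points.map_ofPt, Category.id_comp]
    rw [e1] at hp hpu hi
    obtain ⟨hvi, -, hvu, -, hvx, -⟩ := hV i
    have htx : a.left t = x i := injective_ofPt_openImm hjQ ((ha t).symm.trans (hi.symm.trans (hx i).symm))
    obtain ⟨z₀, -, -, -, huniq⟩ := MorLib.EEF.exists_unique_point (IsPullback.of_hasPullback ρ.left g₀)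
      (x i) u ((hxv i).trans hu.base_eq.symm) hu.residue_bijective
    have : t = vv i := (huniq t htx ((hb t).1 hpu)).trans (huniq (vv i) hvx hvu).symm
    exact hp ((hofa t).2 (TopologicalSpace.Opens.mem_iSup.2 ⟨i, this ▸ hvi⟩))

variable {X Y : Sp S} {f : X ⟶ Y}

/-- The finitely many points over a point of an affine chart at which a qc morphism is quasi-finite. -/
theorem finite_qf_fibre_of_qc {T : Over S} [IsAffine T.left] {q : X ⟶ (yon S).obj T}
    (hq : LocP @LocallyOfFiniteType q) (hX : IsQuasiCompactSp X) (v : T.left) :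
    {z : Points X | Points.map q z = Points.ofPt (𝟙 _) v ∧ rdim q z = 0}.Finite := by
  obtain ⟨A, a, ha, ha', hA⟩ := hX
  haveI : CompactSpace ↥A.left := hA
  obtain ⟨h, hh⟩ := (yon S).map_surjective (a ≫ q)
  have w : a ≫ q = (yon S).map h ≫ 𝟙 _ := by rw [Category.comp_id, hh]
  haveI : LocallyOfFiniteType h.left := hq a _ h ha (repWith_id _ _) w
  haveI : QuasiCompact h.left := (quasiCompact_iff_compactSpace h.left).2 hA
  refine ((AlgSpDec.FieldFibre.finite_qf_points h.left v).image (Points.ofPt a)).subset ?_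
  rintro z ⟨hz, hz0⟩
  obtain ⟨t, rfl⟩ := surjective_ofPt ha' z
  refine ⟨t, ⟨(Points.schemeHomeo T).injective ?_, ?_⟩, rfl⟩
  · show Points.ofPt (𝟙 _) (h.left t) = Points.ofPt (𝟙 _) v
    rw [← ofPt_comp, ← w, ← Points.map_ofPt]
    exact hz
  · rwa [← rdim_ofPt hq ha (repWith_id _ _) w]

/-- Over a point of an elementary neighbourhood the projection is injective on points. -/
theorem injOn_fst_of_mono {T : Over S} {b : (yon S).obj T ⟶ Y} (v : T.left)
    [hm : Mono (FieldPt.ofPt b v).toHom] {X' : Sp S} {pr : X' ⟶ X} {q : X' ⟶ (yon S).obj T}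
    (sq : IsPullback pr q f b) :
    Set.InjOn (Points.map pr) {z | Points.map q z = Points.ofPt (𝟙 _) v} := by
  intro z₁ h₁ z₂ h₂ he
  let κ : Over.mk (T.left.fromSpecResidueField v ≫ T.hom) ⟶ T := Over.homMk (T.left.fromSpecResidueField v) rfl
  haveI : Mono ((yon S).map κ ≫ b) := by
    rw [← FieldPt.toHom_ofPt b v]; exact hm
  have sqv := IsPullback.of_hasPullback q ((yon S).map κ)
  have sqX := sqv.paste_horiz sq
  haveI : Mono (pullback.fst q ((yon S).map κ) ≫ pr) := sqX.mono_fst_of_mono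
  let c : ↥(Over.mk (T.left.fromSpecResidueField v ≫ T.hom)).left := IsLocalRing.closedPoint _
  have hc : Points.map ((yon S).map κ) (Points.ofPt (𝟙 _) c) = Points.ofPt (𝟙 _) v := by
    rw [Points.map_ofPt, Category.id_comp, ← Category.comp_id ((yon S).map κ), ofPt_comp]
    exact congrArg _ (Scheme.fromSpecResidueField_apply _ c)
  obtain ⟨w₁, hw₁, -⟩ := exists_point_of_isPullback sqv (h₁.trans hc.symm)
  obtain ⟨w₂, hw₂, -⟩ := exists_point_of_isPullback sqv (h₂.trans hc.symm)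
  obtain ⟨w, hw, hw'⟩ := exists_point_of_isPullback
    (IsKernelPair.id_of_mono (pullback.fst q ((yon S).map κ) ≫ pr)) (x := w₁) (y := w₂)
    (by rw [Points.map_comp, Points.map_comp, hw₁, hw₂, he])
  rw [← hw₁, ← hw₂, ← hw, ← hw']

end Groth.Agent.AlgSpC7.QfSplit

namespace Groth.Agent.AlgSpC7.QfSplit

open FibreDimSp

variable {S : Scheme.{u}} {X Y : Space S}

/-- Etale splitting relative to a chart `b` of the base at a point `v`. -/
theorem exists_splitting_chart (f : X ⟶ Y) (hf : LocP @LocallyOfFiniteType f.hom) (hsep : IsSeparatedMor f.hom)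
    {T : Over S} {b : (yon S).obj T ⟶ Y.obj} (hb : RepWith @Etale b) (v : T.left) {X' : Sp S} {pr : X' ⟶ X.obj}
    {q : X' ⟶ (yon S).obj T} (sq₀ : IsPullback pr q f.hom b) (zs : Set (Points X')) (hfin : zs.Finite)
    (hzs : ∀ z ∈ zs, Points.map q z = Points.ofPt (𝟙 _) v ∧
      AlgSpOne.IsQfAt f.hom (Points.map pr z)) :
    ∃ (U : Space S) (a : U ⟶ Y) (u : Points U.obj), IsEtaleMor a.hom ∧ Points.map a.hom u = Points.ofPt b v ∧
      ∀ (P : Space S) (prX : P ⟶ X) (prU : P ⟶ U), IsPullback prX.hom prU.hom f.hom a.hom →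
        ∃ (V : Space S) (jV : V ⟶ P) (l : P.obj ⟶ X'), RepWith @IsOpenImmersion jV.hom ∧
          RepWith @IsClosedImmersion jV.hom ∧ IsFiniteMor (jV ≫ prU).hom ∧ l ≫ pr = prX.hom ∧
          (∀ z ∈ zs, ∃ w, Points.map (jV ≫ prX).hom w = Points.map pr z ∧ Points.map (jV ≫ prU).hom w = u) ∧
          (∀ w, Points.map (jV ≫ prU).hom w = u → Points.map (jV.hom ≫ l) w ∈ zs) ∧
          ∀ p, p ∉ Set.range (Points.map jV.hom) → Points.map prU.hom p = u →
            Points.map q (Points.map l p) = Points.ofPt (𝟙 _) v ∧ Points.map l p ∉ zs := by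
  have hT : IsAlgSpace ((yon S).obj T) := IsAlgSpace.yon_obj _
  have hX' : IsAlgSpace X' := isAlgSpace_of_isPullback sq₀ X.property hT Y.property
  have hq : LocP @LocallyOfFiniteType q := locP_of_isPullback sq₀ X.property Y.property hT hf
  obtain ⟨U, g, u, hg, hgu, H⟩ := exists_splitting hX' hq (isSeparatedMor_of_isPullback sq₀ hsep) v zs hfin
    fun z hz => ⟨(hzs z hz).1, by
      rw [rdim_baseChange sq₀ X.property Y.property hT hf]
      exact (isQfAt_iff_rdim X.property Y.property hf _).1 (hzs z hz).2⟩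
  let U' : Space S := ⟨(yon S).obj U, IsAlgSpace.yon_obj U⟩
  let a : U' ⟶ Y := ObjectProperty.homMk ((yon S).map g ≫ b)
  refine ⟨U', a, Points.ofPt (𝟙 _) u, isEtaleMor_of_repWith (repWith_comp ((repWith_yon_map_iff _ g).2 hg) hb),
    ?_, fun P prX prU sq => ?_⟩
  · show Points.map ((yon S).map g ≫ b) _ = _
    rw [Points.map_ofPt, Category.id_comp, ofPt_comp, hgu]
  let l : P.obj ⟶ X' := sq₀.lift prX.hom (prU.hom ≫ (yon S).map g) (by rw [Category.assoc]; exact sq.w)
  have hl₁ : l ≫ pr = prX.hom := sq₀.lift_fst ..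
  have sq' : IsPullback l prU.hom q ((yon S).map g) :=
    IsPullback.of_right (by rw [hl₁]; exact sq) (sq₀.lift_snd ..) sq₀
  obtain ⟨V, j, hjo, hjc, hjf, h1, h2, h3⟩ := H l prU.hom sq'
  let V' : Space S := ⟨(yon S).obj V, IsAlgSpace.yon_obj V⟩
  let jV : V' ⟶ P := ObjectProperty.homMk j
  refine ⟨V', jV, l, hjo, hjc, hjf, hl₁, fun z hz => ?_, fun w hw => ?_, fun p hp hpu => ⟨?_, h3 p hp hpu⟩⟩
  · obtain ⟨t, ht₁, ht₂⟩ := h1 z hz
    refine ⟨Points.ofPt (𝟙 _) t, ?_, ?_⟩
    · show Points.map (j ≫ prX.hom) _ = _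
      rw [Points.map_ofPt, Category.id_comp, ← hl₁, ← Category.assoc, ← Points.map_ofPt (j ≫ l) pr, ht₁]
    · show Points.map (j ≫ prU.hom) _ = _
      rw [Points.map_ofPt, Category.id_comp, ht₂]
  · obtain ⟨t, rfl⟩ := (Points.schemeHomeo V).surjective w
    replace hw : Points.map (j ≫ prU.hom) (Points.ofPt (𝟙 _) t) = Points.ofPt (𝟙 _) u := hw
    rw [Points.map_ofPt, Category.id_comp] at hw
    show Points.map (j ≫ l) (Points.ofPt (𝟙 _) t) ∈ zs
    rw [Points.map_ofPt, Category.id_comp]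
    exact h2 t hw
  · rw [← Points.map_comp, sq'.w, Points.map_comp, hpu, Points.map_ofPt, Category.id_comp,
      ← Category.comp_id ((yon S).map g), ofPt_comp, hgu]

/-- Etale splitting at one point. -/
theorem exists_splitting_point (f : X ⟶ Y) (hf : LocP @LocallyOfFiniteType f.hom) (hsep : IsSeparatedMor f.hom)
    (x : Points X.obj) (hx : AlgSpOne.IsQfAt f.hom x) :
    ∃ (U : Space S) (a : U ⟶ Y) (u : Points U.obj), IsEtaleMor a.hom ∧ Points.map a.hom u = Points.map f.hom x ∧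
      ∀ (P : Space S) (prX : P ⟶ X) (prU : P ⟶ U), IsPullback prX.hom prU.hom f.hom a.hom →
        ∃ (V : Space S) (jV : V ⟶ P), RepWith @IsOpenImmersion jV.hom ∧ RepWith @IsClosedImmersion jV.hom ∧
          IsFiniteMor (jV ≫ prU).hom ∧
          ∃ w, Points.map (jV ≫ prX).hom w = x ∧ Points.map (jV ≫ prU).hom w = u := by
  obtain ⟨T, b, v, -, hb, hv⟩ := exists_affine_chart_at Y.property (Points.map f.hom x)
  have sq₀ := IsPullback.of_hasPullback f.hom b
  obtain ⟨z, hz₁, hz₂⟩ := exists_point_of_isPullback sq₀ (x := x) (y := Points.ofPt (𝟙 _) v)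
    (by rw [Points.map_ofPt, Category.id_comp, hv])
  obtain ⟨U, a, u, ha, hu, H⟩ := exists_splitting_chart f hf hsep hb v sq₀ {z} (Set.finite_singleton z)
    (by rintro _ rfl; exact ⟨hz₂, hz₁ ▸ hx⟩)
  refine ⟨U, a, u, ha, hu.trans hv, fun P prX prU sq => ?_⟩
  obtain ⟨V, jV, l, h1, h2, h3, -, h4, -, -⟩ := H P prX prU sq
  obtain ⟨w, hw₁, hw₂⟩ := h4 z rfl
  exact ⟨V, jV, h1, h2, h3, w, hw₁.trans hz₁, hw₂⟩

/-- Etale splitting at a finite set of points of one fibre. -/
theorem exists_splitting_finset (f : X ⟶ Y) (hf : LocP @LocallyOfFiniteType f.hom) (hsep : IsSeparatedMor f.hom)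
    (y : Points Y.obj) (xs : Finset (Points X.obj)) (hxs : ∀ x ∈ xs, Points.map f.hom x = y)
    (hx : ∀ x ∈ xs, AlgSpOne.IsQfAt f.hom x) (h : IsQuasiCompactMor f.hom ∨ IsDecent Y.obj) :
    ∃ (U : Space S) (a : U ⟶ Y) (u : Points U.obj), IsEtaleMor a.hom ∧ Points.map a.hom u = y ∧
      ∀ (P : Space S) (prX : P ⟶ X) (prU : P ⟶ U), IsPullback prX.hom prU.hom f.hom a.hom →
        ∃ (V : Space S) (jV : V ⟶ P), RepWith @IsOpenImmersion jV.hom ∧ RepWith @IsClosedImmersion jV.hom ∧
          IsFiniteMor (jV ≫ prU).hom ∧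
          (∀ w, Points.map (jV ≫ prU).hom w = u → Points.map (jV ≫ prX).hom w ∈ xs) ∧
          ∀ p, p ∉ Set.range (Points.map jV.hom) → Points.map prU.hom p = u → Points.map prX.hom p ∉ xs := by
  suffices h' : ∃ (T : Over S) (b : (yon S).obj T ⟶ Y.obj) (v : T.left), RepWith @Etale b ∧ Points.ofPt b v = y ∧
      {z : Points (pullback f.hom b) | Points.map (pullback.snd f.hom b) z = Points.ofPt (𝟙 _) v ∧
        Points.map (pullback.fst f.hom b) z ∈ xs}.Finite by
    obtain ⟨T, b, v, hb, hv, hfin⟩ := h'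
    obtain ⟨U, a, u, ha, hu, H⟩ := exists_splitting_chart f hf hsep hb v (IsPullback.of_hasPullback f.hom b) _
      hfin (fun z hz => ⟨hz.1, hx _ hz.2⟩)
    refine ⟨U, a, u, ha, hu.trans hv, fun P prX prU sq => ?_⟩
    obtain ⟨V, jV, l, h1, h2, h3, hl, -, h4, h5⟩ := H P prX prU sq
    refine ⟨V, jV, h1, h2, h3, fun w hw => ?_, fun p hp hpu hpx => ?_⟩
    · have := (h4 w hw).2
      rw [← Points.map_comp, Category.assoc, hl] at this
      exact this
    · obtain ⟨e1, e2⟩ := h5 p hp hpu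
      exact e2 ⟨e1, by rw [← Points.map_comp, hl]; exact hpx⟩
  rcases h with hqc | hdec
  · obtain ⟨T, b, v, hT, hb, hv⟩ := exists_affine_chart_at Y.property y
    have hT' : IsAlgSpace ((yon S).obj T) := IsAlgSpace.yon_obj _
    have sq₀ := IsPullback.of_hasPullback f.hom b
    refine ⟨T, b, v, hb, hv, (finite_qf_fibre_of_qc (locP_of_isPullback sq₀ X.property Y.property hT' hf)
      (hqc hT' (isQuasiCompactSp_yon T) b _ _ sq₀) v).subset fun z hz => ⟨hz.1, ?_⟩⟩
    rw [rdim_baseChange sq₀ X.property Y.property hT' hf]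
    exact (isQfAt_iff_rdim X.property Y.property hf _).1 (hx _ hz.2)
  · obtain ⟨T, b, v, -, hb, hv, hm, -⟩ := AlgSpOne.ElemNbhd.exists_elem_nbhd Y.property hdec y
    exact ⟨T, b, v, hb, hv, Set.Finite.of_finite_image
      ((xs.finite_toSet).subset (by rintro _ ⟨z, hz, rfl⟩; exact hz.2))
      ((injOn_fst_of_mono v (hm := hm) (IsPullback.of_hasPullback f.hom b)).mono fun z hz => hz.1)⟩

end Groth.Agent.AlgSpC7.QfSplit
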