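import Groth.Agent.AlgSpC7.RedFibre
import Groth.Agent.FlatMisc.ValuationRed
import Groth.Agent.AlgSpDec.ReducedStalk
import Groth.Agent.AlgSpLib.LocP

/-!
# Reduced special fibres of proper flat algebraic spaces over discrete valuation rings
-/

set_option backward.isDefEq.respectTransparency false
set_option backward.isDefEq.respectTransparency.types false
set_option autoImplicit false
set_option linter.style.haveILetI false

universe u

open CategoryTheory CategoryTheory.Limits AlgebraicGeometry AlgSp Groth.Agent.AlgSpLib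

namespace Groth.Agent.AlgSpC7.RedDvr

/-- The points with reduced local ring of a locally Noetherian scheme form an open set. -/
theorem isOpen_reducedLocus (U : Scheme.{u}) [IsLocallyNoetherian U] :
    IsOpen {x : ↥U | _root_.IsReduced (U.presheaf.stalk x)} := by
  classical
  refine isOpen_iff_forall_mem_open.2 fun x (hx : _root_.IsReduced (U.presheaf.stalk x)) => ?_
  obtain ⟨V, hV, hxV, -⟩ := exists_isAffineOpen_mem_and_subset (x := x) (U := (⊤ : U.Opens)) trivial
  haveI : IsNoetherianRing Γ(U, V) := IsLocallyNoetherian.component_noetherian ⟨V, hV⟩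
  letI := U.presheaf.algebra_section_stalk ⟨x, hxV⟩
  haveI := hV.isLocalization_stalk ⟨x, hxV⟩
  obtain ⟨s, hs⟩ := (IsNoetherian.noetherian (nilradical Γ(U, V)))
  have hkill : ∀ a : Γ(U, V), a ∈ nilradical Γ(U, V) → ∃ t ∈ (hV.primeIdealOf ⟨x, hxV⟩).asIdeal.primeCompl, t * a = 0 := by
    intro a ha
    have h0 : algebraMap Γ(U, V) (U.presheaf.stalk x) a = 0 := ((mem_nilradical.1 ha).map _).eq_zero
    obtain ⟨t, ht⟩ := (IsLocalization.map_eq_zero_iff (hV.primeIdealOf ⟨x, hxV⟩).asIdeal.primeCompl _ a).1 h0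
    exact ⟨t, t.2, ht⟩
  choose! t ht hta using hkill
  have hsub : ∀ a ∈ s, a ∈ nilradical Γ(U, V) := fun a ha => hs ▸ Submodule.subset_span ha
  let T := ∏ a ∈ s, t a
  have hT : T ∈ (hV.primeIdealOf ⟨x, hxV⟩).asIdeal.primeCompl := prod_mem fun a ha => ht a (hsub a ha)
  have hTa : ∀ a ∈ nilradical Γ(U, V), T * a = 0 := fun a ha => by
    rw [← hs] at ha
    induction ha using Submodule.span_induction with
    | mem b hb =>
      obtain ⟨c, hc⟩ := Finset.dvd_prod_of_mem t hb
      show (∏ a ∈ s, t a) * b = 0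
      rw [hc, mul_right_comm, hta b (hsub b hb), zero_mul]
    | zero => exact mul_zero _
    | add b c _ _ hb hc => rw [mul_add, hb, hc, add_zero]
    | smul c b _ hb => rw [smul_eq_mul, mul_left_comm, hb, mul_zero]
  refine ⟨U.basicOpen T, fun y hy => ?_, (U.basicOpen T).2, ?_⟩
  · have hyV : y ∈ V := U.basicOpen_le T hy
    letI := U.presheaf.algebra_section_stalk ⟨y, hyV⟩
    haveI := hV.isLocalization_stalk ⟨y, hyV⟩
    let q := hV.primeIdealOf ⟨y, hyV⟩
    have hTu : IsUnit (algebraMap Γ(U, V) (U.presheaf.stalk y) T) := (U.mem_basicOpen T y hyV).1 hy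
    refine ⟨fun z hz => ?_⟩
    obtain ⟨⟨a, d⟩, rfl⟩ := IsLocalization.mk'_surjective q.asIdeal.primeCompl z
    simp only at hz ⊢
    obtain ⟨k, hk⟩ := hz
    rw [← IsLocalization.mk'_pow, IsLocalization.mk'_eq_zero_iff] at hk
    obtain ⟨v, hv⟩ := hk
    have hva : IsNilpotent ((v : Γ(U, V)) * a) := ⟨k + 1, by
      rw [mul_pow, pow_succ (v : Γ(U, V)), pow_succ a]; linear_combination ((v : Γ(U, V)) ^ k * a) * hv⟩
    have h2 := congrArg (algebraMap Γ(U, V) (U.presheaf.stalk y)) (hTa _ (mem_nilradical.2 hva))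
    rw [map_mul, map_mul, map_zero, hTu.mul_right_eq_zero,
      (IsLocalization.map_units (U.presheaf.stalk y) v).mul_right_eq_zero] at h2
    rw [IsLocalization.mk'_eq_mul_mk'_one, h2, zero_mul]
  · exact (U.mem_basicOpen T x hxV).2 (IsLocalization.map_units (U.presheaf.stalk x) ⟨T, hT⟩)

/-- The fraction field of a discrete valuation ring is the localisation at a uniformiser. -/
theorem isLocalization_away (R : Type u) [CommRing R] [IsDomain R] {ϖ : R} (hϖ : Irreducible ϖ)
    [IsDiscreteValuationRing R] : IsLocalization.Away ϖ (FractionRing R) := by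
  have key : ∀ d : R, d ≠ 0 → ∃ (n : ℕ) (v : Rˣ), d = v * ϖ ^ n := fun d hd =>
    IsDiscreteValuationRing.eq_unit_mul_pow_irreducible hd hϖ
  refine ⟨fun y => ?_, fun z => ?_, fun {a b} h => ⟨1, by rw [IsFractionRing.injective R (FractionRing R) h]⟩⟩
  · obtain ⟨n, hn⟩ := y.2
    refine (IsUnit.mk0 _ fun h => ?_)
    have h' : (y : R) = 0 := IsFractionRing.injective R (FractionRing R) (h.trans (map_zero _).symm)
    exact pow_ne_zero n hϖ.ne_zero (hn.trans h')
  · obtain ⟨⟨a, d⟩, h⟩ := IsLocalization.surj (nonZeroDivisors R) z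
    obtain ⟨n, v, hd⟩ := key d (nonZeroDivisors.ne_zero d.2)
    refine ⟨⟨a * (↑v⁻¹ : R), ⟨ϖ ^ n, n, rfl⟩⟩, ?_⟩
    show z * algebraMap R _ (ϖ ^ n) = algebraMap R _ (a * ↑v⁻¹)
    rw [show ϖ ^ n = (d : R) * ↑v⁻¹ by rw [hd, mul_right_comm, Units.mul_inv, one_mul], map_mul, ← mul_assoc, h, map_mul]

variable {R : Type u} [CommRing R] [IsDomain R] [IsDiscreteValuationRing R]

/-- The fibre over the closed point of a scheme over a local ring is reduced if the base change to the
residue field is. -/
theorem isReduced_fiber_closedPoint {U : Scheme.{u}} (π : U ⟶ Spec (CommRingCat.of R))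
    {U₀ : Scheme.{u}} {p₁ : U₀ ⟶ U} {p₂ : U₀ ⟶ Spec (CommRingCat.of (IsLocalRing.ResidueField R))}
    (sq : IsPullback p₁ p₂ π (Spec.map (CommRingCat.ofHom (IsLocalRing.residue R)))) [IsReduced U₀] :
    IsReduced (π.fiber (IsLocalRing.closedPoint R)) := by
  let j : Spec (CommRingCat.of (IsLocalRing.ResidueField R)) ⟶ Spec (CommRingCat.of R) :=
    Spec.map (CommRingCat.ofHom (IsLocalRing.residue R))
  have hc : j (IsLocalRing.closedPoint (IsLocalRing.ResidueField R)) = IsLocalRing.closedPoint R :=
    IsLocalRing.comap_closedPoint (IsLocalRing.residue R)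
  obtain ⟨d, hd⟩ : ∃ d : Spec (CommRingCat.of (IsLocalRing.ResidueField R)) ⟶
      Spec ((Spec (CommRingCat.of R)).residueField (IsLocalRing.closedPoint R)),
      d ≫ (Spec (CommRingCat.of R)).fromSpecResidueField (IsLocalRing.closedPoint R) = j := by
    rw [← hc]
    exact ⟨_, Scheme.descResidueField_stalkClosedPointTo_fromSpecResidueField _ _ j⟩
  let fst := π.fiberι (IsLocalRing.closedPoint R)
  let snd := π.fiberToSpecResidueField (IsLocalRing.closedPoint R)
  have hF : IsPullback fst snd π ((Spec (CommRingCat.of R)).fromSpecResidueField (IsLocalRing.closedPoint R)) :=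
    IsPullback.of_hasPullback _ _
  let m : U₀ ⟶ π.fiber (IsLocalRing.closedPoint R) := hF.lift p₁ (p₂ ≫ d) (by rw [sq.w, Category.assoc, hd])
  have hm : IsPullback m p₂ snd d := by
    refine IsPullback.of_right ?_ (hF.lift_snd _ _ _) hF
    rw [hF.lift_fst, hd]
    exact sq
  haveI : Flat m := MorphismProperty.of_isPullback hm.flip (RedFibre.flat_of_field d)
  haveI : Surjective m := MorphismProperty.of_isPullback hm.flip (ConnExt.surjective_of_field d)
  exact FBaseLib.isReduced_of_flat_surjective m

theorem reduced_of_proper_flat {X : AlgSp.Space (Spec (CommRingCat.of R))}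
    (s : X.obj ⟶ (yon (Spec (CommRingCat.of R))).obj (Over.mk (𝟙 _))) (hs1 : IsProperMor s) (hs2 : LocP @Flat s)
    (h0 : ∀ (X0 : Sp (Spec (CommRingCat.of R))) (fst : X0 ⟶ X.obj)
      (snd : X0 ⟶ (yon (Spec (CommRingCat.of R))).obj (Over.mk (Spec.map (CommRingCat.ofHom (IsLocalRing.residue R))))),
      IsPullback fst snd s ((yon (Spec (CommRingCat.of R))).map
        (Over.homMk (Spec.map (CommRingCat.ofHom (IsLocalRing.residue R))) (Category.comp_id _) :
          Over.mk (Spec.map (CommRingCat.ofHom (IsLocalRing.residue R))) ⟶ Over.mk (𝟙 _))) →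
      EtaleLocally (fun U => IsReduced U) X0) :
    EtaleLocally (fun U => IsReduced U) X.obj ∧
      ∀ (Xη : Sp (Spec (CommRingCat.of R))) (fst : Xη ⟶ X.obj)
        (snd : Xη ⟶ (yon (Spec (CommRingCat.of R))).obj
          (Over.mk (Spec.map (CommRingCat.ofHom (algebraMap R (FractionRing R)))))),
        IsPullback fst snd s ((yon (Spec (CommRingCat.of R))).map
          (Over.homMk (Spec.map (CommRingCat.ofHom (algebraMap R (FractionRing R)))) (Category.comp_id _) :
            Over.mk (Spec.map (CommRingCat.ofHom (algebraMap R (FractionRing R)))) ⟶ Over.mk (𝟙 _))) →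
        EtaleLocally (fun U => IsReduced U) Xη := by
  obtain ⟨U, a, ha, hs⟩ := X.property.atlas
  obtain ⟨h, hh⟩ := (yon _).map_surjective (a ≫ s)
  have hflat : Flat h.left := hs2 a (𝟙 _) h ha (repWith_of_isIso _ _) (by rw [Category.comp_id, hh])
  have hft : LocallyOfFiniteType h.left := hs1.2.1.1 a (𝟙 _) h ha (repWith_of_isIso _ _) (by rw [Category.comp_id, hh])
  haveI := hflat
  haveI := hft
  haveI : IsLocallyNoetherian (Over.mk (𝟙 (Spec (CommRingCat.of R)))).left :=
    inferInstanceAs (IsLocallyNoetherian (Spec (CommRingCat.of R)))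
  haveI : IsLocallyNoetherian U.left := LocallyOfFiniteType.isLocallyNoetherian h.left
  -- the chart of the special fibre
  let zκ : Over.mk (Spec.map (CommRingCat.ofHom (IsLocalRing.residue R))) ⟶ Over.mk (𝟙 (Spec (CommRingCat.of R))) :=
    Over.homMk (Spec.map (CommRingCat.ofHom (IsLocalRing.residue R))) (Category.comp_id _)
  obtain ⟨W, b, hb, hbs, hW⟩ := h0 _ _ _ (IsPullback.of_hasPullback s ((yon _).map zκ))
  haveI := hW
  have hspec : IsReduced (h.left.fiber (IsLocalRing.closedPoint R)) := by
    let Q := Over.mk (pullback.fst h.left zκ.left ≫ U.hom)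
    let q₁ : Q ⟶ U := Over.homMk (pullback.fst h.left zκ.left) rfl
    let q₂ : Q ⟶ Over.mk (Spec.map (CommRingCat.ofHom (IsLocalRing.residue R))) :=
      Over.homMk (pullback.snd h.left zκ.left) (by
        rw [← Over.w zκ, ← Category.assoc, ← pullback.condition, Category.assoc, Over.w h]; rfl)
    have sqQ : IsPullback ((yon _).map q₁) ((yon _).map q₂) ((yon _).map h) ((yon _).map zκ) :=
      (IsPullback.of_map_of_faithful (Over.forget _) (f := q₁) (g := q₂) (h := h) (i := zκ)
        (IsPullback.of_hasPullback h.left zκ.left)).map (yon _)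
    let l : (yon _).obj Q ⟶ pullback s ((yon _).map zκ) :=
      pullback.lift ((yon _).map q₁ ≫ a) ((yon _).map q₂) (by rw [Category.assoc, ← hh, sqQ.w])
    have sql : IsPullback l ((yon _).map q₁) (pullback.fst s ((yon _).map zκ)) a := by
      refine (IsPullback.of_bot (v₁₁ := l) (h₁₁ := (yon _).map q₁) ?_ (pullback.lift_fst _ _ _).symm
        (IsPullback.of_hasPullback s ((yon _).map zκ))).flip
      rw [pullback.lift_snd, ← hh]
      exact sqQ
    have hl : RepWith @Etale l := repWith_of_isPullback sql.flip ha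
    haveI : IsReduced Q.left := by
      haveI : ∀ w : ↥Q.left, _root_.IsReduced (Q.left.presheaf.stalk w) := fun w => by
        obtain ⟨v, hv⟩ := surjective_ofPt hbs (Points.ofPt l w)
        exact AlgSpDec.isReduced_stalk_of_charts hb hl hv inferInstance
      exact isReduced_of_isReduced_stalk _
    haveI : IsReduced (pullback h.left zκ.left) := ‹IsReduced Q.left›
    exact isReduced_fiber_closedPoint h.left (IsPullback.of_hasPullback h.left zκ.left)
  have hclosed : IsClosedMap (Points.map s) :=
    hs1.2.2 (IsAlgSpace.yon_obj _) (𝟙 _) (𝟙 X.obj) s (IsPullback.of_horiz_isIso ⟨by simp⟩)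
  -- every point has a specialisation in the special fibre, and the reduced locus is open
  have hred : IsReduced U.left := by
    haveI : ∀ u : ↥U.left, _root_.IsReduced (U.left.presheaf.stalk u) := fun u => by
      have hmem : Points.ofPt (𝟙 _) (IsLocalRing.closedPoint R) ∈ Points.map s '' closure {Points.ofPt a u} := by
        refine (Specializes.mem_closed ?_ (hclosed _ isClosed_closure) ⟨_, subset_closure rfl, rfl⟩)
        rw [Points.map_ofPt, ← hh, ← Category.comp_id ((yon _).map h), ofPt_comp]
        exact (IsLocalRing.specializes_closedPoint (R := R) _).map (Points.continuous_ofPt _)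
      obtain ⟨x₀, hx₀, hsx₀⟩ := hmem
      obtain ⟨u₀, rfl⟩ := surjective_ofPt hs x₀
      rw [Points.map_ofPt, ← hh, ← Category.comp_id ((yon _).map h), ofPt_comp] at hsx₀
      have hu₀ := FlatMisc.ValuationRed.isReduced_stalk_of_closed h.left hspec
        ((Points.schemeHomeo _).injective hsx₀)
      obtain ⟨u', hu', he⟩ := (specializes_iff_mem_closure.2 hx₀).mem_open
        (isOpenMap_ofPt ha _ (isOpen_reducedLocus U.left)) ⟨u₀, hu₀, rfl⟩
      exact AlgSpDec.isReduced_stalk_of_charts ha ha he hu'
    exact isReduced_of_isReduced_stalk _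
  refine ⟨⟨U, a, ha, hs, hred⟩, fun Xη fst snd hη => ?_⟩
  obtain ⟨ϖ, hϖ⟩ := IsDiscreteValuationRing.exists_irreducible R
  haveI := isLocalization_away R hϖ
  haveI : IsOpenImmersion (Spec.map (CommRingCat.ofHom (algebraMap R (FractionRing R)))) :=
    IsOpenImmersion.of_isLocalization ϖ
  have hfst : RepWith @IsOpenImmersion fst :=
    repWith_of_isPullback hη.flip ((repWith_yon_map_iff _ _).2 (by
      show IsOpenImmersion (Spec.map (CommRingCat.ofHom (algebraMap R (FractionRing R))))
      infer_instance))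
  have sqV := hfst.rep.isPullback a
  haveI : IsOpenImmersion (hfst.rep.snd a).left := hfst.property_snd a
  exact ⟨hfst.rep.pullback a, hfst.rep.fst a, repWith_of_isPullback sqV.flip ha,
    repWith_of_isPullback sqV.flip hs, isReduced_of_isOpenImmersion (hfst.rep.snd a).left⟩

end Groth.Agent.AlgSpC7.RedDvr
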