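import Groth.Agent.AlgSpC7.ConnExt
import Groth.Agent.AlgSpLib.DescendLocally

/-!
# Reducedness of fibres under field extensions
-/

set_option backward.isDefEq.respectTransparency false
set_option backward.isDefEq.respectTransparency.types false
set_option autoImplicit false
set_option linter.style.haveILetI false

universe u

open CategoryTheory CategoryTheory.Limits AlgebraicGeometry AlgSp Groth.Agent.AlgSpLib

namespace Groth.Agent.AlgSpC7.RedFibre

variable {S : Scheme.{u}}

theorem isAlgSpace_of_isPullback (X Y : AlgSp.Space S) {T : Over S} {P : Sp S} {f : X.obj ⟶ Y.obj}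
    {a : P ⟶ X.obj} {b : P ⟶ (yon S).obj T} {c : (yon S).obj T ⟶ Y.obj} (h : IsPullback a b f c) :
    IsAlgSpace P :=
  (isAlgSpace_pullback X.property (IsAlgSpace.yon_obj T) Y.property f c).of_iso h.isoPullback.symm

variable {k K : Type u} [Field k] [Field K] {sk : Spec (CommRingCat.of k) ⟶ S} {sK : Spec (CommRingCat.of K) ⟶ S}
  {w : Over.mk sK ⟶ Over.mk sk} {P P' : Sp S} {g : P' ⟶ P} {p : P ⟶ (yon S).obj (Over.mk sk)}
  {p' : P' ⟶ (yon S).obj (Over.mk sK)}

theorem flat_of_field (f : Spec (CommRingCat.of K) ⟶ Spec (CommRingCat.of k)) : Flat f := by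
  obtain ⟨φ, rfl⟩ := Spec.map_surjective f
  letI : Algebra k K := φ.hom.toAlgebra
  exact (HasRingHomProperty.Spec_iff (P := @Flat)).2
    (RingHom.flat_algebraMap_iff.2 (inferInstance : Module.Flat k K))

/-- A space over a field is reduced if a base change to a larger field is. -/
theorem etaleLocally_isReduced_of_bc (hP : IsAlgSpace P) (sq : IsPullback g p' p ((yon S).map w))
    (h : EtaleLocally (fun U => IsReduced U) P') : EtaleLocally (fun U => IsReduced U) P :=
  etaleLocally_of_surjective _ @Flat hP g (locP_of_repWith (ConnExt.repWith_g sq @Flat (flat_of_field w.left)))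
    (ConnExt.surjective_field_bc sq)
    (fun _ _ r (_ : Etale r) (_ : IsReduced _) => AlgSpDec.isReduced_of_etaleMor r)
    (fun _ _ v (_ : Flat v) (_ : Surjective v) (_ : IsReduced _) => FBaseLib.isReduced_of_flat_surjective v) h

end Groth.Agent.AlgSpC7.RedFibre
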