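import Groth.Agent.AlgSpC7.RedFibre
import Groth.Agent.S10686
import Groth.Agent.AlgSpDec.ReducedStalk
import Groth.Agent.AlgSpDec.LimDescent
import Groth.Agent.GeomRedFlat5.Open
import Groth.Agent.FlatMisc.GeomRedConstr

/-!
# The locus of geometrically reduced fibres of a morphism of algebraic spaces
-/

set_option backward.isDefEq.respectTransparency false
set_option backward.isDefEq.respectTransparency.types false
set_option autoImplicit false
set_option linter.style.haveILetI false

universe u

open CategoryTheory CategoryTheory.Limits AlgebraicGeometry AlgSp Groth.Agent.AlgSpLib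

namespace Groth.Agent.AlgSpC7.RedLocus

variable {S : Scheme.{u}}

/-- The points over which the fibre is geometrically reduced. -/
def locus {X Y : AlgSp.Space S} (f : X ⟶ Y) : Set (Points Y.obj) :=
  {y | ∀ (k : FieldPt Y.obj), Points.mk k = y →
    ∀ (k' : Type u) [Field k'] (φ : k.K →+* k') (Xk' : Sp S) (a : Xk' ⟶ X.obj)
      (b : Xk' ⟶ (yon S).obj (Over.mk (Spec.map (CommRingCat.ofHom φ) ≫ k.str))),
      IsPullback a b f.hom ((yon S).map (Over.homMk (Spec.map (CommRingCat.ofHom φ)) rfl :
        Over.mk (Spec.map (CommRingCat.ofHom φ) ≫ k.str) ⟶ k.pt) ≫ k.toHom) →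
      EtaleLocally (fun U => IsReduced U) Xk'}

variable {X Y : AlgSp.Space S} (f : X ⟶ Y) {V U : Over S} (b : (yon S).obj V ⟶ Y.obj)
  (a : (yon S).obj U ⟶ pullback f.hom b) (ha : RepWith @Etale a) (has : RepWith @Surjective a) (h : U ⟶ V)
  (hh : a ≫ pullback.snd f.hom b = (yon S).map h)

include ha has hh in
/-- A base change of the space is reduced if and only if that of the chart is. -/
theorem etaleLocally_iff_chart {T : Over S} (t : T ⟶ V) {XT : Sp S} (fstT : XT ⟶ X.obj)
    (sndT : XT ⟶ (yon S).obj T) (sqX : IsPullback fstT sndT f.hom ((yon S).map t ≫ b)) :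
    EtaleLocally (fun U => IsReduced U) XT ↔ IsReduced (pullback h.left t.left) := by
  let Q := Over.mk (pullback.fst h.left t.left ≫ U.hom)
  let q₁ : Q ⟶ U := Over.homMk (pullback.fst h.left t.left) rfl
  let q₂ : Q ⟶ T := Over.homMk (pullback.snd h.left t.left) (by
    rw [← Over.w t, ← Category.assoc, ← pullback.condition, Category.assoc, Over.w h]; rfl)
  have sqQ : IsPullback ((yon S).map q₁) ((yon S).map q₂) ((yon S).map h) ((yon S).map t) :=
    (IsPullback.of_map_of_faithful (Over.forget _) (f := q₁) (g := q₂) (h := h) (i := t)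
      (IsPullback.of_hasPullback h.left t.left)).map (yon S)
  have hVf := IsPullback.of_hasPullback f.hom b
  let m : XT ⟶ pullback f.hom b := hVf.lift fstT (sndT ≫ (yon S).map t) (by rw [sqX.w, Category.assoc])
  have sqm : IsPullback m sndT (pullback.snd f.hom b) ((yon S).map t) := by
    refine IsPullback.of_right ?_ (hVf.lift_snd _ _ _) hVf
    rw [hVf.lift_fst]
    exact sqX
  let l : (yon S).obj Q ⟶ XT :=
    sqm.lift ((yon S).map q₁ ≫ a) ((yon S).map q₂) (by rw [Category.assoc, hh, sqQ.w])
  have sql : IsPullback l ((yon S).map q₁) m a := by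
    refine (IsPullback.of_bot (v₁₁ := l) (h₁₁ := (yon S).map q₁) ?_ (sqm.lift_fst _ _ _).symm sqm).flip
    rw [sqm.lift_snd, hh]
    exact sqQ
  have hl : RepWith @Etale l := repWith_of_isPullback sql.flip ha
  have hls : RepWith @Surjective l := repWith_of_isPullback sql.flip has
  constructor
  · rintro ⟨W, w, hw, hws, hW⟩
    haveI : IsReduced W.left := hW
    haveI : ∀ x : ↥Q.left, _root_.IsReduced (Q.left.presheaf.stalk x) := fun x => by
      obtain ⟨v, hv⟩ := surjective_ofPt hws (Points.ofPt l x)
      exact AlgSpDec.isReduced_stalk_of_charts hw hl hv inferInstance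
    exact isReduced_of_isReduced_stalk Q.left
  · intro hr
    exact ⟨Q, l, hl, hls, hr⟩

include ha has hh in
/-- Membership in the locus is read on a chart. -/
theorem mem_locus_iff (v : ↥V.left) :
    Points.ofPt b v ∈ locus f ↔ GeometricallyReduced (h.left.fiberToSpecResidueField v) := by
  rw [FlatMisc.GeomRedConstr.geometricallyReduced_fiber_iff]
  let ι : Over.mk (V.left.fromSpecResidueField v ≫ V.hom) ⟶ V := Over.homMk (V.left.fromSpecResidueField v) rfl
  let p : FieldPt Y.obj :=
    { K := V.left.residueField v, str := V.left.fromSpecResidueField v ≫ V.hom,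
      val := (J S).uliftYonedaEquiv ((yon S).map ι ≫ b) }
  have hp : p.toHom = (yon S).map ι ≫ b := by
    apply (J S).uliftYonedaEquiv.injective
    exact FieldPt.uliftYonedaEquiv_toHom p
  have hpv : Points.mk p = Points.ofPt b v := by
    rw [mk_eq_ofPt, hp, ofPt_comp]
    exact congrArg _ (Scheme.fromSpecResidueField_apply _ _)
  constructor
  · intro hE K _ φ
    obtain ⟨φ', rfl⟩ := Spec.map_surjective φ
    let t : Over.mk (Spec.map (CommRingCat.ofHom φ'.hom) ≫ p.str) ⟶ V :=
      Over.homMk (Spec.map φ' ≫ V.left.fromSpecResidueField v) (Category.assoc _ _ _)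
    refine (etaleLocally_iff_chart f b a ha has h hh t _ _ (IsPullback.of_hasPullback _ _)).1
      (hE p hpv K φ'.hom _ (pullback.fst f.hom ((yon S).map t ≫ b)) (pullback.snd f.hom ((yon S).map t ≫ b)) ?_)
    have e : (yon S).map t ≫ b = (yon S).map (Over.homMk (Spec.map (CommRingCat.ofHom φ'.hom)) rfl :
        Over.mk (Spec.map (CommRingCat.ofHom φ'.hom) ≫ p.str) ⟶ p.pt) ≫ p.toHom := by
      rw [hp, ← Functor.map_comp_assoc]
      rfl
    rw [← e]
    exact IsPullback.of_hasPullback _ _
  · intro H
    have h1 : ∃ (k : FieldPt Y.obj), Points.mk k = Points.ofPt b v ∧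
        ∀ (k' : Type u) [Field k'] (φ : k.K →+* k') (Xk' : Sp S) (a : Xk' ⟶ X.obj)
          (b : Xk' ⟶ (yon S).obj (Over.mk (Spec.map (CommRingCat.ofHom φ) ≫ k.str))),
          IsPullback a b f.hom ((yon S).map (Over.homMk (Spec.map (CommRingCat.ofHom φ)) rfl :
            Over.mk (Spec.map (CommRingCat.ofHom φ) ≫ k.str) ⟶ k.pt) ≫ k.toHom) →
          EtaleLocally (fun U => IsReduced U) Xk' := by
      refine ⟨p, hpv, fun k' _ φ Xk' fstT sndT sq => ?_⟩
      let t : Over.mk (Spec.map (CommRingCat.ofHom φ) ≫ p.str) ⟶ V :=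
        Over.homMk (Spec.map (CommRingCat.ofHom φ) ≫ V.left.fromSpecResidueField v) (Category.assoc _ _ _)
      rw [hp, ← Functor.map_comp_assoc] at sq
      exact (etaleLocally_iff_chart f b a ha has h hh t fstT sndT sq).2 (H k' (Spec.map (CommRingCat.ofHom φ)))
    exact ((Groth.Agent.S10686.result f (Points.ofPt b v)).out 0 1).1 h1

include ha has hh in
theorem preimage_locus : Points.ofPt b ⁻¹' locus f = FlatMisc.GeomRedConstr.locus h.left :=
  Set.ext fun v => mem_locus_iff f b a ha has h hh v

/-- Geometric reducedness of a fibre is that at each of its points. -/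
theorem geometricallyReduced_fiber_iff_forall {A B : Scheme.{u}} (g : A ⟶ B) (y : ↥B) :
    GeometricallyReduced (g.fiberToSpecResidueField y) ↔ ∀ x : ↥A, g x = y → GeomRedFlat5.E g x := by
  rw [FlatMisc.GeomRedConstr.geometricallyReduced_fiber_iff]
  constructor
  · intro H x hx
    subst hx
    let Ω := AlgebraicClosure (IsLocalRing.ResidueField (B.presheaf.stalk (g x)))
    let φ : B.residueField (g x) ⟶ CommRingCat.of Ω :=
      CommRingCat.ofHom (algebraMap (IsLocalRing.ResidueField (B.presheaf.stalk (g x))) Ω)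
    obtain ⟨z, hz⟩ := GeomRedFlat5.exists_point g x Ω φ
    haveI := H Ω (Spec.map φ)
    exact GeomRedFlat5.E_of_isReduced Ω φ z hz inferInstance
  · intro H K _ φ
    have key : ∀ x, g x = y → GeomRedFlat5.E g x → ∀ (φ : B.residueField y ⟶ CommRingCat.of K)
        (z : ↥(pullback g (Spec.map φ ≫ B.fromSpecResidueField y))), (pullback.fst g _).base z = x →
        _root_.IsReduced ((pullback g (Spec.map φ ≫ B.fromSpecResidueField y)).presheaf.stalk z) := by
      rintro x rfl hE φ z hz
      exact GeomRedFlat5.isReduced_pullback_of_E hE K φ z hz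
    obtain ⟨φ', rfl⟩ := Spec.map_surjective φ
    haveI : ∀ z, _root_.IsReduced
        ((pullback g (Spec.map φ' ≫ B.fromSpecResidueField y)).presheaf.stalk z) := fun z => by
      have hz : g (pullback.fst g (Spec.map φ' ≫ B.fromSpecResidueField y) z) = y := by
        rw [← Scheme.Hom.comp_apply, pullback.condition, Scheme.Hom.comp_apply, Scheme.Hom.comp_apply]
        exact Scheme.fromSpecResidueField_apply _ _
      exact key _ hz (H _ hz) φ' z rfl
    exact isReduced_of_isReduced_stalk _

/-- Geometric reducedness of fibres at points is invariant under etale morphisms. -/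
theorem E_comp_etale {W A B : Scheme.{u}} (j : W ⟶ A) [Etale j] (g : A ⟶ B) (w : ↥W) :
    GeomRedFlat5.E (j ≫ g) w ↔ GeomRedFlat5.E g (j w) := by
  let Ω := AlgebraicClosure (IsLocalRing.ResidueField (B.presheaf.stalk (g (j w))))
  let φ : B.residueField (g (j w)) ⟶ CommRingCat.of Ω :=
    CommRingCat.ofHom (algebraMap (IsLocalRing.ResidueField (B.presheaf.stalk (g (j w)))) Ω)
  let t := Spec.map φ ≫ B.fromSpecResidueField (g (j w))
  let m : pullback (j ≫ g) t ⟶ pullback g t :=
    (pullbackRightPullbackFstIso g t j).inv ≫ pullback.snd j (pullback.fst g t)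
  haveI : Etale m := inferInstance
  have hm : m ≫ pullback.fst g t = pullback.fst (j ≫ g) t ≫ j := by
    simp only [m, Category.assoc]
    rw [← pullback.condition, pullbackRightPullbackFstIso_inv_fst_assoc]
  obtain ⟨v, hv⟩ : ∃ v : ↥(pullback (j ≫ g) t), (pullback.fst (j ≫ g) t).base v = w :=
    GeomRedFlat5.exists_point (j ≫ g) w Ω φ
  have hmv : (pullback.fst g t).base (m.base v) = j w := by
    refine (Scheme.Hom.comp_apply m _ v).symm.trans ((congrArg (fun m' : _ ⟶ A => m'.base v) hm).trans ?_)
    exact congrArg j.base hv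
  have hiff := AlgSpDec.isReduced_stalk_iff_of_etale m v
  exact ⟨fun h => GeomRedFlat5.E_of_isReduced Ω φ (m.base v) hmv (hiff.1 (GeomRedFlat5.isReduced_pullback_of_E h Ω φ v hv)),
    fun h => GeomRedFlat5.E_of_isReduced (f := j ≫ g) (x := w) Ω φ v hv
      (hiff.2 (GeomRedFlat5.isReduced_pullback_of_E h Ω φ _ hmv))⟩

theorem isOpen_locus (hf1 : LocP @Flat f.hom) (hf2 : IsProperMor f.hom) (hf3 : IsFinitePresentationMor f.hom) :
    IsOpen (locus f) := by
  obtain ⟨V, b, hb, hbs⟩ := Y.property.atlas
  have key : IsOpen (Points.ofPt b ⁻¹' locus f) := by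
    obtain ⟨U, a, h, ha, has, hh⟩ := exists_chart_over X.property Y.property f.hom b
    rw [preimage_locus f b a ha has h hh]
    have hr : RepWith @Etale ((a ≫ pullback.fst f.hom b)) :=
      repWith_comp ha (repWith_of_isPullback (IsPullback.of_hasPullback f.hom b).flip hb)
    have hw : (a ≫ pullback.fst f.hom b) ≫ f.hom = (yon S).map h ≫ b := by
      rw [Category.assoc, pullback.condition, ← Category.assoc, hh]
    haveI : Flat h.left := hf1 _ b h hr hb hw
    haveI : LocallyOfFinitePresentation h.left := hf3.1 _ b h hr hb hw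
    let G : Set ↥U.left := {x | GeomRedFlat5.FE h.left x}
    have hG : IsOpen G := GeomRedFlat5.isOpen_FE h.left
    have hGE : ∀ x, x ∈ G ↔ GeomRedFlat5.E h.left x := fun x => ⟨fun hx => hx.2, fun hx => ⟨Flat.stalkMap h.left x, hx⟩⟩
    -- the complement of `G` is saturated for the chart of the base change
    have hsat : Points.ofPt a ⁻¹' (Points.ofPt a '' Gᶜ) = Gᶜ := by
      refine Set.Subset.antisymm ?_ (Set.subset_preimage_image _ _)
      rintro x ⟨x', hx', he⟩ hx
      obtain ⟨r, hr₁, hr₂⟩ := exists_ofPt_of_eq (ha.rep.isPullback' a) he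
      haveI : Etale (ha.rep.snd a).left := ha.property_snd a
      haveI : Etale (ha.rep.fst' a).left := ha.property _ _ _ (ha.rep.isPullback' a).flip
      have hcomp : (ha.rep.fst' a) ≫ h = (ha.rep.snd a) ≫ h := (yon S).map_injective (by
        rw [Functor.map_comp, Functor.map_comp, ← hh, ← Category.assoc, (ha.rep.isPullback' a).w, Category.assoc])
      refine hx' ((hGE x').2 ?_)
      rw [← hr₁, ← E_comp_etale, ← Over.comp_left, hcomp, Over.comp_left, E_comp_etale, hr₂]
      exact (hGE x).1 hx
    have hclosed : IsClosed (Points.ofPt a '' Gᶜ) := by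
      rw [← isOpen_compl_iff]
      have : (Points.ofPt a '' Gᶜ)ᶜ = Points.ofPt a '' G := by
        refine Set.Subset.antisymm (fun y hy => ?_) ?_
        · obtain ⟨x, rfl⟩ := surjective_ofPt has y
          exact ⟨x, by_contra fun hx => hy ⟨x, hx, rfl⟩, rfl⟩
        · rintro _ ⟨x, hx, rfl⟩ hx'
          exact (hsat.le hx') hx
      rw [this]
      exact isOpenMap_ofPt ha _ hG
    have hc : IsClosedMap (Points.map (pullback.snd f.hom b)) :=
      hf2.2.2 (IsAlgSpace.yon_obj V) b _ _ (IsPullback.of_hasPullback f.hom b)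
    have e : FlatMisc.GeomRedConstr.locus h.left =
        ((Points.schemeHomeo V) ⁻¹' (Points.map (pullback.snd f.hom b) '' (Points.ofPt a '' Gᶜ)))ᶜ := by
      ext v
      refine (geometricallyReduced_fiber_iff_forall h.left v).trans ⟨fun H hv => ?_, fun H x hx => ?_⟩
      · obtain ⟨_, ⟨x, hx, rfl⟩, hv⟩ := hv
        rw [Points.map_ofPt, hh, ← Category.comp_id ((yon S).map h), ofPt_comp] at hv
        exact hx ((hGE x).2 (H x ((Points.schemeHomeo V).injective hv)))
      · by_contra hE
        refine H ⟨_, ⟨x, fun hG => hE ((hGE x).1 hG), rfl⟩, ?_⟩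
        rw [Points.map_ofPt, hh, ← Category.comp_id ((yon S).map h), ofPt_comp, hx]
        rfl
    rw [e]
    exact ((hc _ hclosed).preimage (Points.schemeHomeo V).continuous).isOpen_compl
  have e : locus f = Points.ofPt b '' (Points.ofPt b ⁻¹' locus f) :=
    (Set.image_preimage_eq _ (surjective_ofPt hbs)).symm
  rw [e]
  exact isOpenMap_ofPt hb _ key

theorem isConstructible_locus (hf1 : IsQuasiCompactMor f.hom) (hf2 : LocP @LocallyOfFinitePresentation f.hom)
    (hV : IsAffine V.left) (hb : RepWith @Etale b) : Topology.IsConstructible (Points.ofPt b ⁻¹' locus f) := by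
  haveI := hV
  obtain ⟨U, a, hU, ha, has⟩ := AlgSpDec.exists_affine_atlas
    (hf1 (IsAlgSpace.yon_obj V) (isQuasiCompactSp_yon V) b _ _ (IsPullback.of_hasPullback f.hom b))
  haveI := hU
  obtain ⟨h, hh⟩ := (yon S).map_surjective (a ≫ pullback.snd f.hom b)
  have hr : RepWith @Etale ((a ≫ pullback.fst f.hom b)) :=
    repWith_comp ha (repWith_of_isPullback (IsPullback.of_hasPullback f.hom b).flip hb)
  haveI : LocallyOfFinitePresentation h.left :=
    hf2 _ b h hr hb (by rw [Category.assoc, pullback.condition, ← Category.assoc, hh])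
  rw [preimage_locus f b a ha has h hh.symm]
  exact FlatMisc.GeomRedConstr.isConstructible_locus_affine h.left

end Groth.Agent.AlgSpC7.RedLocus
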