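import Groth.Agent.AlgSpC7.RegImmLocal
import Groth.Agent.CAlgOdd.H1Append

/-!
# Composition of regular immersions
-/

set_option autoImplicit false
set_option linter.style.haveILetI false

universe u

open AlgebraicGeometry CategoryTheory

namespace Groth.Agent.AlgSpC7

open Groth.Agent.KRegLib Groth.Agent.RegImmLib

theorem span_range_append {R : Type u} [CommRing R] {n m : ℕ} (f : Fin n → R) (g : Fin m → R) :
    Ideal.span (Set.range (Fin.append f g)) = Ideal.span (Set.range f) ⊔ Ideal.span (Set.range g) := by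
  rw [← Ideal.span_union]
  congr 1
  ext x
  constructor
  · rintro ⟨i, rfl⟩
    refine Fin.addCases (fun a => Or.inl ⟨a, by simp⟩) (fun b => Or.inr ⟨b, by simp⟩) i
  · rintro (⟨a, rfl⟩ | ⟨b, rfl⟩)
    · exact ⟨Fin.castAdd m a, by simp⟩
    · exact ⟨Fin.natAdd n b, by simp⟩

theorem SeqKind.compAt {k₁ k₂ k₃ : RegImm.Kind} (K₁ : SeqKind.{u} k₁) (K₂ : SeqKind.{u} k₂)
    (K₃ : SeqKind.{u} k₃)
    (happ : ∀ {A : Type u} [CommRing A] {n m : ℕ} (f : Fin n → A) (g : Fin m → A), K₁.Φ f →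
      K₂.Φ (fun l => Ideal.Quotient.mk (Ideal.span (Set.range f)) (g l)) → K₃.Φ (Fin.append f g))
    {X Y Z : Scheme.{u}} (i : Y ⟶ X) (j : Z ⟶ Y) (z : Z)
    (hi : RegImm.IsRegularImmersionAt k₁ i (j z)) (hj : RegImm.IsRegularImmersionAt k₂ j z) :
    RegImm.IsRegularImmersionAt k₃ (j ≫ i) z := by
  obtain ⟨U, hU, hzU, hci, n, f, hf, hker⟩ := (K₁.isRegularImmersionAt_iff i _).1 hi
  obtain ⟨V, hV, hzV, hcj, m, h, hh, hkerh⟩ := (K₂.isRegularImmersionAt_iff j z).1 hj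
  obtain ⟨hU', hUs⟩ := Synt29.surjective_app_of_isClosedImmersion_restrict i U hU
  obtain ⟨g, g', hgg, hzg⟩ := exists_basicOpen_le_affine_inter hU' hV (j z) ⟨hzU, hzV⟩
  obtain ⟨G, rfl⟩ := hUs g
  let W := X.basicOpen G
  have hW : IsAffineOpen W := hU.basicOpen G
  haveI hciW : IsClosedImmersion (i ∣_ W) := isClosedImmersion_restrict_of_le i (X.basicOpen_le G)
  obtain ⟨hW', hWs⟩ := Synt29.surjective_app_of_isClosedImmersion_restrict i W hW
  obtain ⟨f', hf', hkerf'⟩ := K₁.restrict_basicOpen i hU G hf hker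
  obtain ⟨h', hh', hkerh'⟩ := K₂.restrict_basicOpen j hV g' hh hkerh
  have hpre : i ⁻¹ᵁ W = Y.basicOpen g' := (Scheme.preimage_basicOpen i G).trans hgg
  have key : ∀ O : Y.Opens, O = Y.basicOpen g' → IsClosedImmersion (j ∣_ O) ∧
      ∃ h'' : Fin m → Γ(Y, O), K₂.Φ h'' ∧ RingHom.ker (j.app O).hom = Ideal.span (Set.range h'') := by
    rintro O rfl
    exact ⟨isClosedImmersion_restrict_of_le j (Y.basicOpen_le g'), h', hh', hkerh'⟩
  obtain ⟨hcjW, h'', hh'', hkerh''⟩ := key (i ⁻¹ᵁ W) hpre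
  choose l hl using fun k => hWs (h'' k)
  let J : Ideal Γ(X, W) := Ideal.span (Set.range f')
  let e : Γ(Y, i ⁻¹ᵁ W) ≃+* Γ(X, W) ⧸ J :=
    ((Ideal.quotEquivOfEq hkerf'.symm).trans (RingHom.quotientKerEquivOfSurjective hWs)).symm
  letI : Algebra Γ(Y, i ⁻¹ᵁ W) (Γ(X, W) ⧸ J) := e.toRingHom.toAlgebra
  haveI : Module.Flat Γ(Y, i ⁻¹ᵁ W) (Γ(X, W) ⧸ J) := RingHom.Flat.of_bijective (f := e.toRingHom) e.bijective
  have he : ∀ x, e ((i.app W).hom x) = Ideal.Quotient.mk J x := fun x => by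
    apply e.symm.injective
    rw [e.symm_apply_apply]
    rfl
  have hl' : K₂.Φ (fun k => Ideal.Quotient.mk J (l k)) := by
    have h1 := K₂.flat (S := Γ(X, W) ⧸ J) hh''
    convert h1 using 2 with k
    rw [← he, hl k]
    rfl
  refine (K₃.isRegularImmersionAt_iff _ _).2 ⟨W, hW, ?_, ?_, n + m, Fin.append f' l, happ f' l hf' hl', ?_⟩
  · show j z ∈ i ⁻¹ᵁ W
    rw [hpre, ← hgg]
    exact hzg
  · rw [morphismRestrict_comp]
    exact MorphismProperty.comp_mem @IsClosedImmersion _ _ hcjW hciW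
  · show RingHom.ker ((j.app (i ⁻¹ᵁ W)).hom.comp (i.app W).hom) = _
    rw [← RingHom.comap_ker, hkerh'', span_range_append, ← hkerf']
    have h5 : (Ideal.span (Set.range l)).map (i.app W).hom = Ideal.span (Set.range h'') := by
      rw [Ideal.map_span, ← Set.range_comp]
      exact congrArg (fun z => Ideal.span (Set.range z)) (funext hl)
    rw [← h5, Ideal.comap_map_of_surjective _ hWs, ← RingHom.ker_eq_comap_bot, sup_comm]

theorem regImm_comp_h1 {X Y Z : Scheme.{u}} (i : Y ⟶ X) (j : Z ⟶ Y) (hi : RegImm.IsRegularImmersion .h1 i)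
    (hj : RegImm.IsRegularImmersion .h1 j) : RegImm.IsRegularImmersion .h1 (j ≫ i) :=
  ⟨MorphismProperty.comp_mem @IsImmersion _ _ hj.1 hi.1, fun z =>
    h1Kind.compAt h1Kind h1Kind (fun f g hf hg => CAlgOdd.H1Append.isH1Regular_append f g hf hg) i j z (hi.2 _) (hj.2 z)⟩

theorem regImm_comp_quasi {X Y Z : Scheme.{u}} (i : Y ⟶ X) (j : Z ⟶ Y) (hi : RegImm.IsRegularImmersion .quasi i)
    (hj : RegImm.IsRegularImmersion .h1 j) : RegImm.IsRegularImmersion .quasi (j ≫ i) :=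
  ⟨MorphismProperty.comp_mem @IsImmersion _ _ hj.1 hi.1, fun z =>
    quasiKind.compAt h1Kind quasiKind (fun f g hf hg => CAlgOdd.H1Append.isQuasiRegular_append f g hf hg) i j z (hi.2 _) (hj.2 z)⟩

theorem regImm_comp_koszul {X Y Z : Scheme.{u}} (i : Y ⟶ X) (j : Z ⟶ Y) (hi : RegImm.IsRegularImmersion .koszul i)
    (hj : RegImm.IsRegularImmersion .koszul j) : RegImm.IsRegularImmersion .koszul (j ≫ i) :=
  ⟨MorphismProperty.comp_mem @IsImmersion _ _ hj.1 hi.1, fun z => by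
    obtain ⟨n, hn⟩ := (RegImmLib.isRegularImmersionAt_iff i _).1 (hi.2 (j z))
    obtain ⟨m, hm⟩ := (RegImmLib.isRegularImmersionAt_iff j z).1 (hj.2 z)
    exact (RegImmLib.isRegularImmersionAt_iff _ z).2 ⟨n + m, hn.comp i j z hm⟩⟩

end Groth.Agent.AlgSpC7
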