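import Groth.Prelude.Def_AlgSpMor6
import Groth.Agent.KRegLib.Kinds
import Groth.Agent.AlgSpDec.Fibres

/-!
# Regular immersions of algebraic spaces: implications between the kinds
-/

set_option autoImplicit false
set_option backward.isDefEq.respectTransparency false
set_option backward.isDefEq.respectTransparency.types false

universe u

open CategoryTheory CategoryTheory.Limits AlgebraicGeometry Opposite AlgSp

namespace Groth.Agent.AlgSpC7

/-- A monotone form of `RepLocT`. -/
theorem repLocT_mono {S : Scheme.{u}} {P Q : MorphismProperty Scheme.{u}} {F G : Sp S} {f : F ⟶ G}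
    (hle : ∀ {X Y : Scheme.{u}} (g : X ⟶ Y), P g → Q g) (hf : RepLocT P f) : RepLocT Q f :=
  ⟨hf.1, fun _ _ b fst snd hb sq => hle _ (hf.2 b fst snd hb sq)⟩

theorem isRegularImmersion_mono {Z X : Scheme.{u}} {k k' : RegImm.Kind} (i : Z ⟶ X)
    (h : ∀ (R : Type u) [CommRing R] (rs : List R), k.Seq R rs → k'.Seq R rs)
    (hi : RegImm.IsRegularImmersion k i) : RegImm.IsRegularImmersion k' i :=
  ⟨hi.1, fun z => by
    obtain ⟨U, hz, hci, rs, hrs, hker⟩ := hi.2 z
    exact ⟨U, hz, hci, rs, h _ rs hrs, hker⟩⟩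

theorem regImm_h1_of_koszul {Z X : Scheme.{u}} (i : Z ⟶ X) (h : RegImm.IsRegularImmersion .koszul i) :
    RegImm.IsRegularImmersion .h1 i :=
  isRegularImmersion_mono (k := .koszul) (k' := .h1) i (fun _ _ rs hrs => KRegLib.h1_of_koszul rs hrs) h

theorem regImm_quasi_of_h1 {Z X : Scheme.{u}} (i : Z ⟶ X) (h : RegImm.IsRegularImmersion .h1 i) :
    RegImm.IsRegularImmersion .quasi i :=
  isRegularImmersion_mono (k := .h1) (k' := .quasi) i (fun _ _ rs hrs => KRegLib.quasi_of_seq .h1 rs hrs) h

/-- Over a locally Noetherian algebraic space every etale chart is locally Noetherian, so the kinds agree. -/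
theorem repLocT_regImm_of_locNoeth {S : Scheme.{u}} {F G : Sp S} {f : F ⟶ G} (k k' : RegImm.Kind)
    (hN : ∀ {V : Over S} (b : (yon S).obj V ⟶ G), RepWith @Etale b → IsLocallyNoetherian V.left)
    (hf : RepLocT (regImm k) f) : RepLocT (regImm k') f :=
  ⟨hf.1, fun _ _ b fst snd hb sq => by
    haveI := hN b hb
    exact KRegLib.regImm_of_regImm k k' _ (hf.2 b fst snd hb sq)⟩

end Groth.Agent.AlgSpC7
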