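import Groth.Prelude.Def_AlgSpMor6
import Groth.Agent.AlgSpC7.RegImmComp
import Groth.Agent.AlgSpLib.LocP
import Groth.Agent.AlgSpDec.ImmCover

/-!
# Regular immersions of algebraic spaces: flat base change and composition
-/

set_option autoImplicit false
set_option backward.isDefEq.respectTransparency false
set_option backward.isDefEq.respectTransparency.types false

universe u

open CategoryTheory CategoryTheory.Limits AlgebraicGeometry Opposite AlgSp

namespace Groth.Agent.AlgSpC7

variable {S : Scheme.{u}}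

/-- The scheme-level square of a pullback of sheaves represented on a scheme. -/
theorem isPullback_left_of_yon {P A B C : Over S} (p : P ⟶ A) (q : P ⟶ B) (f : A ⟶ C) (g : B ⟶ C)
    (h : IsPullback ((yon S).map p) ((yon S).map q) ((yon S).map f) ((yon S).map g)) :
    IsPullback p.left q.left f.left g.left :=
  (IsPullback.of_map (yon S) ((yon S).map_injective (by simpa using h.w)) h).map (Over.forget S)

theorem repWith_isImmersion_of_repLocT {k : RegImm.Kind} {X Y : Space S} (i : X ⟶ Y)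
    (hi : RepLocT (regImm k) i.hom) : RepWith @IsImmersion i.hom := by
  obtain ⟨V, p, hp, hps⟩ := Y.property.atlas
  obtain ⟨W, fst, snd, sq⟩ : ∃ (W : Over S) (fst : (yon S).obj W ⟶ X.obj) (snd : W ⟶ V),
      IsPullback fst ((yon S).map snd) i.hom p := ⟨_, _, _, hi.1.isPullback p⟩
  exact AlgSpDec.repWith_imm_of_etale_cover (Or.inr (Or.inr rfl)) hp hps sq
    ((repWith_yon_map_iff _ snd).2 (hi.2 p fst snd hp sq).1)

theorem regImm_baseChange_sp {k : RegImm.Kind} (K : SeqKind.{u} k) {Z X X' : Space S} (i : Z ⟶ X) (g : X' ⟶ X)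
    (hi : IsRegImmMor k i.hom) (hg : LocP @Flat g.hom)
    (P : Space S) (fst : P ⟶ Z) (i' : P ⟶ X') (sq : IsPullback fst.hom i'.hom i.hom g.hom) :
    IsRegImmMor k i'.hom := by
  have himm : RepWith @IsImmersion i'.hom :=
    AlgSpLib.repWith_of_isPullback sq (repWith_isImmersion_of_repLocT i hi)
  refine ⟨himm.rep, fun V' W' b' fst' snd' hb' sq' => ?_⟩
  obtain ⟨U, p, hp, hps⟩ := X.property.atlas
  let b := b' ≫ g.hom
  let q : hp.rep.pullback b ⟶ V' := hp.rep.snd b
  let r : hp.rep.pullback b ⟶ U := hp.rep.fst' b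
  have hqe : Etale q.left := hp.property_snd b
  have hqs : Surjective q.left := hps.property _ _ _ (hp.rep.isPullback b)
  have hqb : RepWith @Etale ((yon S).map q ≫ b') := AlgSpLib.repWith_comp ((repWith_yon_map_iff _ q).2 hqe) hb'
  have hrf : Flat r.left := hg ((yon S).map q ≫ b') p r hqb hp (by
    rw [Category.assoc]
    exact ((hp.rep.isPullback' b).w).symm)
  obtain ⟨WU, fstU, sndU, sqU⟩ : ∃ (WU : Over S) (fstU : (yon S).obj WU ⟶ Z.obj) (sndU : WU ⟶ U),
      IsPullback fstU ((yon S).map sndU) i.hom p := ⟨_, _, _, hi.1.isPullback p⟩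
  have hU := hi.2 p fstU sndU hp sqU
  have s₁ := IsPullback.of_hasPullback sndU r
  have s₂ := IsPullback.of_hasPullback snd' q
  have e₁ := (s₁.map (yon S)).paste_horiz sqU
  have e₂ := ((s₂.map (yon S)).paste_horiz sq').paste_horiz sq
  have hrb : (yon S).map r ≫ p = ((yon S).map q ≫ b') ≫ g.hom := by
    rw [Category.assoc]
    exact (hp.rep.isPullback' b).w
  rw [hrb] at e₁
  let e := (yon S).preimageIso (IsPullback.isoIsPullback _ _ e₂ e₁)
  have he : e.hom ≫ pullback.snd sndU r = pullback.snd snd' q := (yon S).map_injective (by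
    simp only [e, Functor.map_comp, Functor.preimageIso_hom, Functor.map_preimage]
    exact IsPullback.isoIsPullback_hom_snd _ _ _ _)
  haveI := hrf
  have h1 : RegImm.IsRegularImmersion k (pullback.snd sndU r).left :=
    K.baseChange (g := r.left) (s₁.map (Over.forget S)) hU
  have hei : IsIso e.hom.left := ((Over.forget S).mapIso e).isIso_hom
  have h2 : RegImm.IsRegularImmersion k (pullback.snd snd' q).left := by
    refine K.baseChange (g := 𝟙 _) (g' := e.hom.left) ?_ h1
    refine IsPullback.of_horiz_isIso ⟨?_⟩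
    rw [Category.comp_id, ← Over.comp_left, he]
  haveI : IsImmersion snd'.left := himm.2 b' fst' snd' sq'
  exact K.descend_fppf snd'.left q.left _ _ (s₂.map (Over.forget S)) h2

/-- Composition of regular immersions of algebraic spaces, from the scheme statement. -/
theorem regImm_comp_sp {k₁ k₂ k₃ : RegImm.Kind}
    (hcomp : ∀ {X Y Z : Scheme.{u}} (i : Y ⟶ X) (j : Z ⟶ Y), RegImm.IsRegularImmersion k₁ i →
      RegImm.IsRegularImmersion k₂ j → RegImm.IsRegularImmersion k₃ (j ≫ i))
    {Z Y X : Space S} (i : Z ⟶ Y) (j : Y ⟶ X) (hj : IsRegImmMor k₁ j.hom) (hi : IsRegImmMor k₂ i.hom) :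
    IsRegImmMor k₃ (i ≫ j).hom := by
  refine ⟨Functor.relativelyRepresentable.isMultiplicative (yon S) |>.comp_mem _ _ hi.1 hj.1,
    fun V W b fst snd hb sq => ?_⟩
  obtain ⟨W₁, a₁, w₁, sq₁⟩ : ∃ (W₁ : Over S) (a₁ : (yon S).obj W₁ ⟶ Y.obj) (w₁ : W₁ ⟶ V),
      IsPullback a₁ ((yon S).map w₁) j.hom b := ⟨_, _, _, hj.1.isPullback b⟩
  have ha₁ : RepWith @Etale a₁ := AlgSpLib.repWith_of_isPullback sq₁.flip hb
  obtain ⟨W₂, a₂, w₂, sq₂⟩ : ∃ (W₂ : Over S) (a₂ : (yon S).obj W₂ ⟶ Z.obj) (w₂ : W₂ ⟶ W₁),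
      IsPullback a₂ ((yon S).map w₂) i.hom a₁ := ⟨_, _, _, hi.1.isPullback a₁⟩
  have e₁ := sq₂.paste_vert sq₁
  rw [← Functor.map_comp] at e₁
  let e := (yon S).preimageIso (IsPullback.isoIsPullback _ _ sq e₁)
  have he : e.hom ≫ (w₂ ≫ w₁) = snd := (yon S).map_injective (by
    simp only [e, Functor.map_comp, Functor.preimageIso_hom, Functor.map_preimage]
    simpa only [Functor.map_comp] using IsPullback.isoIsPullback_hom_snd _ _ sq e₁)
  have h := hcomp w₁.left w₂.left (hj.2 b a₁ w₁ hb sq₁) (hi.2 a₁ a₂ w₂ ha₁ sq₂)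
  have hei : IsIso e.hom.left := ((Over.forget S).mapIso e).isIso_hom
  have h' : RegImm.IsRegularImmersion k₃ (w₂ ≫ w₁).left := h
  refine ⟨?_, fun z => ?_⟩
  · rw [← he, Over.comp_left]
    exact MorphismProperty.comp_mem @IsImmersion _ _ inferInstance h'.1
  · obtain ⟨U, hz, hci, rs, hrs, hker⟩ := h'.2 (e.hom.left z)
    refine ⟨U, ?_, ?_, rs, hrs, ?_⟩
    · rw [← he]; exact hz
    · rw [← he, Over.comp_left, morphismRestrict_comp]
      exact MorphismProperty.comp_mem @IsClosedImmersion _ _ inferInstance hci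
    · rw [← he, Over.comp_left, Scheme.Hom.comp_app, CommRingCat.hom_comp,
        RingHom.ker_comp_of_injective _ (ConcreteCategory.bijective_of_isIso (e.hom.left.app _)).1, hker]

end Groth.Agent.AlgSpC7
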