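import Groth.Agent.AlgSpC7.ElemSq
import Groth.Agent.AlgSpLib.LocalBaseTop
import Groth.Agent.AlgSpLib.EtaleSmoothLocal
import Groth.Agent.AlgSpLib.Descent2
import Groth.Agent.AlgSpPts.Sep

/-!
# Separatedness checked on an elementary distinguished square
-/

set_option backward.isDefEq.respectTransparency false
set_option backward.isDefEq.respectTransparency.types false
set_option autoImplicit false
set_option linter.style.haveILetI false

universe u

open CategoryTheory CategoryTheory.Limits AlgebraicGeometry AlgSp Groth.Agent.AlgSpLib Groth.Agent.AlgSpPts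

namespace Groth.Agent.AlgSpC7.SepElem

variable {S : Scheme.{u}}

/-- An immersion of sheaves with closed image is a closed immersion. -/
theorem repWith_closed_of_immersion {F G : Sp S} {c : F ⟶ G} (hc : RepWith @IsImmersion c)
    (hcl : IsClosed (Set.range (Points.map c))) : RepWith @IsClosedImmersion c := by
  refine ⟨hc.rep, fun T W t fst snd sq => ?_⟩
  haveI : IsImmersion snd.left := hc.2 t fst snd sq
  show IsClosedImmersion snd.left
  refine IsClosedImmersion.of_isPreimmersion snd.left ?_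
  have he : Set.range snd.left = Points.ofPt t ⁻¹' Set.range (Points.map c) := by
    refine Set.Subset.antisymm ?_ ?_
    · rintro _ ⟨w, rfl⟩
      exact ⟨Points.ofPt fst w, by rw [Points.map_ofPt, sq.w, ofPt_comp]⟩
    · rintro x ⟨y, hy⟩
      obtain ⟨z, -, hz⟩ := exists_point_of_isPullback sq (x := y) (y := Points.ofPt (𝟙 _) x)
        (by rw [Points.map_ofPt, Category.id_comp]; exact hy)
      obtain ⟨w, rfl⟩ := (Points.schemeHomeo _).surjective z
      replace hz : Points.map ((yon S).map snd) (Points.ofPt (𝟙 _) w) = Points.ofPt (𝟙 _) x := hz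
      rw [Points.map_ofPt, Category.id_comp, ← Category.comp_id ((yon S).map snd), ofPt_comp] at hz
      exact ⟨w, (Points.schemeHomeo T).injective hz⟩
  rw [he]
  exact hcl.preimage (Points.continuous_ofPt t)

variable {X Y : Sp S} {g : X ⟶ Y}

/-- The comparison map between two fibre products transfers to any chosen fibre products. -/
theorem repWith_map_of_comparison {A₁ A₂ PX PY : Sp S} {e₁ : A₁ ⟶ X} {e₂ : A₂ ⟶ X} {a₁ : PX ⟶ A₁} {a₂ : PX ⟶ A₂}
    (hX : IsPullback a₁ a₂ e₁ e₂) {b₁ : PY ⟶ A₁} {b₂ : PY ⟶ A₂} (hY : IsPullback b₁ b₂ (e₁ ≫ g) (e₂ ≫ g))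
    {c : PX ⟶ PY} (hc₁ : c ≫ b₁ = a₁) (hc₂ : c ≫ b₂ = a₂) (h : RepWith @IsClosedImmersion c) :
    RepWith @IsClosedImmersion (pullback.map e₁ e₂ (e₁ ≫ g) (e₂ ≫ g) (𝟙 _) (𝟙 _) g
      (Category.id_comp _).symm (Category.id_comp _).symm) := by
  have e : pullback.map e₁ e₂ (e₁ ≫ g) (e₂ ≫ g) (𝟙 _) (𝟙 _) g (Category.id_comp _).symm (Category.id_comp _).symm =
      hX.isoPullback.inv ≫ c ≫ hY.isoPullback.hom := by
    refine pullback.hom_ext ?_ ?_
    · simp [reassoc_of% hc₁, hc₁]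
    · simp [reassoc_of% hc₂, hc₂]
  rw [e, (RepWith (S := S) @IsClosedImmersion).cancel_left_of_respectsIso,
    (RepWith (S := S) @IsClosedImmersion).cancel_right_of_respectsIso]
  exact h

theorem isEtaleMor_map_left {A A' B : Sp S} (hA : IsAlgSpace A) (hX : IsAlgSpace X) (hY : IsAlgSpace Y)
    (hA' : IsAlgSpace A') {e : A ⟶ X} (he : IsEtaleMor e) (t : A' ⟶ Y) (hB : B = pullback g t) :
    IsEtaleMor (pullback.map (e ≫ g) t g t e (𝟙 _) (𝟙 _) (Category.comp_id _) (by simp)) := by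
  refine isEtaleMor_of_isPullback (g' := pullback.fst (e ≫ g) t) (g := pullback.fst g t) (f := e) ?_ hA hX
    (isAlgSpace_pullback hX hA' hY _ _) he
  refine IsPullback.of_bot (h₂₁ := pullback.fst g t) (v₂₁ := pullback.snd g t) (v₂₂ := g) ?_ ?_
    (IsPullback.of_hasPullback g t) |>.flip |> fun h => h.flip
  · simpa using IsPullback.of_hasPullback (e ≫ g) t
  · simp

theorem isEtaleMor_map_right {A A' : Sp S} (hA : IsAlgSpace A) (hX : IsAlgSpace X) (hY : IsAlgSpace Y)
    (hA' : IsAlgSpace A') {e : A' ⟶ X} (he : IsEtaleMor e) (t : A ⟶ Y) :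
    IsEtaleMor (pullback.map t (e ≫ g) t g (𝟙 _) e (𝟙 _) (by simp) (Category.comp_id _)) := by
  refine isEtaleMor_of_isPullback (g' := pullback.snd t (e ≫ g)) (g := pullback.snd t g) (f := e) ?_ hA' hX
    (isAlgSpace_pullback hA hX hY _ _) he
  refine IsPullback.of_bot (h₂₁ := pullback.snd t g) (v₂₁ := pullback.fst t g) (v₂₂ := g) ?_ ?_
    (IsPullback.of_hasPullback t g).flip
  · simpa using (IsPullback.of_hasPullback t (e ≫ g)).flip
  · simp

variable {U V : Sp S} {j : U ⟶ X} {f : V ⟶ X}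

/-- The two pieces of an elementary distinguished square cover the target. -/
theorem exists_preimage (hsq : IsElemDistSq j f) (x : Points X) :
    (∃ u, Points.map j u = x) ∨ ∃ v, Points.map f v = x := by
  by_cases hx : x ∈ Set.range (Points.map j)
  · exact Or.inl hx
  · right
    obtain ⟨-, -, T, P, i, p₁, p₂, ⟨-, hir, -⟩, hP, hiso⟩ := hsq
    obtain ⟨τ, rfl⟩ := hir.ge hx
    refine ⟨Points.map p₂ (Points.map (inv p₁) τ), ?_⟩
    rw [← Points.map_comp, ← hP.w, Points.map_comp, ← Points.map_comp (inv p₁), IsIso.inv_hom_id, Points.map_id]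

/-- The diagonal is a closed immersion when it is so over each piece of the square. -/
theorem isSeparatedMor_of_pieces (hX : IsAlgSpace X) (hY : IsAlgSpace Y) (hU : IsAlgSpace U) (hV : IsAlgSpace V)
    (hsq : IsElemDistSq j f) (A : ULift.{u} Bool → Sp S) (e : ∀ b, A b ⟶ X)
    (hA : ∀ b, IsAlgSpace (A b)) (he : ∀ b, IsEtaleMor (e b)) (hsurj : ∀ x, ∃ b z, Points.map (e b) z = x)
    (H : ∀ b b', RepWith @IsClosedImmersion (pullback.map (e b) (e b') (e b ≫ g) (e b' ≫ g) (𝟙 _) (𝟙 _) g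
      (Category.id_comp _).symm (Category.id_comp _).symm)) : IsSeparatedMor g := by
  let D := pullback g g
  have hD : IsAlgSpace D := isAlgSpace_pullback hX hX hY g g
  let Yi : ULift.{u} (Bool × Bool) → Sp S := fun i => pullback (e ⟨i.down.1⟩ ≫ g) (e ⟨i.down.2⟩ ≫ g)
  let m : ∀ i, Yi i ⟶ D := fun i => pullback.map _ _ g g (e ⟨i.down.1⟩) (e ⟨i.down.2⟩) (𝟙 _)
    (Category.comp_id _) (Category.comp_id _)
  have hYi : ∀ i, IsAlgSpace (Yi i) := fun i => isAlgSpace_pullback (hA _) (hA _) hY _ _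
  have hm : ∀ i, IsEtaleMor (m i) := fun i => by
    have h1 := isEtaleMor_map_right (g := g) (hA ⟨i.down.1⟩) hX hY (hA ⟨i.down.2⟩) (he _) (e ⟨i.down.1⟩ ≫ g)
    have h2 := isEtaleMor_map_left (g := g) (hA ⟨i.down.1⟩) hX hY hX (he ⟨i.down.1⟩) g rfl
    convert isEtaleMor_comp (hYi i) (isAlgSpace_pullback (hA _) hX hY _ _) hD h1 h2 using 1
    apply pullback.hom_ext <;> simp [m]
  have hmS : ∀ d : Points D, ∃ i, d ∈ Set.range (Points.map (m i)) := fun d => by
    obtain ⟨b, z, hz⟩ := hsurj (Points.map (pullback.fst g g) d)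
    obtain ⟨b', z', hz'⟩ := hsurj (Points.map (pullback.snd g g) d)
    refine ⟨⟨(b.down, b'.down)⟩, ?_⟩
    let m₂ : pullback (e b ≫ g) g ⟶ D := pullback.map _ _ g g (e b) (𝟙 _) (𝟙 _) (Category.comp_id _) (by simp)
    let m₁ : pullback (e b ≫ g) (e b' ≫ g) ⟶ pullback (e b ≫ g) g :=
      pullback.map _ _ (e b ≫ g) g (𝟙 _) (e b') (𝟙 _) (by simp) (Category.comp_id _)
    have s₂ : IsPullback (pullback.fst (e b ≫ g) g) m₂ (e b) (pullback.fst g g) := by
      refine IsPullback.of_bot (h₂₁ := pullback.fst g g) (v₂₁ := pullback.snd g g) (v₂₂ := g) ?_ ?_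
        (IsPullback.of_hasPullback g g)
      · simpa [m₂] using IsPullback.of_hasPullback (e b ≫ g) g
      · simp [m₂]
    have s₁ : IsPullback (pullback.snd (e b ≫ g) (e b' ≫ g)) m₁ (e b') (pullback.snd (e b ≫ g) g) := by
      refine IsPullback.of_bot (h₂₁ := pullback.snd (e b ≫ g) g) (v₂₁ := pullback.fst (e b ≫ g) g) (v₂₂ := g)
        ?_ ?_ (IsPullback.of_hasPullback (e b ≫ g) g).flip
      · simpa [m₁] using (IsPullback.of_hasPullback (e b ≫ g) (e b' ≫ g)).flip
      · simp [m₁]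
    obtain ⟨w, -, hw⟩ := exists_point_of_isPullback s₂ (x := z) (y := d) hz
    obtain ⟨w', -, hw'⟩ := exists_point_of_isPullback s₁ (x := z') (y := w) (by
      rw [hz', ← hw, ← Points.map_comp]
      simp [m₂])
    exact ⟨w', by
      rw [show m ⟨(b.down, b'.down)⟩ = m₁ ≫ m₂ from by apply pullback.hom_ext <;> simp [m, m₁, m₂],
        Points.map_comp, hw', hw]⟩
  have hcov : IsFpqcCover Yi m := by
    refine isFpqcCover_of_isFppfCover hD hYi _ ⟨fun i => ⟨?_, ?_⟩, hmS⟩
    · exact locP_mono (P := @Etale) (Q := @Flat) (fun _ _ f (_ : Etale f) => inferInstanceAs (Flat f))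
        ((isEtaleMor_iff_locP (hYi i) hD _).1 (hm i))
    · exact locP_mono (P := @Etale) (Q := @LocallyOfFinitePresentation)
        (fun _ _ f (_ : Etale f) => inferInstanceAs (LocallyOfFinitePresentation f))
        ((isEtaleMor_iff_locP (hYi i) hD _).1 (hm i))
  have := EtFound.fpqc_isClosedImmersion.{u}
  exact repWith_of_fpqc (representable_diagonal hX g) hcov (fun i => pullback_map_diagonal_isPullback _ _ g)
    (fun i => H _ _)

theorem isSeparatedMor_of_square (hX : IsAlgSpace X) (hY : IsAlgSpace Y) (hU : IsAlgSpace U) (hV : IsAlgSpace V)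
    (hsq : IsElemDistSq j f) (hjg : IsSeparatedMor (j ≫ g)) (hfg : IsSeparatedMor (f ≫ g))
    {PX PY QX QY : Sp S} {pX : PX ⟶ U} {qX : PX ⟶ V} (hPX : IsPullback pX qX j f)
    {pY : PY ⟶ U} {qY : PY ⟶ V} (hPY : IsPullback pY qY (j ≫ g) (f ≫ g))
    {c : PX ⟶ PY} (hc₁ : c ≫ pY = pX) (hc₂ : c ≫ qY = qX) (hcl : IsClosedMap (Points.map c))
    {rX₁ rX₂ : QX ⟶ V} (hQX : IsPullback rX₁ rX₂ f f) {rY₁ rY₂ : QY ⟶ V}
    (hQY : IsPullback rY₁ rY₂ (f ≫ g) (f ≫ g)) {d : QX ⟶ QY} (hd₁ : d ≫ rY₁ = rX₁) (hd₂ : d ≫ rY₂ = rX₂)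
    (hdcl : RepWith @IsClosedImmersion d) : IsSeparatedMor g := by
  let A : ULift.{u} Bool → Sp S := fun b => bif b.down then U else V
  let e : ∀ b, A b ⟶ X := fun b => match b with
    | ⟨true⟩ => j
    | ⟨false⟩ => f
  -- `c` is a closed immersion
  have hqY : IsSeparatedMor qY := isSeparatedMor_of_isPullback hPY hjg
  have hqX : RepWith @IsOpenImmersion (c ≫ qY) := hc₂ ▸ repWith_of_isPullback hPX hsq.1
  have hc : RepWith @IsClosedImmersion c := by
    refine repWith_closed_of_immersion ?_ (hcl.isClosed_range)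
    have h1 : RepWith @IsImmersion (pullback.lift (𝟙 PX) c (by simp) : PX ⟶ pullback (c ≫ qY) qY) :=
      repWith_mono (fun _ _ g (_ : IsClosedImmersion g) => (inferInstance : IsImmersion g)) _ (graph_property hqY)
    have h2 : RepWith @IsImmersion (pullback.snd (c ≫ qY) qY) :=
      repWith_of_isPullback (IsPullback.of_hasPullback _ _)
        (repWith_mono (fun _ _ g (_ : IsOpenImmersion g) => (inferInstance : IsImmersion g)) _ hqX)
    have h3 := repWith_comp h1 h2
    rwa [pullback.lift_snd] at h3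
  refine isSeparatedMor_of_pieces hX hY hU hV hsq A e (fun b => ?_) (fun b => ?_) (fun x => ?_) (fun b b' => ?_)
  · obtain ⟨⟨⟩⟩ := b
    exacts [hV, hU]
  · obtain ⟨⟨⟩⟩ := b
    exacts [hsq.2.1, isEtaleMor_of_repWith_isOpenImmersion hsq.1]
  · rcases exists_preimage hsq x with h | h
    exacts [⟨⟨true⟩, h⟩, ⟨⟨false⟩, h⟩]
  · obtain ⟨⟨⟩⟩ := b <;> obtain ⟨⟨⟩⟩ := b'
    · exact repWith_map_of_comparison hQX hQY hd₁ hd₂ hdcl
    · exact repWith_map_of_comparison hPX.flip hPY.flip hc₂ hc₁ hc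
    · exact repWith_map_of_comparison hPX hPY hc₁ hc₂ hc
    · haveI : Mono j := AlgSpDec.mono_of_openImmersion hsq.1
      exact repWith_map_of_comparison (IsPullback.of_isLimit (PullbackCone.isLimitMkIdId j))
        (IsPullback.of_hasPullback (j ≫ g) (j ≫ g)) (pullback.diagonal_fst _) (pullback.diagonal_snd _) hjg

end Groth.Agent.AlgSpC7.SepElem
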