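import Mathlib
import Groth.Prelude.Def_CAlgX
import Groth.Agent.QRegBC.Basic

/-!
# `H₁`-regular and quasi-regular sequences: flat base change, faithfully flat descent, change of generators
-/

set_option autoImplicit false

universe u

open TensorProduct

namespace Groth.Agent.AlgSpC7

variable {R S : Type u} [CommRing R] [CommRing S] [Algebra R S] {c : ℕ}

/-- The trivial relations. -/
def triv {A : Type u} [CommRing A] {c : ℕ} (f : Fin c → A) : Submodule A (Fin c → A) :=
  Submodule.span A {v : Fin c → A | ∃ i j : Fin c, v = Pi.single i (f j) - Pi.single j (f i)}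

theorem map_mem_triv (f : Fin c → R) {a : Fin c → R} (ha : a ∈ triv f) :
    (fun i => algebraMap R S (a i)) ∈ triv (fun i => algebraMap R S (f i)) := by
  induction ha using Submodule.span_induction with
  | mem v hv =>
    obtain ⟨i, j, rfl⟩ := hv
    refine Submodule.subset_span ⟨i, j, ?_⟩
    funext k
    rw [Pi.sub_apply, Pi.sub_apply, map_sub, Pi.apply_single (fun _ => algebraMap R S) (fun _ => map_zero _),
      Pi.apply_single (fun _ => algebraMap R S) (fun _ => map_zero _)]
  | zero =>
    have : (fun i => algebraMap R S ((0 : Fin c → R) i)) = 0 := funext fun _ => map_zero _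
    rw [this]
    exact Submodule.zero_mem _
  | add x y _ _ hx hy =>
    have : (fun i => algebraMap R S ((x + y) i)) = (fun i => algebraMap R S (x i)) + fun i => algebraMap R S (y i) :=
      funext fun _ => map_add _ _ _
    rw [this]
    exact Submodule.add_mem _ hx hy
  | smul r x _ hx =>
    have : (fun i => algebraMap R S ((r • x) i)) = algebraMap R S r • fun i => algebraMap R S (x i) :=
      funext fun _ => map_mul _ _ _
    rw [this]
    exact Submodule.smul_mem _ _ hx

theorem isH1Regular_of_flat [Module.Flat R S] {f : Fin c → R} (hf : CAlgX.IsH1Regular f) :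
    CAlgX.IsH1Regular (fun i => algebraMap R S (f i)) := by
  intro b hb
  obtain ⟨κ, a, y, hay, hfa⟩ := Module.Flat.isTrivialRelation_of_sum_smul_eq_zero (R := R) (M := S)
    (f := f) (x := b) (by simpa [Algebra.smul_def, mul_comm] using hb)
  have hk : ∀ j : Fin κ, (fun i => a i j) ∈ triv f := fun j =>
    hf _ (by simpa [mul_comm] using hfa j)
  have hb' : b = ∑ j : Fin κ, y j • fun i => algebraMap R S (a i j) := by
    funext i
    rw [hay i, Finset.sum_apply]
    simp [Algebra.smul_def, mul_comm]
  rw [hb']
  exact Submodule.sum_mem _ fun j _ => Submodule.smul_mem _ _ (map_mem_triv f (hk j))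

theorem isH1Regular_of_faithfullyFlat [Module.FaithfullyFlat R S] {f : Fin c → R}
    (hf : CAlgX.IsH1Regular (fun i => algebraMap R S (f i))) : CAlgX.IsH1Regular f := by
  classical
  intro a ha
  let M := (Fin c → R) ⧸ triv f
  let q : (Fin c → R) →ₗ[R] M := (triv f).mkQ
  let ε : (Fin c → S) →ₗ[S] S ⊗[R] M :=
    Fintype.linearCombination S (fun i : Fin c => (1 : S) ⊗ₜ[R] q (Pi.single i 1))
  have hε : ∀ v : Fin c → R, ε (fun i => algebraMap R S (v i)) = (1 : S) ⊗ₜ[R] q v := by
    intro v
    rw [Fintype.linearCombination_apply]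
    conv_rhs => rw [pi_eq_sum_univ' v]
    rw [map_sum, TensorProduct.tmul_sum]
    refine Finset.sum_congr rfl fun i _ => ?_
    rw [algebraMap_smul, map_smul, TensorProduct.tmul_smul]
  have hzero : ∀ w ∈ triv (fun i => algebraMap R S (f i)), ε w = 0 := by
    intro w hw
    induction hw using Submodule.span_induction with
    | mem v hv =>
      obtain ⟨i, j, rfl⟩ := hv
      have h1 : (Pi.single i (algebraMap R S (f j)) - Pi.single j (algebraMap R S (f i)) : Fin c → S) =
          fun k => algebraMap R S ((Pi.single i (f j) - Pi.single j (f i) : Fin c → R) k) := by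
        funext k
        rw [Pi.sub_apply, Pi.sub_apply, map_sub, Pi.apply_single (fun _ => algebraMap R S) (fun _ => map_zero _),
          Pi.apply_single (fun _ => algebraMap R S) (fun _ => map_zero _)]
      rw [h1, hε, show q (Pi.single i (f j) - Pi.single j (f i)) = 0 from
        (Submodule.Quotient.mk_eq_zero _).2 (Submodule.subset_span ⟨i, j, rfl⟩), TensorProduct.tmul_zero]
    | zero => exact map_zero _
    | add x y _ _ hx hy => rw [map_add, hx, hy, add_zero]
    | smul r x _ hx => rw [map_smul, hx, smul_zero]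
  have h2 := hzero _ (hf (fun i => algebraMap R S (a i)) (by
    simp only [← map_mul]
    rw [← map_sum, ha, map_zero]))
  rw [hε] at h2
  have h3 : q a = 0 := Module.FaithfullyFlat.tensorProduct_mk_injective (A := R) (B := S) M
    (by simpa using h2)
  exact (Submodule.Quotient.mk_eq_zero _).1 h3

theorem isH1Regular_of_matrix {f g : Fin c → R} (hg : CAlgX.IsH1Regular g)
    (N M : Matrix (Fin c) (Fin c) R) (hNM : N * M = 1) (hfg : f = M.mulVec g) : CAlgX.IsH1Regular f := by
  have hMN : M * N = 1 := mul_eq_one_comm.1 hNM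
  have hgf : g = N.mulVec f := by rw [hfg, Matrix.mulVec_mulVec, hNM, Matrix.one_mulVec]
  intro a ha
  have h1 : ∑ i, (Matrix.vecMul a M) i * g i = 0 := by
    change Matrix.vecMul a M ⬝ᵥ g = 0
    rw [← Matrix.dotProduct_mulVec, ← hfg]
    exact ha
  have h2 : ∀ w ∈ triv g, Matrix.vecMul w N ∈ triv f := by
    intro w hw
    induction hw using Submodule.span_induction with
    | mem v hv =>
      obtain ⟨i, j, rfl⟩ := hv
      have h3 : Matrix.vecMul (Pi.single i (g j) - Pi.single j (g i)) N =
          ∑ k, ∑ l, (N i k * N j l) • (Pi.single k (f l) - Pi.single l (f k) : Fin c → R) := by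
        funext m
        have hg' : ∀ s, g s = ∑ l, N s l * f l := fun s => congrFun hgf s
        rw [Finset.sum_apply]
        simp only [Finset.sum_apply, Pi.smul_apply, Pi.sub_apply, smul_eq_mul, Matrix.sub_vecMul,
          Matrix.single_vecMul, mul_sub, Finset.sum_sub_distrib, Pi.single_apply, mul_ite, mul_zero,
          Finset.sum_ite_eq, Finset.mem_univ, if_true, hg', Finset.sum_mul, Finset.mul_sum]
        congr 1
        · refine ((Finset.sum_comm).trans ?_).symm
          simp only [Finset.sum_ite_eq, Finset.mem_univ, if_true]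
          exact Finset.sum_congr rfl fun l _ => by
            first
            | ring1
            | (show _ = _ * N i _; ring1)
            | (rw [Matrix.row_apply]; ring1)
            | (unfold Matrix.row; ring1)
        · simp only [Finset.sum_ite_eq, Finset.mem_univ, if_true, Matrix.row_apply, Finset.sum_mul]
          exact Finset.sum_congr rfl fun l _ => by
            first
            | ring1
            | (show _ = _ * N i _; ring1)
            | (rw [Matrix.row_apply]; ring1)
            | (unfold Matrix.row; ring1)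
      rw [h3]
      exact Submodule.sum_mem _ fun k _ => Submodule.sum_mem _ fun l _ =>
        Submodule.smul_mem _ _ (Submodule.subset_span ⟨k, l, rfl⟩)
    | zero => rw [Matrix.zero_vecMul]; exact Submodule.zero_mem _
    | add x y _ _ hx hy => rw [Matrix.add_vecMul]; exact Submodule.add_mem _ hx hy
    | smul r x _ hx => rw [Matrix.smul_vecMul]; exact Submodule.smul_mem _ _ hx
  have h4 := h2 _ (hg _ h1)
  rwa [Matrix.vecMul_vecMul, hMN, Matrix.vecMul_one] at h4

open MvPolynomial in
theorem isQuasiRegular_of_faithfullyFlat [Module.FaithfullyFlat R S] {f : Fin c → R}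
    (hf : CAlgX.IsQuasiRegular (fun i => algebraMap R S (f i))) : CAlgX.IsQuasiRegular f := by
  intro n P hP hmem d
  have hJ : Ideal.span (Set.range fun i => algebraMap R S (f i)) =
      (Ideal.span (Set.range f)).map (algebraMap R S) := by
    rw [Ideal.map_span, ← Set.range_comp]
    rfl
  have h := hf n (MvPolynomial.map (algebraMap R S) P) (hP.map _) (by
    rw [hJ, ← Ideal.map_pow, MvPolynomial.eval_map, ← Function.comp_def (algebraMap R S) f,
      ← MvPolynomial.eval₂_comp]
    exact Ideal.mem_map_of_mem _ hmem) d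
  rw [hJ, MvPolynomial.coeff_map] at h
  have := Ideal.mem_comap.2 h
  rwa [Ideal.comap_map_eq_self_of_faithfullyFlat] at this

open MvPolynomial in
set_option maxHeartbeats 1000000 in
theorem isQuasiRegular_of_flat [Module.Flat R S] {f : Fin c → R}
    (hf : CAlgX.IsQuasiRegular f) : CAlgX.IsQuasiRegular (fun i => algebraMap R S (f i)) := by
  classical
  intro n P hP hmem d
  have hJ : Ideal.span (Set.range fun i => algebraMap R S (f i)) =
      (Ideal.span (Set.range f)).map (algebraMap R S) := by
    rw [Ideal.map_span, ← Set.range_comp]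
    rfl
  obtain ⟨F, hF, hFP⟩ := LocalCrit.exists_isHomogeneous_eval_eq (fun i => algebraMap R S (f i)) hmem
  by_cases hd : d ∈ QRegBC.Mon c n
  swap
  · rw [hP.coeff_eq_zero (fun h => hd ((QRegBC.mem_Mon d).2 h))]
    exact zero_mem _
  let T := (QRegBC.Mon c n) ⊕ (QRegBC.Mon c (n + 1))
  let F' : T → R := Sum.elim (fun e => eval f (monomial (e : Fin c →₀ ℕ) 1))
    (fun e => eval f (monomial (e : Fin c →₀ ℕ) 1))
  let X' : T → S := Sum.elim (fun e => P.coeff (e : Fin c →₀ ℕ)) (fun e => -F.coeff (e : Fin c →₀ ℕ))
  have hev : ∀ (e : Fin c →₀ ℕ) (r : S), eval f (monomial e 1) • r =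
      eval (fun i => algebraMap R S (f i)) (monomial e r) := by
    intro e r
    rw [Algebra.smul_def, eval_monomial, eval_monomial, one_mul, map_finsuppProd, mul_comm]
    simp only [map_pow]
  have hsum : ∀ (m : ℕ) (Q : MvPolynomial (Fin c) S), Q.IsHomogeneous m →
      Q = ∑ e : QRegBC.Mon c m, monomial (e : Fin c →₀ ℕ) (Q.coeff (e : Fin c →₀ ℕ)) := by
    intro m Q hQ
    refine MvPolynomial.ext _ _ fun e => ?_
    rw [coeff_sum]
    by_cases he : e ∈ QRegBC.Mon c m
    · rw [Finset.sum_eq_single (⟨e, he⟩ : QRegBC.Mon c m) (fun b _ hb => by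
        rw [coeff_monomial, if_neg (fun h => hb (Subtype.ext h))]) (by simp), coeff_monomial, if_pos rfl]
    · rw [Finset.sum_eq_zero fun b _ => by
        rw [coeff_monomial, if_neg]; exact fun h : (b : Fin c →₀ ℕ) = e => he (h ▸ b.2),
        hQ.coeff_eq_zero (fun h => he ((QRegBC.mem_Mon e).2 h))]
  have hrel : ∑ t, F' t • X' t = 0 := by
    rw [Fintype.sum_sum_type]
    simp only [F', X', Sum.elim_inl, Sum.elim_inr, hev, map_neg, Finset.sum_neg_distrib, ← map_sum]
    rw [← hsum n P hP, ← hsum (n + 1) F hF, hFP, add_neg_cancel]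
  obtain ⟨κ, a, y, hay, hfa⟩ := Module.Flat.isTrivialRelation_of_sum_smul_eq_zero (R := R) (M := S) hrel
  have h0 := hay (Sum.inl ⟨d, hd⟩)
  simp only [X', Sum.elim_inl] at h0
  rw [h0, hJ]
  refine Ideal.sum_mem _ fun k _ => ?_
  rw [Algebra.smul_def]
  refine Ideal.mul_mem_right _ _ (Ideal.mem_map_of_mem _ ?_)
  let v : QRegBC.Mon c n → R := fun e => a (Sum.inl e) k
  refine (QRegBC.Phi_eq_zero f n hf v).1 ?_ ⟨d, hd⟩
  refine Ideal.Quotient.eq_zero_iff_mem.2 ?_
  have h2 := hfa k
  rw [Fintype.sum_sum_type] at h2
  simp only [F', Sum.elim_inl, Sum.elim_inr] at h2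
  have h3 : eval f (∑ e : QRegBC.Mon c n, monomial (e : Fin c →₀ ℕ) (v e)) =
      ∑ e : QRegBC.Mon c n, eval f (monomial (e : Fin c →₀ ℕ) 1) * a (Sum.inl e) k := by
    rw [map_sum]
    refine Finset.sum_congr rfl fun e _ => ?_
    simp only [eval_monomial, v, one_mul]
    ring
  rw [h3, eq_neg_of_add_eq_zero_left h2]
  refine neg_mem (Ideal.sum_mem _ fun e _ => Ideal.mul_mem_right _ _ ?_)
  exact QRegBC.monomial_mem f e.2 1

/-- A finite family generating the ideal of a quasi-regular sequence has at least as many elements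
as the sequence, modulo any prime containing the ideal. -/
theorem coeff_mem_of_quasiRegular {g : Fin c → R} (hg : CAlgX.IsQuasiRegular g) (v : Fin c → R)
    (hv : ∑ i, v i * g i ∈ Ideal.span (Set.range g) ^ 2) (i : Fin c) : v i ∈ Ideal.span (Set.range g) := by
  classical
  have h := hg 1 (∑ j, MvPolynomial.monomial (Finsupp.single j 1) (v j))
    (MvPolynomial.IsHomogeneous.sum _ _ _ fun j _ => MvPolynomial.isHomogeneous_monomial _ (Finsupp.degree_single j 1))
    (by
      rw [map_sum]
      simpa [MvPolynomial.eval_monomial] using hv) (Finsupp.single i 1)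
  rw [MvPolynomial.coeff_sum, Finset.sum_eq_single i (fun j _ hj => by
    rw [MvPolynomial.coeff_monomial, if_neg (fun h => hj (Finsupp.single_left_injective one_ne_zero h))]) (by simp),
    MvPolynomial.coeff_monomial, if_pos rfl] at h
  exact h

end Groth.Agent.AlgSpC7
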