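import Groth.Prelude.Def_RegImm
import Groth.Agent.AlgSpC7.SeqFlat
import Groth.Agent.KRegLib.Kinds
import Groth.Agent.KRegLib.FFDescent

/-!
# Koszul regular, `H₁`-regular and quasi-regular sequences: common properties and descent along flat open maps
-/

set_option autoImplicit false

universe u

namespace Groth.Agent.AlgSpC7

/-- What is used of the three kinds of sequences. -/
structure SeqKind (k : RegImm.Kind) where
  /-- the predicate on finite families -/
  Φ : ∀ {R : Type u} [CommRing R] {n : ℕ}, (Fin n → R) → Prop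
  seq_iff : ∀ {R : Type u} [CommRing R] (rs : List R), k.Seq R rs ↔ Φ rs.get
  flat : ∀ {R S : Type u} [CommRing R] [CommRing S] [Algebra R S] [Module.Flat R S] {n : ℕ} {f : Fin n → R},
    Φ f → Φ (fun i => algebraMap R S (f i))
  descend : ∀ {R S : Type u} [CommRing R] [CommRing S] [Algebra R S] [Module.FaithfullyFlat R S] {n : ℕ}
    {f : Fin n → R}, Φ (fun i => algebraMap R S (f i)) → Φ f
  change : ∀ {R : Type u} [CommRing R] {n : ℕ} {g : Fin n → R}, Φ g →
    ∀ M : Matrix (Fin n) (Fin n) R, IsUnit M.det → Φ (M.mulVec g)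
  quasi : ∀ {R : Type u} [CommRing R] {n : ℕ} {f : Fin n → R}, Φ f → CAlgX.IsQuasiRegular f

theorem span_mulVec_eq {R : Type u} [CommRing R] {n : ℕ} (g : Fin n → R) (M : Matrix (Fin n) (Fin n) R)
    (hM : IsUnit M.det) : Ideal.span (Set.range (M.mulVec g)) = Ideal.span (Set.range g) := by
  have h1 : ∀ (A : Matrix (Fin n) (Fin n) R) (v : Fin n → R),
      Ideal.span (Set.range (A.mulVec v)) ≤ Ideal.span (Set.range v) := by
    intro A v
    refine Ideal.span_le.2 ?_
    rintro _ ⟨i, rfl⟩
    show ∑ j, A i j * v j ∈ Ideal.span (Set.range v)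
    exact Ideal.sum_mem _ fun j _ => Ideal.mul_mem_left _ _ (Ideal.subset_span ⟨j, rfl⟩)
  refine le_antisymm (h1 M g) ?_
  conv_lhs => rw [show g = M⁻¹.mulVec (M.mulVec g) by
    rw [Matrix.mulVec_mulVec, Matrix.nonsing_inv_mul _ hM, Matrix.one_mulVec]]
  exact h1 _ _

/-- The Koszul kind. -/
def koszulKind : SeqKind.{u} .koszul where
  Φ f := WiebeLib.IsExact f
  seq_iff rs := ⟨fun h => WiebeLib.isExact_of_isKoszulRegularSeq _ (by rw [List.ofFn_get]; exact h), fun h => by
    have := KoszulFlatLib.isKoszulRegularSeq_of_isExact h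
    rwa [List.ofFn_get] at this⟩
  flat h := WiebeLib.isExact_map h
  descend h := KRegLib.isExact_of_faithfullyFlat h
  change {_ _ _ g} h M hM := KRegLib.isExact_of_isUnit_det h M⁻¹ (Matrix.isUnit_nonsing_inv_det _ hM) (fun i => by
    conv_lhs => rw [show g = M⁻¹.mulVec (M.mulVec g) by
      rw [Matrix.mulVec_mulVec, Matrix.nonsing_inv_mul _ hM, Matrix.one_mulVec]]
    rfl)
  quasi {R} _ {n} {f} h := by
    have h1 := KRegLib.quasi_of_seq .koszul (List.ofFn f) (KoszulFlatLib.isKoszulRegularSeq_of_isExact h)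
    have key : ∀ (m : ℕ) (hm : m = n) (g : Fin m → R), g = f ∘ Fin.cast hm →
        CAlgX.IsQuasiRegular g → CAlgX.IsQuasiRegular f := by
      rintro m rfl g rfl hg
      exact hg
    exact key _ List.length_ofFn _ (funext fun i => by simp [Fin.cast]) h1

/-- The `H₁` kind. -/
def h1Kind : SeqKind.{u} .h1 where
  Φ f := CAlgX.IsH1Regular f
  seq_iff _ := Iff.rfl
  flat h := isH1Regular_of_flat h
  descend h := isH1Regular_of_faithfullyFlat h
  change h M hM := isH1Regular_of_matrix h M⁻¹ M (Matrix.nonsing_inv_mul _ hM) rfl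
  quasi h := Groth.Agent.S2103.result _ h

/-- The quasi-regular kind. -/
def quasiKind : SeqKind.{u} .quasi where
  Φ f := CAlgX.IsQuasiRegular f
  seq_iff _ := Iff.rfl
  flat h := isQuasiRegular_of_flat h
  descend h := isQuasiRegular_of_faithfullyFlat h
  change h M hM := LinType.isQuasiRegular_of_span_eq _ _ h (span_mulVec_eq _ M hM)
  quasi h := h

theorem nonempty_seqKind {k : RegImm.Kind}
    (hk : k = .koszul ∨ k = .h1 ∨ k = .quasi) : Nonempty (SeqKind.{u} k) := by
  rcases hk with rfl | rfl | rfl
  exacts [⟨koszulKind⟩, ⟨h1Kind⟩, ⟨quasiKind⟩]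

variable {k : RegImm.Kind} (K : SeqKind.{u} k)

theorem SeqKind.seq_ofFn {R : Type u} [CommRing R] {n : ℕ} {f : Fin n → R} (h : K.Φ f) :
    k.Seq R (List.ofFn f) := by
  have key : ∀ (m : ℕ) (hm : m = n) (g : Fin m → R), g = f ∘ Fin.cast hm → K.Φ g := by
    rintro m rfl g rfl
    exact h
  exact (K.seq_iff _).2 (key _ List.length_ofFn _ (funext fun i => by simp [Fin.cast]))

/-- The rows of a matrix with a left inverse contain a basis. -/
theorem exists_rows_det_ne_zero {F : Type u} [Field F] {m : ℕ} {ι : Type*} [Fintype ι]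
    (C : Matrix ι (Fin m) F) (D : Matrix (Fin m) ι F) (h : D * C = 1) :
    ∃ σ : Fin m → ι, (C.submatrix σ id).det ≠ 0 := by
  have hs : Submodule.span F (Set.range C) = ⊤ := by
    refine eq_top_iff.2 fun v _ => ?_
    have hv : v = ∑ i, (Matrix.vecMul v D) i • C i := by
      conv_lhs => rw [show v = Matrix.vecMul (Matrix.vecMul v D) C by rw [Matrix.vecMul_vecMul, h, Matrix.vecMul_one]]
      funext j
      rw [Finset.sum_apply]
      rfl
    rw [hv]
    exact Submodule.sum_mem _ fun i _ => Submodule.smul_mem _ _ (Submodule.subset_span ⟨i, rfl⟩)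
  obtain ⟨b, hbs, hbspan, hbli⟩ := exists_linearIndependent F (Set.range C)
  have hbasis : Module.Basis b F (Fin m → F) := Module.Basis.mk hbli (by rw [Subtype.range_coe, hbspan, hs])
  have : Finite b := Module.Finite.finite_basis hbasis
  have : Fintype b := Fintype.ofFinite b
  have hcard : Fintype.card b = m := by
    rw [← Module.finrank_eq_card_basis hbasis, Module.finrank_fin_fun]
  let e : Fin m ≃ b := (Fintype.equivFinOfCardEq hcard).symm
  choose σ hσ using fun i : Fin m => hbs (e i).2
  refine ⟨σ, IsUnit.ne_zero ((Matrix.isUnit_iff_isUnit_det _).1 ?_)⟩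
  refine Matrix.linearIndependent_rows_iff_isUnit.1 ?_
  have : (C.submatrix σ id).row = (fun x : b => (x : Fin m → F)) ∘ e := funext fun i => hσ i
  rw [this]
  exact hbli.comp e e.injective

/-- Descent of a regular generating family along a flat map which is open on spectra. -/
theorem SeqKind.exists_of_flat {A B : Type u} [CommRing A] [CommRing B] [Algebra A B] [Module.Flat A B]
    (hopen : IsOpenMap (PrimeSpectrum.comap (algebraMap A B))) (I : Ideal A) (q : PrimeSpectrum B)
    (hq : I.map (algebraMap A B) ≤ q.asIdeal) {m : ℕ} (g : Fin m → B) (hg : K.Φ g)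
    (hgI : I.map (algebraMap A B) = Ideal.span (Set.range g)) :
    ∃ a : A, a ∉ q.asIdeal.comap (algebraMap A B) ∧ ∀ (A' : Type u) [CommRing A'] [Algebra A A']
      [IsLocalization.Away a A'], ∃ (n : ℕ) (f : Fin n → A'), K.Φ f ∧
        I.map (algebraMap A A') = Ideal.span (Set.range f) := by
  classical
  obtain ⟨s, hsI, hs⟩ : ∃ s : Finset A, (s : Set A) ⊆ I ∧
      Ideal.span (algebraMap A B '' s) = I.map (algebraMap A B) := by
    obtain ⟨t, ht, ht'⟩ := Submodule.fg_span_iff_fg_span_finset_subset (R := B) (algebraMap A B '' I) |>.1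
      (show (Ideal.span (algebraMap A B '' I)).FG by
        rw [show Ideal.span (algebraMap A B '' (I : Set A)) = I.map (algebraMap A B) from rfl, hgI]
        exact Submodule.fg_span (Set.finite_range g))
    choose pre hpre hpre' using fun x : t => ht x.2
    refine ⟨Finset.univ.image pre, ?_, ?_⟩
    · simp only [Finset.coe_image, Finset.coe_univ, Set.image_univ]
      rintro _ ⟨x, rfl⟩
      exact hpre x
    · refine le_antisymm (Ideal.span_le.2 ?_) ?_
      · simp only [Finset.coe_image, Finset.coe_univ, Set.image_univ]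
        rintro _ ⟨_, ⟨x, rfl⟩, rfl⟩
        exact Ideal.mem_map_of_mem _ (hpre x)
      · show Submodule.span B (algebraMap A B '' I) ≤ _
        rw [ht']
        refine Submodule.span_le.2 fun y hy => Ideal.subset_span ?_
        exact ⟨pre ⟨y, hy⟩, by simp, hpre' ⟨y, hy⟩⟩
  have hC : ∀ x : s, ∃ c : Fin m → B, ∑ j, c j * g j = algebraMap A B x := fun x =>
    Ideal.mem_span_range_iff_exists_fun.1 (by
      rw [← hgI]
      exact Ideal.mem_map_of_mem _ (hsI x.2))
  choose C hC using hC
  have hD : ∀ i, ∃ d : s → B, ∑ x, d x * algebraMap A B x = g i := fun i =>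
    Ideal.mem_span_range_iff_exists_fun.1 (by
      have h1 : g i ∈ I.map (algebraMap A B) := hgI ▸ Ideal.subset_span ⟨i, rfl⟩
      rw [← hs] at h1
      rwa [show Set.range (fun x : s => algebraMap A B x) = algebraMap A B '' s by ext; simp])
  choose D hD using hD
  let Cm : Matrix s (Fin m) B := C
  let Dm : Matrix (Fin m) s B := D
  let E : Matrix (Fin m) (Fin m) B := Dm * Cm - (1 : Matrix (Fin m) (Fin m) B)
  have hDC : ∀ i j, E i j ∈ Ideal.span (Set.range g) := by
    intro i j
    refine coeff_mem_of_quasiRegular (K.quasi hg) (fun j => E i j) ?_ j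
    have h0 : (Dm * Cm - (1 : Matrix (Fin m) (Fin m) B)).mulVec g = 0 := by
      rw [Matrix.sub_mulVec, Matrix.one_mulVec, ← Matrix.mulVec_mulVec,
        show Cm.mulVec g = fun x : s => algebraMap A B x from funext hC,
        show Dm.mulVec (fun x : s => algebraMap A B x) = g from funext hD, sub_self]
    have h1 : ∑ l, E i l * g l = 0 := congrFun h0 i
    rw [h1]
    exact zero_mem _
  let κ : B →+* q.asIdeal.ResidueField := algebraMap B _
  have hκ : Dm.map κ * Cm.map κ = 1 := by
    rw [← Matrix.map_mul]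
    ext i j
    have h1 : κ (E i j) = 0 :=
      (Ideal.algebraMap_residueField_eq_zero).2 (hq (hgI ▸ hDC i j))
    simp only [E, Matrix.sub_apply, map_sub, sub_eq_zero] at h1
    rw [Matrix.map_apply, h1]
    by_cases h : i = j <;> simp [h, Matrix.one_apply]
  obtain ⟨σ, hσ⟩ := exists_rows_det_ne_zero _ _ hκ
  let δ : B := (Cm.submatrix σ id).det
  have hδ : δ ∉ q.asIdeal := fun h => hσ (by
    rw [show (Cm.map κ).submatrix σ id = (Cm.submatrix σ id).map κ from rfl,
      show ((Cm.submatrix σ id).map κ).det = κ δ from (RingHom.map_det κ _).symm]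
    exact Ideal.algebraMap_residueField_eq_zero.2 h)
  obtain ⟨_, ⟨a, rfl⟩, hqa, ha⟩ := PrimeSpectrum.isTopologicalBasis_basic_opens.exists_subset_of_mem_open
    (show PrimeSpectrum.comap (algebraMap A B) q ∈
      PrimeSpectrum.comap (algebraMap A B) '' (PrimeSpectrum.basicOpen δ : Set (PrimeSpectrum B)) from
      ⟨q, hδ, rfl⟩) (hopen _ (PrimeSpectrum.basicOpen δ).2)
  refine ⟨a, hqa, fun A' _ _ _ => ?_⟩
  let b : B := δ * algebraMap A B a
  let B' := Localization.Away b
  have hau : IsUnit (algebraMap A B' a) := by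
    rw [IsScalarTower.algebraMap_apply A B B']
    exact isUnit_of_dvd_unit (map_dvd _ (dvd_mul_left _ δ)) (IsLocalization.Away.algebraMap_isUnit b)
  have hδu : IsUnit (algebraMap B B' δ) :=
    isUnit_of_dvd_unit (map_dvd _ (dvd_mul_right δ _)) (IsLocalization.Away.algebraMap_isUnit b)
  letI : Algebra A' B' := (IsLocalization.Away.lift (S := A') a hau).toAlgebra
  haveI : IsScalarTower A A' B' := IsScalarTower.of_algebraMap_eq fun x =>
    (IsLocalization.Away.lift_eq a hau x).symm
  haveI : Module.Flat B B' := IsLocalization.flat _ (Submonoid.powers b)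
  haveI : Module.Flat A B' := Module.Flat.trans A B B'
  haveI : Module.Flat A' B' := (Module.flat_iff_of_isLocalization A' (Submonoid.powers a) B').2 inferInstance
  haveI : Module.FaithfullyFlat A' B' := Module.FaithfullyFlat.of_comap_surjective fun P => by
    have hP : a ∉ (P.asIdeal.comap (algebraMap A A')) := fun h =>
      P.2.ne_top (P.asIdeal.eq_top_of_isUnit_mem h (IsLocalization.Away.algebraMap_isUnit a))
    obtain ⟨Q, hQδ, hQ⟩ := ha (show PrimeSpectrum.comap (algebraMap A A') P ∈ PrimeSpectrum.basicOpen a from hP)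
    have hQb : b ∉ Q.asIdeal := fun h => (Q.2.mem_or_mem h).elim hQδ fun h2 => hP (by
      have := congrArg PrimeSpectrum.asIdeal hQ
      simp only [PrimeSpectrum.comap_asIdeal] at this
      rw [← this]
      exact h2)
    obtain ⟨Q', hQ'⟩ : Q ∈ Set.range (PrimeSpectrum.comap (algebraMap B B')) := by
      rw [PrimeSpectrum.localization_away_comap_range B' b]
      exact hQb
    refine ⟨Q', PrimeSpectrum.localization_comap_injective A' (Submonoid.powers a) ?_⟩
    rw [← hQ, ← hQ', ← PrimeSpectrum.comap_comp_apply, ← PrimeSpectrum.comap_comp_apply,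
      ← IsScalarTower.algebraMap_eq, ← IsScalarTower.algebraMap_eq]
  let f : Fin m → A := fun i => (σ i : A)
  let M : Matrix (Fin m) (Fin m) B' := (Cm.submatrix σ id).map (algebraMap B B')
  have hM : IsUnit M.det := by
    rw [show M.det = algebraMap B B' δ from (RingHom.map_det (algebraMap B B') _).symm]
    exact hδu
  have hfM : (fun i => algebraMap A' B' (algebraMap A A' (f i))) = M.mulVec (fun i => algebraMap B B' (g i)) := by
    funext i
    rw [← IsScalarTower.algebraMap_apply, IsScalarTower.algebraMap_apply A B B', ← hC (σ i), map_sum]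
    exact Finset.sum_congr rfl fun j _ => map_mul _ _ _
  refine ⟨m, fun i => algebraMap A A' (f i), K.descend (S := B') (hfM ▸ K.change (K.flat hg) M hM), ?_⟩
  have h1 : (I.map (algebraMap A A')).map (algebraMap A' B') =
      (Ideal.span (Set.range fun i => algebraMap A A' (f i))).map (algebraMap A' B') := by
    rw [Ideal.map_map, ← IsScalarTower.algebraMap_eq, IsScalarTower.algebraMap_eq A B B', ← Ideal.map_map,
      hgI, Ideal.map_span, Ideal.map_span, ← Set.range_comp, ← Set.range_comp]
    refine Eq.trans ?_ (congrArg (fun v => Ideal.span (Set.range v)) hfM).symm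
    exact (span_mulVec_eq _ M hM).symm
  have := congrArg (Ideal.comap (algebraMap A' B')) h1
  rwa [Ideal.comap_map_eq_self_of_faithfullyFlat, Ideal.comap_map_eq_self_of_faithfullyFlat] at this

end Groth.Agent.AlgSpC7
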