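import Groth.Agent.AlgSpLib.Sheaf
import Groth.Agent.AlgSpDec.Glue
import Groth.Agent.AlgSpDec.Cofan

/-!
# Gluing morphisms of sheaves from locally defined functional relations
-/

set_option backward.isDefEq.respectTransparency false
set_option backward.isDefEq.respectTransparency.types false
set_option autoImplicit false

universe u

open CategoryTheory CategoryTheory.Limits AlgebraicGeometry AlgSp Opposite Groth.Agent.AlgSpLib

namespace Groth.Agent.AlgSpC7.SheafGlue

variable {S : Scheme.{u}}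

/-- A sieve containing two jointly surjective etale morphisms is covering. -/
theorem mem_J_of_etale_pair {T A B : Over S} (α : A ⟶ T) (β : B ⟶ T) [Etale α.left] [Etale β.left]
    (hsurj : ∀ t : ↥T.left, (∃ a, α.left a = t) ∨ ∃ b, β.left b = t) {R : Sieve T} (hα : R α) (hβ : R β) :
    R ∈ J S T := by
  let W : ULift.{u} Bool → Over S := fun i => bif i.down then A else B
  let φ : ∀ i, W i ⟶ T := fun i => match i with
    | ⟨true⟩ => α
    | ⟨false⟩ => β
  have hφ : ∀ i, R (φ i) := fun i => match i with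
    | ⟨true⟩ => hα
    | ⟨false⟩ => hβ
  have het : ∀ i, Etale (φ i).left := fun i => match i with
    | ⟨true⟩ => inferInstanceAs (Etale α.left)
    | ⟨false⟩ => inferInstanceAs (Etale β.left)
  let σ : AlgSpDec.sigmaOver W ⟶ T :=
    Over.homMk (Sigma.desc fun i => (φ i).left) (Sigma.hom_ext _ _ fun i => by
      rw [← Category.assoc, Sigma.ι_desc, Over.w (φ i)]
      exact (Sigma.ι_desc (fun i => (W i).hom) i).symm)
  have hσι : ∀ i, AlgSpDec.sigmaι W i ≫ σ = φ i := fun i =>
    Over.OverMorphism.ext (Sigma.ι_desc (fun i => (φ i).left) i)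
  have : Etale σ.left := IsZariskiLocalAtSource.sigmaDesc (P := @Etale) het
  have : Surjective σ.left := ⟨fun t => by
    obtain ⟨i, w, hw⟩ : ∃ i w, (φ i).left w = t := (hsurj t).elim
      (fun ⟨a, ha⟩ => ⟨⟨true⟩, a, ha⟩) (fun ⟨b, hb⟩ => ⟨⟨false⟩, b, hb⟩)
    exact ⟨(AlgSpDec.sigmaι W i).left w, by
      rw [← Scheme.Hom.comp_apply]; exact (congrArg (fun q : _ ⟶ T => q.left w) (hσι i)).trans hw⟩⟩
  refine (J S).transitive (mem_J_of_fppf σ (fppf_of_etale _) (Sieve.generate (Presieve.singleton σ))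
    ⟨_, 𝟙 _, σ, Presieve.singleton_self σ, Category.id_comp _⟩) R ?_
  rintro Y _ ⟨_, e, _, ⟨⟩, rfl⟩
  rw [Sieve.pullback_comp]
  refine (J S).pullback_stable e ?_
  refine AlgSpDec.mem_J_of_openCover (sigmaOpenCover fun i => (W i).left) _ fun i => ?_
  let e' : Over.mk ((sigmaOpenCover fun i => (W i).left).f i ≫ (AlgSpDec.sigmaOver W).hom) ⟶ W i :=
    Over.homMk (𝟙 _) (by
      rw [Category.id_comp]; exact (Sigma.ι_desc (fun i => (W i).hom) i).symm)
  have he : (Over.homMk ((sigmaOpenCover fun i => (W i).left).f i) rfl :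
      Over.mk ((sigmaOpenCover fun i => (W i).left).f i ≫ (AlgSpDec.sigmaOver W).hom) ⟶
        AlgSpDec.sigmaOver W) ≫ σ = e' ≫ φ i :=
    Over.OverMorphism.ext ((Sigma.ι_desc (fun i => (φ i).left) i).trans (Category.id_comp _).symm)
  show R _
  rw [he]
  exact R.downward_closed (hφ i) e'

theorem hom_ext_yon {W Z : Sp S} {m m' : W ⟶ Z}
    (h : ∀ (T : Over S) (g : (yon S).obj T ⟶ W), g ≫ m = g ≫ m') : m = m' := by
  apply Sheaf.hom_ext
  ext T s
  obtain ⟨g, hg⟩ : ∃ g : (yon S).obj T.unop ⟶ W, (J S).uliftYonedaEquiv g = s := (J S).uliftYonedaEquiv.surjective _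
  subst hg
  exact (((J S).uliftYonedaEquiv_comp (α := g) (β := m)).symm.trans
    (congrArg (J S).uliftYonedaEquiv (h T.unop g))).trans ((J S).uliftYonedaEquiv_comp (α := g) (β := m'))

variable {W Z : Sp S} (Rel : ∀ T : Over S, ((yon S).obj T ⟶ W) → ((yon S).obj T ⟶ Z) → Prop)

/-- A functional relation between sections, stable under restriction and locally total, defines a unique
morphism of sheaves. -/
theorem existsUnique_hom
    (hnat : ∀ {T T' : Over S} (φ : T' ⟶ T) g z, Rel T g z → Rel T' ((yon S).map φ ≫ g) ((yon S).map φ ≫ z))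
    (hfun : ∀ {T : Over S} g z z', Rel T g z → Rel T g z' → z = z')
    (htot : ∀ {T : Over S} (g : (yon S).obj T ⟶ W), ∃ R ∈ J S T, ∀ ⦃T' : Over S⦄ (φ : T' ⟶ T), R φ →
      ∃ z, Rel T' ((yon S).map φ ≫ g) z) :
    ∃! m : W ⟶ Z, ∀ (T : Over S) g z, Rel T g z → g ≫ m = z := by
  have amalg : ∀ {T : Over S} (g : (yon S).obj T ⟶ W), ∃ z₀ : (yon S).obj T ⟶ Z,
      ∀ ⦃T' : Over S⦄ (φ : T' ⟶ T) z, Rel T' ((yon S).map φ ≫ g) z → (yon S).map φ ≫ z₀ = z := by
    intro T g
    obtain ⟨R, hR, hz⟩ := htot g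
    choose z hz using hz
    let x : Presieve.FamilyOfElements Z.obj R.arrows := fun T' φ hφ => (J S).uliftYonedaEquiv (z φ hφ)
    have hx : x.Compatible := by
      intro Y₁ Y₂ Y g₁ g₂ f₁ f₂ h₁ h₂ hc
      dsimp only [x]
      rw [uliftYonedaEquiv_precomp, uliftYonedaEquiv_precomp]
      refine congrArg _ (hfun _ _ _ (hnat g₁ _ _ (hz f₁ h₁)) ?_)
      rw [← Category.assoc, ← Functor.map_comp, hc, Functor.map_comp, Category.assoc]
      exact hnat g₂ _ _ (hz f₂ h₂)
    have hS := ((isSheaf_iff_isSheaf_of_type _ _).1 Z.property) R hR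
    refine ⟨(J S).uliftYonedaEquiv.symm (hS.amalgamate x hx), fun T' φ w hw => ?_⟩
    refine hom_ext_of_covering _ _ ((J S).pullback_stable φ hR) fun T'' ψ hψ => ?_
    have h1 := hS.valid_glue hx (ψ ≫ φ) hψ
    rw [← Category.assoc, ← Functor.map_comp]
    apply (J S).uliftYonedaEquiv.injective
    rw [← uliftYonedaEquiv_precomp, Equiv.apply_symm_apply, h1]
    show (J S).uliftYonedaEquiv (z (ψ ≫ φ) hψ) = _
    refine congrArg (J S).uliftYonedaEquiv (hfun _ _ _ (hz (ψ ≫ φ) hψ) ?_)
    rw [Functor.map_comp, Category.assoc]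
    exact hnat ψ _ _ hw
  choose val hval using @amalg
  have hnatv : ∀ {T T' : Over S} (φ : T' ⟶ T) (g : (yon S).obj T ⟶ W),
      val ((yon S).map φ ≫ g) = (yon S).map φ ≫ val g := by
    intro T T' φ g
    obtain ⟨R, hR, hz⟩ := htot ((yon S).map φ ≫ g)
    refine hom_ext_of_covering _ _ hR fun T'' ψ hψ => ?_
    obtain ⟨z, hz⟩ := hz ψ hψ
    rw [hval _ ψ z hz, ← Category.assoc, ← Functor.map_comp]
    refine (hval g (ψ ≫ φ) z ?_).symm
    rwa [Functor.map_comp, Category.assoc]
  let m : W ⟶ Z := ⟨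
    { app := fun T => TypeCat.ofHom fun s =>
        (J S).uliftYonedaEquiv (val ((J S).uliftYonedaEquiv.symm (show W.obj.obj (op T.unop) from s)))
      naturality := fun T T' φ => by
        ext s
        show (J S).uliftYonedaEquiv (val ((J S).uliftYonedaEquiv.symm (W.obj.map φ s))) =
          Z.obj.map φ ((J S).uliftYonedaEquiv (val ((J S).uliftYonedaEquiv.symm s)))
        rw [show φ = φ.unop.op from rfl, uliftYonedaEquiv_precomp, ← hnatv]
        congr 2
        apply (J S).uliftYonedaEquiv.injective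
        rw [Equiv.apply_symm_apply, ← uliftYonedaEquiv_precomp, Equiv.apply_symm_apply] }⟩
  have hm : ∀ {T : Over S} (g : (yon S).obj T ⟶ W), g ≫ m = val g := fun {T} g => by
    apply (J S).uliftYonedaEquiv.injective
    rw [GrothendieckTopology.uliftYonedaEquiv_comp]
    show (J S).uliftYonedaEquiv (val ((J S).uliftYonedaEquiv.symm ((J S).uliftYonedaEquiv g))) = _
    rw [Equiv.symm_apply_apply]
  have hid : ∀ {T : Over S} (g : (yon S).obj T ⟶ W) z, Rel T g z → val g = z := fun {T} g z hz => by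
    have h := hval g (𝟙 T) z (by rw [CategoryTheory.Functor.map_id, Category.id_comp]; exact hz)
    rwa [CategoryTheory.Functor.map_id, Category.id_comp] at h
  refine ⟨m, fun T g z hz => (hm g).trans (hid g z hz), fun m' hm' => ?_⟩
  refine hom_ext_yon fun T g => ?_
  obtain ⟨R, hR, hz⟩ := htot g
  refine hom_ext_of_covering _ _ hR fun T' φ hφ => ?_
  obtain ⟨z, hz⟩ := hz φ hφ
  rw [← Category.assoc, ← Category.assoc, hm' _ _ z hz, hm]
  exact (hid _ z hz).symm

end Groth.Agent.AlgSpC7.SheafGlue
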